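import Cfsg.Agent.Lib.Ree.Inst

/-! The action on the cosets of `B`, the trivial intersection property. -/

set_option autoImplicit false
set_option maxRecDepth 100000
set_option linter.unusedSimpArgs false
set_option linter.unusedVariables false
set_option linter.unusedSectionVars false

namespace Cfsg.Agent.Lib.Ree

open scoped Pointwise

namespace RD

variable {K : Type*} [Field K] {f : K ≃+* K} {G : Type*} [Group G] (R : RD K f G)

theorem units_sq {s : Kˣ} (h : (s : K) ^ 2 = 1) : s = 1 ∨ s = -1 := by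
  have h1 : ((s : K) - 1) * ((s : K) + 1) = 0 := by linear_combination h
  rcases mul_eq_zero.mp h1 with h2 | h2
  · left
    exact Units.ext (by simpa using sub_eq_zero.mp h2)
  · right
    apply Units.ext
    simpa using eq_neg_of_add_eq_zero_left h2

variable [CharP K 3]

include R in
/-- The characters of the action of `H` on `U`: only `±1` fixes a point. -/
theorem sq_eq_of_fix {s : Kˣ} {a b c : K}
    (hne : ¬ (a = 0 ∧ b = 0 ∧ c = 0))
    (e1 : (s : K)⁻¹ ^ 3 * f (s : K) ^ 6 * a = a)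
    (e2 : (s : K) ^ 3 * (f (s : K))⁻¹ ^ 3 * b = b)
    (e3 : f (s : K) ^ 3 * c = c) : (s : K) ^ 2 = 1 := by
  by_contra hs
  apply hne
  have k1 := Cfsg.Agent.Lib.Chev.TwG2.chi1 f R.hf3 hs
  have k2 := Cfsg.Agent.Lib.Chev.TwG2.chi2 f R.hf3 hs
  have k3 := Cfsg.Agent.Lib.Chev.TwG2.chi3 f R.hf3 hs
  refine ⟨?_, ?_, ?_⟩
  · have : ((s : K)⁻¹ ^ 3 * f (s : K) ^ 6 - 1) * a = 0 := by linear_combination e1
    exact (mul_eq_zero.mp this).resolve_left (sub_ne_zero.mpr k1)
  · have : ((s : K) ^ 3 * (f (s : K))⁻¹ ^ 3 - 1) * b = 0 := by linear_combination e2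
    exact (mul_eq_zero.mp this).resolve_left (sub_ne_zero.mpr k2)
  · have : (f (s : K) ^ 3 - 1) * c = 0 := by linear_combination e3
    exact (mul_eq_zero.mp this).resolve_left (sub_ne_zero.mpr k3)

/-- Only `±1` in `H` fixes another point. -/
theorem fix_stab {s : Kˣ} {a b c : K} (hne : ¬ (a = 0 ∧ b = 0 ∧ c = 0)) {y : G} (hy : y ∈ R.B)
    (h : R.h s * (R.t a b c * R.n) = (R.t a b c * R.n) * y) : s = 1 ∨ s = -1 := by
  have e0 := R.h_mul_t s a b c
  set a' := (s : K)⁻¹ ^ 3 * f (s : K) ^ 6 * a with ha'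
  set b' := (s : K) ^ 3 * (f (s : K))⁻¹ ^ 3 * b with hb'
  set c' := f (s : K) ^ 3 * c with hc'
  have e1 : (R.t a b c)⁻¹ * R.t a' b' c' * R.n = R.n * (y * R.h s) := by
    have e2 : R.t a' b' c' * R.h s * R.n = R.t a b c * R.n * y := by
      rw [← e0, ← h]
      group
    have e3 : R.t a' b' c' * R.n = R.t a b c * R.n * (y * R.h s) := by
      have e4 : R.t a' b' c' * R.h s * R.n = R.t a' b' c' * R.n * R.h s⁻¹ := by
        rw [mul_assoc, R.h_mul_n, mul_assoc]
      rw [e4] at e2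
      rw [← mul_assoc, ← e2]
      rw [mul_assoc, ← map_mul]
      simp
    rw [mul_assoc, e3]
    group
  have h1 : (R.t a b c)⁻¹ * R.t a' b' c' ∈ R.U := Subgroup.mul_mem _ (Subgroup.inv_mem _ (R.t_mem _ _ _)) (R.t_mem _ _ _)
  have h2 := R.U_inf_n h1 (Subgroup.mul_mem _ hy (R.h_mem_B s)) e1
  have h3 : R.t a' b' c' = R.t a b c := by
    have := inv_mul_eq_one.mp h2
    exact this.symm
  obtain ⟨k1, k2, k3⟩ := R.t_inj h3
  exact units_sq (R.sq_eq_of_fix hne k1 k2 k3)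

omit [CharP K 3] in
theorem mem_stab {e d : G} : e ∈ MulAction.stabilizer G ((d : G) : G ⧸ R.B) ↔ d⁻¹ * e * d ∈ R.B := by
  rw [MulAction.mem_stabilizer_iff]
  show ((e * d : G) : G ⧸ R.B) = d ↔ _
  rw [QuotientGroup.eq]
  rw [← Subgroup.inv_mem_iff]
  have : ((e * d)⁻¹ * d)⁻¹ = d⁻¹ * e * d := by group
  rw [this]

omit [CharP K 3] in
/-- Normal form of three distinct points. -/
theorem three_form {x y z : G ⧸ R.B} (hxy : x ≠ y) (hxz : x ≠ z) (hyz : y ≠ z) :
    ∃ d a b c, x = ((d : G) : G ⧸ R.B) ∧ y = ((d * R.n : G) : G ⧸ R.B) ∧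
      z = ((d * (R.t a b c * R.n) : G) : G ⧸ R.B) ∧ ¬ (a = 0 ∧ b = 0 ∧ c = 0) := by
  induction x using QuotientGroup.induction_on with | H x₀ => ?_
  induction y using QuotientGroup.induction_on with | H y₀ => ?_
  induction z using QuotientGroup.induction_on with | H z₀ => ?_
  have h1 : x₀⁻¹ * y₀ ∉ R.B := fun h => hxy (QuotientGroup.eq.mpr h)
  obtain ⟨a₁, b₁, c₁, k₁, hk₁, e₁⟩ := R.not_B_form h1
  set d := x₀ * R.t a₁ b₁ c₁ with hd
  have hx : ((x₀ : G) : G ⧸ R.B) = ((d : G) : G ⧸ R.B) := by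
    rw [hd]
    exact (QuotientGroup.mk_mul_of_mem _ (R.t_mem_B _ _ _)).symm
  have hy : ((y₀ : G) : G ⧸ R.B) = ((d * R.n : G) : G ⧸ R.B) := by
    have e : y₀ = d * R.n * k₁ := by
      rw [hd]
      have : y₀ = x₀ * (x₀⁻¹ * y₀) := by group
      rw [this, e₁]
      group
    rw [e]
    exact QuotientGroup.mk_mul_of_mem _ hk₁
  have h2 : d⁻¹ * z₀ ∉ R.B := by
    intro h
    apply hxz
    rw [hx]
    exact QuotientGroup.eq.mpr h
  obtain ⟨a, b, c, k, hk, e⟩ := R.not_B_form h2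
  have hz : ((z₀ : G) : G ⧸ R.B) = ((d * (R.t a b c * R.n) : G) : G ⧸ R.B) := by
    have e2 : z₀ = d * (R.t a b c * R.n) * k := by
      have : z₀ = d * (d⁻¹ * z₀) := by group
      rw [this, e]
      group
    rw [e2]
    exact QuotientGroup.mk_mul_of_mem _ hk
  refine ⟨d, a, b, c, hx, hy, hz, ?_⟩
  rintro ⟨rfl, rfl, rfl⟩
  apply hyz
  rw [hy, hz, R.t_zero, one_mul]

/-- The stabiliser of three points. -/
theorem stab3_mem {d : G} {a b c : K} (hne : ¬ (a = 0 ∧ b = 0 ∧ c = 0)) {e : G}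
    (h1 : e ∈ MulAction.stabilizer G ((d : G) : G ⧸ R.B))
    (h2 : e ∈ MulAction.stabilizer G ((d * R.n : G) : G ⧸ R.B))
    (h3 : e ∈ MulAction.stabilizer G ((d * (R.t a b c * R.n) : G) : G ⧸ R.B)) :
    e = 1 ∨ e = d * R.h (-1) * d⁻¹ := by
  rw [R.mem_stab] at h1 h2 h3
  set e' := d⁻¹ * e * d with he'
  have i2 : R.n⁻¹ * e' * R.n ∈ R.B := by
    have : R.n⁻¹ * e' * R.n = (d * R.n)⁻¹ * e * (d * R.n) := by
      rw [he']
      group
    rw [this]
    exact h2
  have e2 : e' * R.n = R.n * (R.n⁻¹ * e' * R.n) := by group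
  obtain ⟨s, hs⟩ := R.B_n_B h1 i2 e2
  have i3 : (R.t a b c * R.n)⁻¹ * e' * (R.t a b c * R.n) ∈ R.B := by
    have : (R.t a b c * R.n)⁻¹ * e' * (R.t a b c * R.n) = (d * (R.t a b c * R.n))⁻¹ * e * (d * (R.t a b c * R.n)) := by
      rw [he']
      group
    rw [this]
    exact h3
  have e3 : R.h s * (R.t a b c * R.n) = (R.t a b c * R.n) * ((R.t a b c * R.n)⁻¹ * e' * (R.t a b c * R.n)) := by
    rw [← hs]
    group
  have hee : e = d * R.h s * d⁻¹ := by
    rw [← hs, he']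
    group
  rcases R.fix_stab hne i3 e3 with rfl | rfl
  · left
    rw [hee, map_one]
    group
  · right
    exact hee

/-- Three distinct points have a stabiliser of order at most two. -/
theorem stab3_card_le (x y z : G ⧸ R.B) (hxy : x ≠ y) (hxz : x ≠ z) (hyz : y ≠ z) :
    Nat.card ↥(MulAction.stabilizer G x ⊓ MulAction.stabilizer G y ⊓ MulAction.stabilizer G z) ≤ 2 := by
  classical
  obtain ⟨d, a, b, c, rfl, rfl, rfl, hne⟩ := R.three_form hxy hxz hyz
  have hinj : Function.Injective (fun g : ↥(MulAction.stabilizer G ((d : G) : G ⧸ R.B) ⊓ MulAction.stabilizer G ((d * R.n : G) : G ⧸ R.B) ⊓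
      MulAction.stabilizer G ((d * (R.t a b c * R.n) : G) : G ⧸ R.B)) => decide ((g : G) = 1)) := by
    rintro ⟨g, hg⟩ ⟨g', hg'⟩ h
    have h1 := R.stab3_mem hne hg.1.1 hg.1.2 hg.2
    have h2 := R.stab3_mem hne hg'.1.1 hg'.1.2 hg'.2
    simp only [decide_eq_decide] at h
    apply Subtype.ext
    show g = g'
    by_cases h3 : g = 1
    · rw [h3, h.mp h3]
    · have h4 : g' ≠ 1 := fun h5 => h3 (h.mpr h5)
      rw [h1.resolve_left h3, h2.resolve_left h4]
  have := Nat.card_le_card_of_injective _ hinj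
  simpa using this

omit [CharP K 3] in
theorem neg_one_ne [CharP K 3] : (-1 : Kˣ) ≠ 1 := by
  intro h
  have h1 : (-1 : K) = 1 := by
    have := congrArg Units.val h
    simpa using this
  have h2 : (3 : K) = 0 := three_eq
  have h3 : (2 : K) = 0 := by linear_combination -h1
  have h4 : (1 : K) = 0 := by linear_combination h2 - h3
  exact one_ne_zero h4

theorem t010_ne : ¬ ((0 : K) = 0 ∧ (1 : K) = 0 ∧ (0 : K) = 0) := fun h => one_ne_zero h.2.1

/-- A triple with a stabiliser of order exactly two. -/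
theorem stab3_exact : ∃ x y z : G ⧸ R.B, x ≠ y ∧ x ≠ z ∧ y ≠ z ∧
    Nat.card ↥(MulAction.stabilizer G x ⊓ MulAction.stabilizer G y ⊓ MulAction.stabilizer G z) = 2 := by
  classical
  have hn1 : ((1 : G) : G ⧸ R.B) ≠ ((1 * R.n : G) : G ⧸ R.B) := by
    intro h
    have := QuotientGroup.eq.mp h
    apply R.n_not_B
    simpa using this
  have hn2 : ((1 : G) : G ⧸ R.B) ≠ ((1 * (R.t 0 1 0 * R.n) : G) : G ⧸ R.B) := by
    intro h
    have h1 := QuotientGroup.eq.mp h
    apply R.n_not_B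
    have e : R.n = (R.t 0 1 0)⁻¹ * ((1 : G)⁻¹ * (1 * (R.t 0 1 0 * R.n))) := by group
    rw [e]
    exact Subgroup.mul_mem _ (Subgroup.inv_mem _ (R.t_mem_B _ _ _)) h1
  have hn3 : ((1 * R.n : G) : G ⧸ R.B) ≠ ((1 * (R.t 0 1 0 * R.n) : G) : G ⧸ R.B) := by
    intro h
    have h1 := QuotientGroup.eq.mp h
    have e : R.t 0 1 0 * R.n = R.n * ((1 * R.n)⁻¹ * (1 * (R.t 0 1 0 * R.n))) := by group
    obtain ⟨-, h2, -⟩ := R.t_n_B h1 e
    exact one_ne_zero h2
  refine ⟨_, _, _, hn1, hn2, hn3, ?_⟩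
  have hmem : R.h (-1) ∈ MulAction.stabilizer G ((1 : G) : G ⧸ R.B) ⊓ MulAction.stabilizer G ((1 * R.n : G) : G ⧸ R.B) ⊓
      MulAction.stabilizer G ((1 * (R.t 0 1 0 * R.n) : G) : G ⧸ R.B) := by
    refine ⟨⟨?_, ?_⟩, ?_⟩
    · refine (R.mem_stab).mpr ?_
      have : (1 : G)⁻¹ * R.h (-1) * 1 = R.h (-1) := by group
      rw [this]
      exact R.h_mem_B _
    · refine (R.mem_stab).mpr ?_
      have e : (1 * R.n)⁻¹ * R.h (-1) * (1 * R.n) = R.h (-1) := by
        have e2 := R.h_mul_n (-1)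
        rw [inv_neg, inv_one] at e2
        rw [one_mul, mul_assoc, e2]
        group
      rw [e]
      exact R.h_mem_B _
    · refine (R.mem_stab).mpr ?_
      have e : (1 * (R.t 0 1 0 * R.n))⁻¹ * R.h (-1) * (1 * (R.t 0 1 0 * R.n)) = R.h (-1) := by
        have e1 := R.h_mul_t (-1) 0 1 0
        simp only [Units.val_neg, Units.val_one, map_neg, map_one, mul_zero, inv_neg, inv_one] at e1
        have e3 : (-1 : K) ^ 3 * (-1) ^ 3 * 1 = 1 := by ring
        rw [e3] at e1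
        have e2 := R.h_mul_n (-1)
        rw [inv_neg, inv_one] at e2
        have e4 : R.h (-1) * (1 * (R.t 0 1 0 * R.n)) = (1 * (R.t 0 1 0 * R.n)) * R.h (-1) := by
          rw [one_mul, ← mul_assoc, e1, mul_assoc, e2, mul_assoc]
        rw [mul_assoc, e4]
        group
      rw [e]
      exact R.h_mem_B _
  have hbij : Function.Bijective (fun g : ↥(MulAction.stabilizer G ((1 : G) : G ⧸ R.B) ⊓ MulAction.stabilizer G ((1 * R.n : G) : G ⧸ R.B) ⊓
      MulAction.stabilizer G ((1 * (R.t 0 1 0 * R.n) : G) : G ⧸ R.B)) => decide ((g : G) = 1)) := by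
    constructor
    · rintro ⟨g, hg⟩ ⟨g', hg'⟩ h
      have h1 := R.stab3_mem t010_ne hg.1.1 hg.1.2 hg.2
      have h2 := R.stab3_mem t010_ne hg'.1.1 hg'.1.2 hg'.2
      simp only [decide_eq_decide] at h
      apply Subtype.ext
      show g = g'
      by_cases h3 : g = 1
      · rw [h3, h.mp h3]
      · have h4 : g' ≠ 1 := fun h5 => h3 (h.mpr h5)
        rw [h1.resolve_left h3, h2.resolve_left h4]
    · intro y
      cases y
      · refine ⟨⟨R.h (-1), hmem⟩, ?_⟩
        simp only [decide_eq_false_iff_not]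
        intro h
        apply neg_one_ne (K := K)
        apply R.h_inj
        rw [h, map_one]
      · exact ⟨1, by simp⟩
  rw [Nat.card_congr (Equiv.ofBijective _ hbij)]
  simp

/-- The order of `U`. -/
theorem card_U [Fintype K] : Nat.card ↥R.U = Fintype.card K ^ 3 := by
  classical
  have hb : Function.Bijective (fun x : K × K × K => (⟨R.t x.1 x.2.1 x.2.2, R.t_mem _ _ _⟩ : ↥R.U)) := by
    constructor
    · rintro ⟨t, u, v⟩ ⟨t', u', v'⟩ h
      obtain ⟨e1, e2, e3⟩ := R.t_inj (congrArg Subtype.val h)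
      subst e1 e2 e3
      rfl
    · rintro ⟨g, t, u, v, rfl⟩
      exact ⟨(t, u, v), rfl⟩
  rw [← Nat.card_congr (Equiv.ofBijective _ hb)]
  simp [Nat.card_eq_fintype_card, pow_succ]
  ring

/-- `U` is a `3`-group. -/
theorem isP_U : IsPGroup 3 ↥R.U := by
  rintro ⟨g, a, b, c, rfl⟩
  refine ⟨2, ?_⟩
  apply Subtype.ext
  show R.t a b c ^ 3 ^ 2 = 1
  rw [show 3 ^ 2 = 3 * 3 by norm_num, pow_mul, R.t_cube, R.t_cube]
  have : (0 : K) ^ 2 * f 0 ^ 3 = 0 := by simp
  rw [this, neg_zero, R.t_zero]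

theorem U_index [Fintype K] [Finite G] (hG : Nat.card G = (1 + Fintype.card K ^ 3) * (Fintype.card K ^ 3 * (Fintype.card K - 1))) :
    R.U.index = (1 + Fintype.card K ^ 3) * (Fintype.card K - 1) := by
  have h1 := R.U.index_mul_card
  rw [R.card_U, hG] at h1
  have h2 : 0 < Fintype.card K ^ 3 := pow_pos Fintype.card_pos 3
  apply Nat.eq_of_mul_eq_mul_right h2
  rw [h1]
  ring

/-- The Sylow-3 subgroup. -/
theorem not_three_index [Fintype K] [Finite G] {m : ℕ} (hK : Fintype.card K = 3 ^ (2 * m + 1))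
    (hG : Nat.card G = (1 + Fintype.card K ^ 3) * (Fintype.card K ^ 3 * (Fintype.card K - 1))) : ¬ 3 ∣ R.U.index := by
  rw [R.U_index hG, hK]
  have h1 : 3 ∣ 3 ^ (2 * m + 1) := dvd_pow_self 3 (by omega)
  obtain ⟨q, hq⟩ := h1
  rw [hq]
  intro h
  have h3 : Nat.Prime 3 := Nat.prime_three
  have hqpos : 0 < q := by
    have : 0 < 3 ^ (2 * m + 1) := by positivity
    omega
  rcases (Nat.Prime.dvd_mul h3).mp h with h | h
  · have e : (3 * q) ^ 3 = 3 * (9 * q ^ 3) := by ring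
    rw [e] at h
    omega
  · omega

include R in
/-- The trivial intersection property of Sylow `3`-subgroups. -/
theorem sylow3_TI [Fintype K] [Finite G] {m : ℕ} (hK : Fintype.card K = 3 ^ (2 * m + 1))
    (hG : Nat.card G = (1 + Fintype.card K ^ 3) * (Fintype.card K ^ 3 * (Fintype.card K - 1)))
    (P Q : Sylow 3 G) (hPQ : P ≠ Q) : (P : Subgroup G) ⊓ (Q : Subgroup G) = ⊥ := by
  haveI : Fact (Nat.Prime 3) := ⟨Nat.prime_three⟩
  set S : Sylow 3 G := R.isP_U.toSylow (R.not_three_index hK hG) with hS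
  have hSU : (S : Subgroup G) = R.U := rfl
  obtain ⟨g, rfl⟩ := MulAction.exists_smul_eq G S P
  obtain ⟨k, rfl⟩ := MulAction.exists_smul_eq G S Q
  rw [eq_bot_iff]
  rintro x ⟨h1, h2⟩
  rw [Subgroup.mem_bot]
  have h1' : x ∈ MulAut.conj g • (S : Subgroup G) := by
    rw [← Sylow.coe_subgroup_smul]
    exact h1
  have h2' : x ∈ MulAut.conj k • (S : Subgroup G) := by
    rw [← Sylow.coe_subgroup_smul]
    exact h2
  rw [Subgroup.mem_pointwise_smul_iff_inv_smul_mem, hSU] at h1' h2'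
  have hu : g⁻¹ * x * g ∈ R.U := by
    simpa [MulAut.smul_def, MulAut.conj_inv_apply] using h1'
  have hv : k⁻¹ * x * k ∈ R.U := by
    simpa [MulAut.smul_def, MulAut.conj_inv_apply] using h2'
  by_cases hb : k⁻¹ * g ∈ R.B
  · exfalso
    apply hPQ
    have h3 : (k⁻¹ * g) • S = S := by
      rw [Sylow.smul_eq_iff_mem_normalizer]
      change k⁻¹ * g ∈ Subgroup.normalizer (((S : Subgroup G) : Subgroup G) : Set G)
      rw [Subgroup.mem_normalizer_iff, hSU]
      intro y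
      constructor
      · intro hy
        exact R.B_conj_U hb hy
      · intro hy
        have := R.B_conj_U (Subgroup.inv_mem _ hb) hy
        have e : (k⁻¹ * g)⁻¹ * ((k⁻¹ * g) * y * (k⁻¹ * g)⁻¹) * (k⁻¹ * g)⁻¹⁻¹ = y := by group
        rwa [e] at this
    have h4 : g • S = k • ((k⁻¹ * g) • S) := by
      rw [smul_smul]
      group
    rw [h4, h3]
  · have e : (k⁻¹ * g) * (g⁻¹ * x * g) * (k⁻¹ * g)⁻¹ = k⁻¹ * x * k := by group
    have h5 := R.U_TI hb hu (by rw [e]; exact hv)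
    have : x = g * (g⁻¹ * x * g) * g⁻¹ := by group
    rw [this, h5]
    group

end RD

end Cfsg.Agent.Lib.Ree
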