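import Cfsg.Agent.Lib.Ree.Tau

/-! Automorphisms of the small Ree groups: rigidity. -/

set_option autoImplicit false
set_option linter.unusedSimpArgs false
set_option linter.unusedVariables false
set_option linter.unusedSectionVars false

namespace Cfsg.Agent.Lib.Ree

open scoped Pointwise

namespace RD

variable {K : Type*} [Field K] [CharP K 3] {f : K ≃+* K} {G : Type*} [Group G] (R : RD K f G)

/-- An automorphism preserves `U`. -/
def PresU (α : MulAut G) : Prop := ∀ x, x ∈ R.U ↔ α x ∈ R.U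

/-- Membership in `B` through the normaliser of `U`. -/
theorem mem_B_iff {g : G} : g ∈ R.B ↔ ∀ x, x ∈ R.U → g * x * g⁻¹ ∈ R.U := by
  constructor
  · intro hg x hx
    exact R.B_conj_U hg hx
  · intro h
    by_contra hg
    have h1 := R.U_TI hg (R.t_mem 1 0 0) (h _ (R.t_mem 1 0 0))
    exact one_ne_zero (R.t_eq_one h1).1

/-- An automorphism preserving `U` preserves `B`. -/
theorem presU_B {α : MulAut G} (hα : R.PresU α) (g : G) : g ∈ R.B ↔ α g ∈ R.B := by
  rw [R.mem_B_iff, R.mem_B_iff]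
  constructor
  · intro h y hy
    obtain ⟨x, rfl⟩ := α.surjective y
    rw [← map_inv, ← map_mul, ← map_mul, ← hα]
    exact h x ((hα x).mpr hy)
  · intro h x hx
    rw [hα, map_mul, map_mul, map_inv]
    exact h _ ((hα x).mp hx)

theorem presU_conj_U {u : G} (hu : u ∈ R.U) {α : MulAut G} (hα : R.PresU α) : R.PresU (MulAut.conj u * α) := by
  intro x
  rw [hα x]
  show α x ∈ R.U ↔ u * α x * u⁻¹ ∈ R.U
  generalize α x = y
  constructor
  · intro h
    exact Subgroup.mul_mem _ (Subgroup.mul_mem _ hu h) (Subgroup.inv_mem _ hu)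
  · intro h
    have e : y = u⁻¹ * (u * y * u⁻¹) * u := by group
    rw [e]
    exact Subgroup.mul_mem _ (Subgroup.mul_mem _ (Subgroup.inv_mem _ hu) h) hu

theorem presU_conj_h (s : Kˣ) {α : MulAut G} (hα : R.PresU α) : R.PresU (MulAut.conj (R.h s) * α) := by
  intro x
  rw [hα x]
  show α x ∈ R.U ↔ R.h s * α x * (R.h s)⁻¹ ∈ R.U
  generalize α x = y
  constructor
  · intro h
    exact R.h_conj_U s h
  · intro h
    have := R.h_conj_U s⁻¹ h
    have e : R.h s⁻¹ * (R.h s * y * (R.h s)⁻¹) * (R.h s⁻¹)⁻¹ = y := by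
      rw [map_inv]
      group
    rwa [e] at this

section card

variable [Fintype K] [Finite G] {m : ℕ} (hK : Fintype.card K = 3 ^ (2 * m + 1))
  (hG : Nat.card G = (1 + Fintype.card K ^ 3) * (Fintype.card K ^ 3 * (Fintype.card K - 1)))
include hK hG

/-- Any automorphism can be corrected to preserve `U`. -/
theorem exists_conj_U (α : MulAut G) : ∃ g : G, R.PresU (MulAut.conj g * α) := by
  haveI : Fact (Nat.Prime 3) := ⟨Nat.prime_three⟩
  set S : Sylow 3 G := R.isP_U.toSylow (R.not_three_index hK hG) with hS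
  have hSU : (S : Subgroup G) = R.U := rfl
  have hp : IsPGroup 3 ↥(R.U.map α.toMonoidHom) := R.isP_U.map _
  have hidx : ¬ 3 ∣ (R.U.map α.toMonoidHom).index := by
    rw [Subgroup.index_map_of_bijective α.bijective]
    exact R.not_three_index hK hG
  set S' : Sylow 3 G := hp.toSylow hidx with hS'
  have hS'U : (S' : Subgroup G) = R.U.map α.toMonoidHom := rfl
  obtain ⟨k, hk⟩ := MulAction.exists_smul_eq G S S'
  refine ⟨k⁻¹, fun x => ?_⟩
  show x ∈ R.U ↔ k⁻¹ * α x * k⁻¹⁻¹ ∈ R.U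
  have h1 : x ∈ R.U ↔ α x ∈ (S' : Subgroup G) := by
    rw [hS'U]
    constructor
    · intro h
      exact ⟨x, h, rfl⟩
    · rintro ⟨y, hy, e⟩
      have : y = x := α.injective e
      rwa [← this]
  rw [h1, ← hk, Sylow.coe_subgroup_smul, Subgroup.mem_pointwise_smul_iff_inv_smul_mem, hSU]
  simp [MulAut.smul_def, MulAut.conj_inv_apply]

end card

/-- Solving the conjugation equation for a regular element of `H`. -/
theorem exists_conj_reg [Finite K] {r : Kˣ} (hr : (r : K) ^ 2 ≠ 1) (x : G) (hx : x ∈ R.U) :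
    ∃ u ∈ R.U, x = u⁻¹ * (R.h r * u * (R.h r)⁻¹) := by
  haveI : Finite ↥R.U := by
    have hsurj : Function.Surjective (fun p : K × K × K => (⟨R.t p.1 p.2.1 p.2.2, R.t_mem _ _ _⟩ : ↥R.U)) := by
      rintro ⟨g, a, b, c, rfl⟩
      exact ⟨(a, b, c), rfl⟩
    exact Finite.of_surjective _ hsurj
  let F : ↥R.U → ↥R.U := fun u => ⟨(u : G)⁻¹ * (R.h r * u * (R.h r)⁻¹),
    Subgroup.mul_mem _ (Subgroup.inv_mem _ u.2) (R.h_conj_U r u.2)⟩
  have hinj : Function.Injective F := by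
    rintro ⟨u, hu⟩ ⟨v, hv⟩ h
    have h1 : u⁻¹ * (R.h r * u * (R.h r)⁻¹) = v⁻¹ * (R.h r * v * (R.h r)⁻¹) := congrArg Subtype.val h
    have h2 : v * u⁻¹ ∈ R.U := Subgroup.mul_mem _ hv (Subgroup.inv_mem _ hu)
    obtain ⟨a, b, c, e⟩ := h2
    have h3 : R.h r * R.t a b c = R.t a b c * R.h r := by
      rw [← e]
      have e2 : R.h r * v * (R.h r)⁻¹ = v * u⁻¹ * (R.h r * u * (R.h r)⁻¹) := by
        rw [mul_assoc v, h1]
        group
      have e3 : R.h r * (v * u⁻¹) = (R.h r * v * (R.h r)⁻¹) * (R.h r * u⁻¹) := by group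
      rw [e3, e2]
      group
    obtain ⟨rfl, rfl, rfl⟩ := R.t_fix hr h3
    apply Subtype.ext
    show u = v
    rw [R.t_zero] at e
    have := mul_inv_eq_one.mp e
    exact this.symm
  obtain ⟨⟨u, hu⟩, hF⟩ := Finite.surjective_of_injective hinj ⟨x, hx⟩
  exact ⟨u, hu, (congrArg Subtype.val hF).symm⟩

/-- Existence of a regular element. -/
theorem exists_reg [Fintype K] {m : ℕ} (hm : 1 ≤ m) (hK : Fintype.card K = 3 ^ (2 * m + 1)) :
    ∃ r : Kˣ, (r : K) ^ 2 ≠ 1 := by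
  by_contra hall
  push Not at hall
  have hf : ∀ x : K, x = 0 ∨ x = 1 ∨ x = -1 := by
    intro x
    by_cases hx : x = 0
    · exact Or.inl hx
    · right
      have h1 := hall (Units.mk0 x hx)
      rw [Units.val_mk0] at h1
      have h2 : (x - 1) * (x + 1) = 0 := by linear_combination h1
      rcases mul_eq_zero.mp h2 with h3 | h3
      · exact Or.inl (sub_eq_zero.mp h3)
      · exact Or.inr (eq_neg_of_add_eq_zero_left h3)
  classical
  have hcard : Fintype.card K ≤ 3 := by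
    have : (Finset.univ : Finset K) ⊆ {0, 1, -1} := by
      intro x _
      simpa using hf x
    have h2 := Finset.card_le_card this
    rw [Finset.card_univ] at h2
    exact h2.trans Finset.card_le_three
  rw [hK] at hcard
  have h3 : 3 ^ (2 * 1 + 1) ≤ 3 ^ (2 * m + 1) := Nat.pow_le_pow_right (by norm_num) (by omega)
  norm_num at h3
  omega

/-- An element with `x³ ≠ x`. -/
theorem exists_cube_ne [Fintype K] {m : ℕ} (hm : 1 ≤ m) (hK : Fintype.card K = 3 ^ (2 * m + 1)) :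
    ∃ a : K, a ^ 3 ≠ a := by
  by_contra hall
  push Not at hall
  obtain ⟨r, hr⟩ := exists_reg (K := K) hm hK
  apply hr
  have h1 := hall (r : K)
  have h2 : (r : K) ≠ 0 := r.ne_zero
  have h3 : (r : K) * ((r : K) ^ 2) = (r : K) * 1 := by
    rw [mul_one]
    linear_combination h1
  exact mul_left_cancel₀ h2 h3

/-- An element not fixed by `τ`. -/
theorem exists_tau_ne [Fintype K] (hf3 : ∀ x, f (f x) ^ 3 = x) {m : ℕ} (hm : 1 ≤ m) (hK : Fintype.card K = 3 ^ (2 * m + 1)) :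
    ∃ a : K, tau f a ≠ a := by
  by_contra hall
  push Not at hall
  obtain ⟨a, ha⟩ := exists_cube_ne (K := K) hm hK
  apply ha
  rw [← tau_tau hf3, hall, hall]

variable [Fintype K] {m : ℕ} (hm : 1 ≤ m) (hK : Fintype.card K = 3 ^ (2 * m + 1))
include hm hK

/-- The correction on the torus. -/
theorem exists_conj_H {α : MulAut G} (hα : R.PresU α) :
    ∃ u : G, R.PresU (MulAut.conj u * α) ∧ ∀ s : Kˣ, ∃ s' : Kˣ, (MulAut.conj u * α) (R.h s) = R.h s' := by
  obtain ⟨s₀, hs₀⟩ := exists_reg (K := K) hm hK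
  have hB := (R.presU_B hα (R.h s₀)).mp (R.h_mem_B s₀)
  obtain ⟨a, b, c, r, e⟩ := hB
  have hr : (r : K) ^ 2 ≠ 1 := by
    intro h
    apply hs₀
    have h1 : r ^ 2 = 1 := Units.ext (by simpa using h)
    have h2 : α (R.h (s₀ ^ 2)) ∈ R.U := by
      rw [map_pow, map_pow, e, pow_two, mul_assoc, ← mul_assoc (R.h r), R.h_mul_t]
      have : R.t a b c * (R.t ((r : K)⁻¹ ^ 3 * f (r : K) ^ 6 * a) ((r : K) ^ 3 * (f (r : K))⁻¹ ^ 3 * b) (f (r : K) ^ 3 * c) * R.h r * R.h r)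
          = R.t a b c * R.t ((r : K)⁻¹ ^ 3 * f (r : K) ^ 6 * a) ((r : K) ^ 3 * (f (r : K))⁻¹ ^ 3 * b) (f (r : K) ^ 3 * c) * R.h (r ^ 2) := by
        rw [pow_two, map_mul]
        group
      rw [this, h1, map_one, mul_one]
      exact Subgroup.mul_mem _ (R.t_mem _ _ _) (R.t_mem _ _ _)
    have h3 := (hα _).mpr h2
    have h4 := R.h_in_U h3
    have := congrArg Units.val h4
    simpa using this
  obtain ⟨u, hu, eu⟩ := R.exists_conj_reg hr (R.t a b c) (R.t_mem _ _ _)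
  refine ⟨u, R.presU_conj_U hu hα, ?_⟩
  set β := MulAut.conj u * α with hβ
  have hβ1 : ∀ x, β x = u * α x * u⁻¹ := fun x => rfl
  have e1 : β (R.h s₀) = R.h r := by
    rw [hβ1, e, eu]
    group
  intro s
  have hc : β (R.h s) * R.h r = R.h r * β (R.h s) := by
    rw [← e1, ← map_mul, ← map_mul, ← map_mul, ← map_mul, mul_comm]
  exact R.cent_h hr hc

omit hm hK in
/-- The relation among the fundamental elements. -/
theorem t_rel (a a' : K) : R.t a 0 0 * R.t a' 0 0 =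
    R.t (a + a') 0 0 * (R.t 0 (-(a * tau f a')) 0 * R.t 0 0 (-(a ^ 2 * tau f a') + a * a' * tau f a')) := by
  rw [R.t_mul, R.t_mul, R.t_mul]
  unfold tau
  simp

omit hm hK in
theorem t_split (a b c : K) : R.t a b c = R.t a 0 0 * (R.t 0 b 0 * R.t 0 0 c) := by
  rw [R.t_mul, R.t_mul]
  simp

/-- Rigidity. -/
theorem rigid {α : MulAut G} (hα : R.PresU α) (hH : ∀ s, α (R.h s) = R.h s)
    (hD : ∀ a, ∃ b c, α (R.t a 0 0) = R.t a b c) : α = 1 := by
  have hf3 := R.hf3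
  have h3 : (3 : K) = 0 := three_eq
  have hUmem : ∀ a b c : K, ∃ A B C : K, α (R.t a b c) = R.t A B C := fun a b c => by
    obtain ⟨A, B, C, e⟩ := (hα _).mp (R.t_mem a b c)
    exact ⟨A, B, C, e⟩
  choose A B C hABC using hUmem
  have hA0 : ∀ b c, A 0 b c = 0 := by
    intro b c
    have h1 : R.t 0 b c ^ 3 = 1 := by
      rw [R.t_cube]
      simp [R.t_zero]
    have h2 := congrArg α h1
    rw [map_pow, map_one, hABC, R.t_cube] at h2
    exact a_eq_zero_of (neg_eq_zero.mp (R.t_eq_one h2).2.2)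
  choose E Fa hEF using hD
  -- the central elements
  have hZ : ∀ c, B 0 0 c = 0 := by
    intro c
    obtain ⟨x, hx⟩ : ∃ x, α x = R.t 1 0 0 := ⟨α.symm (R.t 1 0 0), by simp⟩
    have hxU : x ∈ R.U := (hα x).mpr (by rw [hx]; exact R.t_mem _ _ _)
    obtain ⟨a, b, c', rfl⟩ := hxU
    have h1 : R.t 0 0 c * R.t a b c' = R.t a b c' * R.t 0 0 c := by
      rw [R.t_mul, R.t_mul]
      simp
      ring
    have h2 := congrArg α h1
    rw [map_mul, map_mul, hx, hABC, hA0, R.t_mul, R.t_mul] at h2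
    obtain ⟨-, -, h4⟩ := R.t_inj h2
    simp at h4
    exact h4
  have hZ' : ∀ c, α (R.t 0 0 c) = R.t 0 0 (C 0 0 c) := by
    intro c
    rw [hABC, hA0, hZ]
  -- the middle elements
  have hM0 : ∀ b, C 0 b 0 = 0 := by
    intro b
    have h1 : R.h (-1) * R.t 0 b 0 * (R.h (-1))⁻¹ = R.t 0 b 0 := by
      rw [R.h_t]
      simp
      norm_num
    have h2 := congrArg α h1
    rw [map_mul, map_mul, map_inv, hH, hABC, hA0, R.h_t] at h2
    obtain ⟨-, -, h4⟩ := R.t_inj h2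
    simp at h4
    have h5 : (2 : K) * C 0 b 0 = 0 := by
      norm_num at h4
      linear_combination -h4
    exact (mul_eq_zero.mp h5).resolve_left two_ne
  have hM : ∀ b, α (R.t 0 b 0) = R.t 0 (B 0 b 0) 0 := by
    intro b
    rw [hABC, hA0, hM0]
  -- additivity of the central map
  have hCadd : ∀ c c', C 0 0 (c + c') = C 0 0 c + C 0 0 c' := by
    intro c c'
    have h1 : R.t 0 0 c * R.t 0 0 c' = R.t 0 0 (c + c') := by
      rw [R.t_mul]
      simp
    have h2 := congrArg α h1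
    rw [map_mul, hZ', hZ', hZ', R.t_mul] at h2
    obtain ⟨-, -, h4⟩ := R.t_inj h2
    simp at h4
    exact h4.symm
  -- the equivariance
  have hequiv : ∀ (s : Kˣ) (a : K), E (((c1 f s : Kˣ) : K) * a) = ((c1 f s : Kˣ) : K) * tau f ((c1 f s : Kˣ) : K) * E a ∧
      Fa (((c1 f s : Kˣ) : K) * a) = ((c1 f s : Kˣ) : K) ^ 2 * tau f ((c1 f s : Kˣ) : K) * Fa a := by
    intro s a
    have h1 := R.h_t' s a 0 0
    have h2 := congrArg α h1
    rw [map_mul, map_mul, map_inv, hH, hEF, R.h_t', mul_zero, mul_zero, hEF] at h2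
    obtain ⟨-, h4, h5⟩ := R.t_inj h2
    exact ⟨h4.symm, h5.symm⟩
  have hC_scale : ∀ (s : Kˣ) (c : K), C 0 0 (((c1 f s : Kˣ) : K) ^ 2 * tau f ((c1 f s : Kˣ) : K) * c) =
      ((c1 f s : Kˣ) : K) ^ 2 * tau f ((c1 f s : Kˣ) : K) * C 0 0 c := by
    intro s c
    have h1 := R.h_t' s 0 0 c
    have h2 := congrArg α h1
    rw [map_mul, map_mul, map_inv, hH, hZ', R.h_t', mul_zero, mul_zero, hZ'] at h2
    obtain ⟨-, -, h5⟩ := R.t_inj h2
    exact h5.symm
  have hzero : ∀ a, a = 0 → E a = 0 ∧ Fa a = 0 := by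
    rintro a rfl
    have h1 := hEF 0
    rw [R.t_zero, map_one, ← R.t_zero] at h1
    obtain ⟨-, h4, h5⟩ := R.t_inj h1
    exact ⟨h4.symm, h5.symm⟩
  have hE : ∀ a, E a = a * tau f a * E 1 := by
    intro a
    by_cases ha : a = 0
    · subst ha
      simp [(hzero 0 rfl).1]
    · obtain ⟨s, hs⟩ := c1_surj hf3 (Units.mk0 a ha)
      have e : ((c1 f s : Kˣ) : K) = a := by rw [hs, Units.val_mk0]
      have := (hequiv s 1).1
      rw [mul_one, e] at this
      exact this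
  have hF : ∀ a, Fa a = a ^ 2 * tau f a * Fa 1 := by
    intro a
    by_cases ha : a = 0
    · subst ha
      simp [(hzero 0 rfl).2]
    · obtain ⟨s, hs⟩ := c1_surj hf3 (Units.mk0 a ha)
      have e : ((c1 f s : Kˣ) : K) = a := by rw [hs, Units.val_mk0]
      have := (hequiv s 1).2
      rw [mul_one, e] at this
      exact this
  -- the main relation
  have hrel : ∀ a a' : K, E a + E a' - a * tau f a' = E (a + a') + B 0 (-(a * tau f a')) 0 ∧
      Fa a + Fa a' - a ^ 2 * tau f a' - E a * a' + a * a' * tau f a' = Fa (a + a') + C 0 0 (-(a ^ 2 * tau f a') + a * a' * tau f a') := by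
    intro a a'
    have h1 := R.t_rel a a'
    have h2 := congrArg α h1
    rw [map_mul, map_mul, map_mul, hEF, hEF, hEF, hM, hZ', R.t_mul, R.t_mul, R.t_mul] at h2
    obtain ⟨-, h4, h5⟩ := R.t_inj h2
    simp at h4 h5
    simp only [tau] at h4 h5 ⊢
    constructor
    · linear_combination h4
    · linear_combination h5
  have hBadd : ∀ b b', B 0 (b + b') 0 = B 0 b 0 + B 0 b' 0 := by
    intro b b'
    have h1 : R.t 0 b 0 * R.t 0 b' 0 = R.t 0 (b + b') 0 := by
      rw [R.t_mul]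
      simp
    have h2 := congrArg α h1
    rw [map_mul, hM, hM, hM, R.t_mul] at h2
    obtain ⟨-, h4, -⟩ := R.t_inj h2
    simp at h4
    exact h4.symm
  have hBneg : ∀ b, B 0 (-b) 0 = - B 0 b 0 := by
    intro b
    have h1 := hBadd b (-b)
    have h2 := hBadd 0 0
    rw [add_zero] at h2
    rw [add_neg_cancel] at h1
    linear_combination -h1 - h2
  -- the vanishing of `E`
  have hB1 : ∀ a a' : K, B 0 (a * tau f a') 0 = a * tau f a' + E 1 * (a * tau f a' + a' * tau f a) := by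
    intro a a'
    have h1 := (hrel a a').1
    rw [hBneg, hE a, hE a', hE (a + a'), tau_add] at h1
    linear_combination h1
  have hE1 : E 1 = 0 := by
    obtain ⟨a', ha'⟩ := exists_cube_ne (K := K) hm hK
    have h1 := hB1 1 a'
    have h2 := hB1 (tau f a') 1
    rw [tau_one, mul_one, one_mul] at h2
    rw [one_mul, tau_one, mul_one] at h1
    have h4 := tau_tau hf3 a'
    rw [h4] at h2
    have h5 : E 1 * (a' - a' ^ 3) = 0 := by
      linear_combination h2 - h1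
    rcases mul_eq_zero.mp h5 with h | h
    · exact h
    · exact absurd (sub_eq_zero.mp h).symm ha'
  have hE0 : ∀ a, E a = 0 := by
    intro a
    rw [hE, hE1, mul_zero]
  have hB2 : ∀ a, B 0 a 0 = a := by
    intro a
    have h1 := hB1 a 1
    rw [tau_one, mul_one, hE1, zero_mul, add_zero] at h1
    exact h1
  -- the scaling of `C`
  have hC_lin : ∀ c, C 0 0 c = c * C 0 0 1 := by
    intro c
    by_cases hc : c = 0
    · subst hc
      have h1 := hCadd 0 0
      simp at h1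
      rw [h1, zero_mul]
    · obtain ⟨y, hy⟩ := tau_surj hf3 c
      have hy0 : y ≠ 0 := by
        rintro rfl
        exact hc (by rw [← hy, tau_zero])
      obtain ⟨s, hs⟩ : ∃ s : Kˣ, f (s : K) ^ 3 = c := by
        refine ⟨Units.mk0 y hy0, ?_⟩
        rw [Units.val_mk0]
        exact hy
      have h1 := hC_scale s 1
      rw [← c3_eq hf3, mul_one, hs] at h1
      exact h1
  have hC1 : C 0 0 1 = 1 := by
    have h1 := (hrel (-1) 1).2
    rw [hE0, tau_one, hF (-1), hF 1] at h1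
    have e1 : (-1 : K) + 1 = 0 := by ring
    rw [e1, (hzero 0 rfl).2, hC_lin] at h1
    rw [tau_neg, tau_one] at h1
    have e2 : (-((-1 : K) ^ 2 * 1) + -1 * 1 * 1) = 1 := by
      linear_combination -h3
    rw [e2] at h1
    linear_combination -h1 - h3
  have hC2 : ∀ c, C 0 0 c = c := by
    intro c
    rw [hC_lin, hC1, mul_one]
  have hF1 : Fa 1 = 0 := by
    obtain ⟨a, ha⟩ := exists_tau_ne (K := K) hf3 hm hK
    have h1 := (hrel a 1).2
    rw [hE0, hC2, hF a, hF 1, hF (a + 1), tau_add, tau_one] at h1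
    have h5 : Fa 1 * ((a - 1) * (a - tau f a)) = 0 := by
      linear_combination -h1 + (Fa 1 * (a ^ 2 * 1 + a * tau f a - a + 0)) * 0 - (Fa 1 * (a * tau f a + a)) * h3
    rcases mul_eq_zero.mp h5 with h | h
    · exact h
    · rcases mul_eq_zero.mp h with h6 | h6
      · exfalso
        apply ha
        rw [sub_eq_zero.mp h6, tau_one]
      · exact absurd (sub_eq_zero.mp h6).symm ha
  have hF0 : ∀ a, Fa a = 0 := by
    intro a
    rw [hF, hF1, mul_zero]
  have hU : ∀ a b c, α (R.t a b c) = R.t a b c := by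
    intro a b c
    rw [t_split, map_mul, map_mul, hEF, hE0, hF0, hM, hB2, hZ', hC2]
  have hBfix : ∀ g, g ∈ R.B → α g = g := by
    rintro g ⟨a, b, c, s, rfl⟩
    rw [map_mul, hU, hH]
  -- the Weyl element
  obtain ⟨r, hr⟩ := exists_reg (K := K) hm hK
  have hr' : ((r⁻¹ : Kˣ) : K) ^ 2 ≠ 1 := by
    intro h
    apply hr
    have h2 : (r : K) ≠ 0 := r.ne_zero
    rw [Units.val_inv_eq_inv_val, inv_pow] at h
    have h4 := inv_eq_one.mp h
    exact h4
  set y := α R.n with hy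
  have hyB : y ∉ R.B := fun h => R.n_not_B ((R.presU_B hα R.n).mpr h)
  obtain ⟨a₁, b₁, c₁, b₂, hb₂, e₁⟩ := R.not_B_form hyB
  have hyconj : y * R.h r * y⁻¹ = R.h r⁻¹ := by
    have h1 := R.n_h r
    have h2 := congrArg α h1
    rw [map_mul, map_mul, map_inv, hH, hH] at h2
    exact h2
  -- t₁ is trivial
  have ht₁ : a₁ = 0 ∧ b₁ = 0 ∧ c₁ = 0 := by
    set t₁ := R.t a₁ b₁ c₁ with hdef
    have h1 : ((t₁)⁻¹ * R.h r⁻¹ * t₁) * R.n = R.n * (b₂ * R.h r * b₂⁻¹) := by
      rw [e₁] at hyconj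
      rw [← hyconj]
      group
    have hB1 : (t₁)⁻¹ * R.h r⁻¹ * t₁ ∈ R.B :=
      Subgroup.mul_mem _ (Subgroup.mul_mem _ (Subgroup.inv_mem _ (R.t_mem_B _ _ _)) (R.h_mem_B _)) (R.t_mem_B _ _ _)
    have hB2 : b₂ * R.h r * b₂⁻¹ ∈ R.B :=
      Subgroup.mul_mem _ (Subgroup.mul_mem _ hb₂ (R.h_mem_B _)) (Subgroup.inv_mem _ hb₂)
    obtain ⟨s₁, hs₁⟩ := R.B_n_B hB1 hB2 h1
    have h3 : R.h r⁻¹ * t₁ = t₁ * R.h s₁ := by
      rw [← hs₁]
      group
    have h3' := h3
    rw [hdef, R.h_mul_t] at h3'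
    obtain ⟨⟨e1, e2, e3⟩, e4⟩ := R.tB_inj h3'
    subst e4
    exact R.t_fix hr' h3
  obtain ⟨rfl, rfl, rfl⟩ := ht₁
  rw [R.t_zero, one_mul] at e₁
  -- t₂ is trivial
  obtain ⟨a₂, b₂', c₂, s₂, hb₂e⟩ := hb₂
  have hysq : y * y = 1 := by
    rw [hy, ← map_mul, R.n_sq, map_one]
  have ht₂ : R.t a₂ b₂' c₂ = 1 := by
    rw [e₁, hb₂e] at hysq
    have h1 : R.t a₂ b₂' c₂ * R.n = R.n * (R.h s₂⁻¹ * R.t a₂ b₂' c₂ * R.h s₂)⁻¹ := by
      have e2 : R.n * (R.t a₂ b₂' c₂ * R.h s₂) * (R.n * (R.t a₂ b₂' c₂ * R.h s₂)) =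
          R.n * R.t a₂ b₂' c₂ * R.n * (R.h s₂⁻¹ * R.t a₂ b₂' c₂ * R.h s₂) := by
        have e3 := R.h_mul_n s₂
        calc R.n * (R.t a₂ b₂' c₂ * R.h s₂) * (R.n * (R.t a₂ b₂' c₂ * R.h s₂))
            = R.n * R.t a₂ b₂' c₂ * (R.h s₂ * R.n) * (R.t a₂ b₂' c₂ * R.h s₂) := by group
          _ = _ := by rw [e3]; group
      rw [e2] at hysq
      have e4 : R.n * R.t a₂ b₂' c₂ * R.n = (R.h s₂⁻¹ * R.t a₂ b₂' c₂ * R.h s₂)⁻¹ := eq_inv_of_mul_eq_one_left hysq
      have e5 : R.t a₂ b₂' c₂ * R.n = R.n * (R.n * R.t a₂ b₂' c₂ * R.n) := by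
        calc R.t a₂ b₂' c₂ * R.n = (R.n * R.n) * (R.t a₂ b₂' c₂ * R.n) := by rw [R.n_sq, one_mul]
          _ = _ := by group
      rw [e5, e4]
    have hm2 : (R.h s₂⁻¹ * R.t a₂ b₂' c₂ * R.h s₂)⁻¹ ∈ R.B :=
      Subgroup.inv_mem _ (Subgroup.mul_mem _ (Subgroup.mul_mem _ (R.h_mem_B _) (R.t_mem_B _ _ _)) (R.h_mem_B _))
    obtain ⟨e5, e6, e7⟩ := R.t_n_B hm2 h1
    rw [e5, e6, e7, R.t_zero]
  rw [ht₂, one_mul] at hb₂e
  have hyn : y = R.n * R.h s₂ := by rw [e₁, hb₂e]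
  -- every element is moved inside its coset of B
  have hcoset : ∀ g, g⁻¹ * α g ∈ R.B := by
    intro g
    by_cases hg : g ∈ R.B
    · rw [hBfix g hg]
      simp [Subgroup.one_mem]
    · obtain ⟨a, b, c, k, hk, rfl⟩ := R.not_B_form hg
      rw [map_mul, map_mul, hU, hBfix k hk, ← hy, hyn]
      have e : (R.t a b c * R.n * k)⁻¹ * (R.t a b c * (R.n * R.h s₂) * k) = k⁻¹ * R.h s₂ * k := by group
      rw [e]
      exact Subgroup.mul_mem _ (Subgroup.mul_mem _ (Subgroup.inv_mem _ hk) (R.h_mem_B _)) hk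
  have hs₂ : s₂ = 1 := by
    have h1 := hcoset (R.n * R.t 1 0 0 * R.n)
    rw [map_mul, map_mul, ← hy, hU, hyn] at h1
    have e2 := R.h_mul_t' s₂ 1 0 0
    set x := R.t (((c1 f s₂ : Kˣ) : K) * 1) (((c1 f s₂ : Kˣ) : K) * tau f ((c1 f s₂ : Kˣ) : K) * 0)
      (((c1 f s₂ : Kˣ) : K) ^ 2 * tau f ((c1 f s₂ : Kˣ) : K) * 0) with hx
    have e3 : R.n * R.h s₂ * R.t 1 0 0 * (R.n * R.h s₂) = R.n * x * R.n := by
      have e4 := R.h_mul_n s₂
      calc R.n * R.h s₂ * R.t 1 0 0 * (R.n * R.h s₂) = R.n * (R.h s₂ * R.t 1 0 0) * R.n * R.h s₂ := by group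
        _ = R.n * x * (R.h s₂ * R.n) * R.h s₂ := by rw [e2]; group
        _ = R.n * x * (R.n * R.h s₂⁻¹) * R.h s₂ := by rw [e4]
        _ = R.n * x * R.n := by
          rw [map_inv]
          group
    rw [e3] at h1
    have e5 : ((R.t 1 0 0)⁻¹ * x) * R.n = R.n * ((R.n * R.t 1 0 0 * R.n)⁻¹ * (R.n * x * R.n)) := by
      have e6 : (R.n * R.t 1 0 0 * R.n)⁻¹ * (R.n * x * R.n) = R.n⁻¹ * ((R.t 1 0 0)⁻¹ * x) * R.n := by group
      rw [e6]
      group
    have h2 := R.U_inf_n (Subgroup.mul_mem _ (Subgroup.inv_mem _ (R.t_mem _ _ _)) (by rw [hx]; exact R.t_mem _ _ _)) h1 e5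
    have h3 := inv_mul_eq_one.mp h2
    rw [hx] at h3
    have h4 := (R.t_inj h3).1
    rw [mul_one] at h4
    apply c1_inj hf3
    rw [map_one]
    exact Units.ext h4.symm
  have hnfix : α R.n = R.n := by
    rw [← hy, hyn, hs₂, map_one, mul_one]
  ext g
  rcases R.bruhat g with ⟨a, b, c, s, rfl⟩ | ⟨a, b, c, a', b', c', s, rfl⟩
  · simp only [map_mul, hU, hH, MulAut.one_apply]
  · simp only [map_mul, hU, hH, hnfix, MulAut.one_apply]

end RD

end Cfsg.Agent.Lib.Ree
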