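import Cfsg.Agent.Lib.Ree.AutA
import Cfsg.Prelude.Def_KGroupFacts

/-! Automorphisms of the small Ree groups: the normal form. -/

set_option autoImplicit false
set_option linter.unusedSimpArgs false
set_option linter.unusedVariables false
set_option linter.unusedSectionVars false

namespace Cfsg.Agent.Lib.Ree

namespace RD

variable {K : Type*} [Field K] [CharP K 3] {f : K ≃+* K} {G : Type*} [Group G] (R : RD K f G)

/-- The action of the field automorphisms. -/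
structure GalAct (R : RD K f G) where
  Γ : (K ≃+* K) → MulAut G
  Γ_t : ∀ φ a b c, Γ φ (R.t a b c) = R.t (φ a) (φ b) (φ c)
  Γ_h : ∀ (φ : K ≃+* K) (u : Kˣ), Γ φ (R.h u) = R.h (Units.map (φ : K →* K) u)
  Γ_n : ∀ φ, Γ φ R.n = R.n

variable {R}

theorem GalAct.presU (A : GalAct R) (φ : K ≃+* K) : R.PresU (A.Γ φ) := by
  intro x
  constructor
  · rintro ⟨a, b, c, rfl⟩
    rw [A.Γ_t]
    exact R.t_mem _ _ _
  · rintro ⟨a, b, c, e⟩
    have e2 : A.Γ φ x = A.Γ φ (R.t (φ.symm a) (φ.symm b) (φ.symm c)) := by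
      rw [e, A.Γ_t]
      simp
    rw [(A.Γ φ).injective e2]
    exact R.t_mem _ _ _

theorem GalAct.inv_t (A : GalAct R) (φ : K ≃+* K) (a b c : K) :
    (A.Γ φ)⁻¹ (R.t (φ a) (φ b) (φ c)) = R.t a b c := by
  rw [← A.Γ_t]
  simp

theorem GalAct.inv_h (A : GalAct R) (φ : K ≃+* K) (u : Kˣ) :
    (A.Γ φ)⁻¹ (R.h (Units.map (φ : K →* K) u)) = R.h u := by
  rw [← A.Γ_h]
  simp

variable (R)

variable [Fintype K] {m : ℕ} (hm : 1 ≤ m) (hK : Fintype.card K = 3 ^ (2 * m + 1))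
  (hcomm : ∀ (φ : K ≃+* K) (x : K), φ (f x) = f (φ x))
include hm hK hcomm

/-- The field automorphism attached to an automorphism normalising `U` and `H`. -/
theorem first_char {α : MulAut G} (hα : R.PresU α) (hT : ∀ s : Kˣ, ∃ s' : Kˣ, α (R.h s) = R.h s') :
    ∃ (φ : K ≃+* K) (d : Kˣ), (∀ s, α (R.h s) = R.h (Units.map (φ : K →* K) s)) ∧
      ∀ a, ∃ b c, α (R.t a 0 0) = R.t ((d : K) * φ a) b c := by
  have hf3 := R.hf3
  choose β hβ using hT
  have hUmem : ∀ a b c : K, ∃ A B C : K, α (R.t a b c) = R.t A B C := fun a b c => by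
    obtain ⟨A, B, C, e⟩ := (hα _).mp (R.t_mem a b c)
    exact ⟨A, B, C, e⟩
  choose A B C hABC using hUmem
  have hA0 : ∀ b c, A 0 b c = 0 := by
    intro b c
    have h1 : R.t 0 b c ^ 3 = 1 := by
      rw [R.t_cube]
      simp [R.t_zero]
    have h2 := congrArg α h1
    rw [map_pow, map_one, hABC, R.t_cube] at h2
    exact a_eq_zero_of (neg_eq_zero.mp (R.t_eq_one h2).2.2)
  obtain ⟨D, hD⟩ : ∃ D : K → K, ∀ a, D a = A a 0 0 := ⟨_, fun _ => rfl⟩
  have hadd : ∀ a a', D (a + a') = D a + D a' := by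
    intro a a'
    have h1 := R.t_rel a a'
    have h2 := congrArg α h1
    rw [map_mul, map_mul, map_mul, hABC a 0 0, hABC a' 0 0, hABC (a + a') 0 0, hABC 0 _ 0, hABC 0 0 _, hA0, hA0,
      R.t_mul, R.t_mul, R.t_mul] at h2
    obtain ⟨h4, -, -⟩ := R.t_inj h2
    simp at h4
    rw [hD, hD, hD]
    exact h4.symm
  have hequiv : ∀ (s : Kˣ) (a : K), D (((c1 f s : Kˣ) : K) * a) = ((c1 f (β s) : Kˣ) : K) * D a := by
    intro s a
    have h1 := R.h_t' s a 0 0
    have h2 := congrArg α h1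
    rw [map_mul, map_mul, map_inv, hβ, hABC a 0 0, R.h_t', mul_zero, mul_zero, hABC] at h2
    obtain ⟨h4, -, -⟩ := R.t_inj h2
    rw [hD, hD]
    exact h4.symm
  have hzero : ∀ a, D a = 0 → a = 0 := by
    intro a ha
    have h1 : R.t a 0 0 ^ 3 = 1 := by
      apply α.injective
      rw [map_pow, map_one, hABC, ← hD, ha, R.t_cube]
      simp [R.t_zero]
    rw [R.t_cube] at h1
    exact a_eq_zero_of (neg_eq_zero.mp (R.t_eq_one h1).2.2)
  have hD0 : D 0 = 0 := by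
    have := hadd 0 0
    simpa using this
  have hd : D 1 ≠ 0 := fun h => one_ne_zero (hzero 1 h)
  obtain ⟨d, hdd⟩ : ∃ d, d = D 1 := ⟨_, rfl⟩
  rw [← hdd] at hd
  have hf_unit : ∀ s : Kˣ, d⁻¹ * D ((c1 f s : Kˣ) : K) = ((c1 f (β s) : Kˣ) : K) := by
    intro s
    have := hequiv s 1
    rw [mul_one, ← hdd] at this
    rw [this]
    field_simp
  have hf_mul : ∀ a x, d⁻¹ * D (a * x) = (d⁻¹ * D a) * (d⁻¹ * D x) := by
    intro a x
    by_cases ha : a = 0
    · subst ha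
      simp [hD0]
    · obtain ⟨s, hs⟩ := c1_surj hf3 (Units.mk0 a ha)
      have e : ((c1 f s : Kˣ) : K) = a := by rw [hs, Units.val_mk0]
      have h1 := hequiv s x
      have h2 := hf_unit s
      rw [e] at h1 h2
      rw [h2, h1]
      ring
  let φ₀ : K →+* K :=
    { toFun := fun a => d⁻¹ * D a
      map_one' := by
        rw [← hdd]
        exact inv_mul_cancel₀ hd
      map_mul' := hf_mul
      map_zero' := by simp [hD0]
      map_add' := fun a x => by rw [hadd]; ring }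
  have hbij : Function.Bijective φ₀ := ⟨φ₀.injective, Finite.surjective_of_injective φ₀.injective⟩
  let φ : K ≃+* K := RingEquiv.ofBijective φ₀ hbij
  have hφ : ∀ a, φ a = d⁻¹ * D a := fun a => rfl
  have hDφ : ∀ a, D a = d * φ a := by
    intro a
    rw [hφ]
    field_simp
  have hβφ : ∀ s, β s = Units.map (φ : K →* K) s := by
    intro s
    apply c1_inj hf3
    apply Units.ext
    rw [← hf_unit s, ← hφ, c1_val, c1_val]
    simp [hcomm]
  refine ⟨φ, Units.mk0 d hd, ?_, ?_⟩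
  · intro s
    rw [hβ, hβφ]
  · intro a
    refine ⟨B a 0 0, C a 0 0, ?_⟩
    rw [hABC, Units.val_mk0, ← hDφ, hD]

/-- The normal form of an arbitrary automorphism. -/
theorem aut_normal [Finite G] (hG : Nat.card G = (1 + Fintype.card K ^ 3) * (Fintype.card K ^ 3 * (Fintype.card K - 1)))
    (A : GalAct R) (α : MulAut G) : ∃ (g : G) (φ : K ≃+* K), MulAut.conj g * α = A.Γ φ := by
  have hf3 := R.hf3
  obtain ⟨g₁, h₁⟩ := R.exists_conj_U hK hG α
  obtain ⟨u, h₂, hT⟩ := R.exists_conj_H hm hK h₁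
  set α₁ := MulAut.conj u * (MulAut.conj g₁ * α) with hα₁
  obtain ⟨φ, d, hφ, hd⟩ := R.first_char hm hK hcomm h₂ hT
  obtain ⟨r, hr⟩ := c1_surj hf3 d⁻¹
  have h₃ := R.presU_conj_h r h₂
  set α₂ := MulAut.conj (R.h r) * α₁ with hα₂
  have e2 : ∀ x, α₂ x = R.h r * α₁ x * (R.h r)⁻¹ := fun x => rfl
  have hα₂h : ∀ s, α₂ (R.h s) = R.h (Units.map (φ : K →* K) s) := by
    intro s
    rw [e2, hφ]
    rw [← map_inv, ← map_mul, ← map_mul]
    congr 1
    rw [mul_comm r, mul_assoc, mul_inv_cancel, mul_one]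
  have hα₂t : ∀ a, ∃ b c, α₂ (R.t a 0 0) = R.t (φ a) b c := by
    intro a
    obtain ⟨b, c, e⟩ := hd a
    set y := ((c1 f r : Kˣ) : K) with hy
    have hy1 : y * (d : K) = 1 := by
      rw [hy, hr, Units.val_inv_eq_inv_val]
      exact inv_mul_cancel₀ d.ne_zero
    refine ⟨y * tau f y * b, y ^ 2 * tau f y * c, ?_⟩
    rw [e2, e, R.h_t']
    congr 1
    rw [← mul_assoc, ← hy, hy1, one_mul]
  have hα₃ : (A.Γ φ)⁻¹ * α₂ = 1 := by
    apply R.rigid hm hK
    · intro x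
      rw [h₃ x]
      show α₂ x ∈ R.U ↔ (A.Γ φ)⁻¹ (α₂ x) ∈ R.U
      generalize α₂ x = y
      rw [A.presU φ ((A.Γ φ)⁻¹ y)]
      simp
    · intro s
      show (A.Γ φ)⁻¹ (α₂ (R.h s)) = R.h s
      rw [hα₂h, A.inv_h]
    · intro a
      obtain ⟨b, c, e⟩ := hα₂t a
      refine ⟨φ.symm b, φ.symm c, ?_⟩
      show (A.Γ φ)⁻¹ (α₂ (R.t a 0 0)) = _
      rw [e]
      have := A.inv_t φ a (φ.symm b) (φ.symm c)
      simpa using this
  refine ⟨R.h r * (u * g₁), φ, ?_⟩
  have e3 : α₂ = A.Γ φ := by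
    exact (inv_mul_eq_one.mp hα₃).symm
  rw [← e3, hα₂, hα₁, map_mul, map_mul, mul_assoc, mul_assoc]

omit hm hK hcomm [Fintype K] in
/-- A field automorphism which is inner modulo another is that other. -/
theorem Gam_inj (A : GalAct R) {φ ψ : K ≃+* K} {k : G} (e : A.Γ φ = MulAut.conj k * A.Γ ψ) : φ = ψ := by
  have hk : k ∈ R.B := by
    rw [R.mem_B_iff]
    intro x hx
    obtain ⟨y, hy⟩ : ∃ y, A.Γ ψ y = x := ⟨(A.Γ ψ)⁻¹ x, by simp⟩
    have hyU : y ∈ R.U := (A.presU ψ y).mpr (by rw [hy]; exact hx)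
    have h1 := DFunLike.congr_fun e y
    have h2 : (MulAut.conj k * A.Γ ψ) y = k * x * k⁻¹ := by
      show k * (A.Γ ψ y) * k⁻¹ = _
      rw [hy]
    rw [← h2, ← h1]
    exact (A.presU φ y).mp hyU
  ext a
  by_cases ha : a = 0
  · subst ha
    simp
  · have h1 := DFunLike.congr_fun e (R.h (Units.mk0 a ha))
    have h2 : (MulAut.conj k * A.Γ ψ) (R.h (Units.mk0 a ha)) = k * R.h (Units.map (ψ : K →* K) (Units.mk0 a ha)) * k⁻¹ := by
      show k * (A.Γ ψ _) * k⁻¹ = _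
      rw [A.Γ_h]
    rw [h2, A.Γ_h] at h1
    obtain ⟨a', b', c', e3⟩ := R.B_conj_h hk (Units.map (ψ : K →* K) (Units.mk0 a ha))
    rw [e3] at h1
    have h3 : R.t 0 0 0 * R.h (Units.map (φ : K →* K) (Units.mk0 a ha)) = R.t a' b' c' * R.h (Units.map (ψ : K →* K) (Units.mk0 a ha)) := by
      rw [R.t_zero, one_mul]
      exact h1
    have h4 := (R.tB_inj h3).2
    have h5 := congrArg Units.val h4
    simpa using h5

omit R hm hcomm [CharP K 3] in
theorem card_gal (h3 : CharP K 3) : Nat.card (K ≃+* K) = 2 * m + 1 := by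
  haveI : Fact (Nat.Prime 3) := ⟨Nat.prime_three⟩
  let _ := ZMod.algebra K 3
  let e : (K ≃+* K) ≃ (K ≃ₐ[ZMod 3] K) :=
    { toFun := fun σ => AlgEquiv.ofRingEquiv (f := σ) (fun r => by
        have : (σ : K →+* K).comp (algebraMap (ZMod 3) K) = algebraMap (ZMod 3) K := Subsingleton.elim _ _
        exact RingHom.congr_fun this r)
      invFun := fun τ => τ.toRingEquiv
      left_inv := fun σ => by ext; rfl
      right_inv := fun τ => by ext; rfl }
  have h1 : Nat.card (K ≃ₐ[ZMod 3] K) = Module.finrank (ZMod 3) K := by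
    have := Nat.card_congr (Equiv.ofBijective _ (FiniteField.bijective_frobeniusAlgEquivOfAlgebraic_pow (ZMod 3) K))
    simpa using this.symm
  have h2 : Module.finrank (ZMod 3) K = 2 * m + 1 := by
    have h3 := Module.card_eq_pow_finrank (K := ZMod 3) (V := K)
    rw [ZMod.card, hK] at h3
    exact (Nat.pow_right_injective (by norm_num : 2 ≤ 3) h3).symm
  rw [Nat.card_congr e, h1, h2]

/-- The order of the outer automorphism group. -/
theorem card_out [Finite G] (hG : Nat.card G = (1 + Fintype.card K ^ 3) * (Fintype.card K ^ 3 * (Fintype.card K - 1)))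
    (A : GalAct R) : Nat.card (Cfsg.Out G) = 2 * m + 1 := by
  let Ψ : (K ≃+* K) → Cfsg.Out G := fun φ => QuotientGroup.mk (A.Γ φ)
  have hinj : Function.Injective Ψ := by
    intro φ ψ h
    have h1 : (A.Γ φ) * (A.Γ ψ)⁻¹ ∈ Cfsg.Inn G := by
      have : (QuotientGroup.mk ((A.Γ φ) * (A.Γ ψ)⁻¹) : Cfsg.Out G) = 1 := by
        rw [QuotientGroup.mk_mul, QuotientGroup.mk_inv]
        show Ψ φ * (Ψ ψ)⁻¹ = 1
        rw [h, mul_inv_cancel]
      exact (QuotientGroup.eq_one_iff _).mp this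
    obtain ⟨k, hk⟩ := h1
    apply R.Gam_inj A (k := k)
    have hk' : MulAut.conj k = (A.Γ φ) * (A.Γ ψ)⁻¹ := hk
    rw [hk', inv_mul_cancel_right]
  have hsurj : Function.Surjective Ψ := by
    intro x
    obtain ⟨α, rfl⟩ := QuotientGroup.mk_surjective x
    obtain ⟨g, φ, h⟩ := R.aut_normal hm hK hcomm hG A α
    refine ⟨φ, ?_⟩
    show QuotientGroup.mk (A.Γ φ) = _
    rw [← h, QuotientGroup.mk_mul]
    have : (QuotientGroup.mk (MulAut.conj g) : Cfsg.Out G) = 1 :=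
      (QuotientGroup.eq_one_iff _).mpr ⟨g, rfl⟩
    rw [this, one_mul]
  rw [← Nat.card_congr (Equiv.ofBijective Ψ ⟨hinj, hsurj⟩), card_gal hK ‹_›]

end RD

end Cfsg.Agent.Lib.Ree
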