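import Cfsg.Agent.Lib.Ree.RL

/-! The centraliser of the involution of the torus: the isomorphism type. -/

set_option autoImplicit false
set_option linter.unusedSimpArgs false
set_option linter.unusedVariables false
set_option linter.unusedSectionVars false

namespace Cfsg.Agent.Lib.Ree

open Matrix Cfsg.Agent.Lib.Chev

/-- The homomorphism attached to an involution. -/
def chiHom {G : Type*} [Group G] (x : G) (hx : x * x = 1) : Multiplicative (ZMod 2) →* G where
  toFun e := if e = 1 then 1 else x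
  map_one' := by simp
  map_mul' a b := by
    have hc : ∀ e : Multiplicative (ZMod 2), e = 1 ∨ e = Multiplicative.ofAdd 1 := by decide
    have h2 : (Multiplicative.ofAdd (1 : ZMod 2)) * (Multiplicative.ofAdd (1 : ZMod 2)) = 1 := by decide
    have h3 : (Multiplicative.ofAdd (1 : ZMod 2)) ≠ 1 := by decide
    rcases hc a with rfl | rfl <;> rcases hc b with rfl | rfl <;> simp [h2, h3, hx]

@[simp] theorem chiHom_one {G : Type*} [Group G] (x : G) (hx : x * x = 1) : chiHom x hx 1 = 1 := map_one _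

@[simp] theorem chiHom_gen {G : Type*} [Group G] (x : G) (hx : x * x = 1) : chiHom x hx (Multiplicative.ofAdd 1) = x := by
  show (if (Multiplicative.ofAdd (1 : ZMod 2)) = 1 then 1 else x) = x
  rw [if_neg (by decide)]

theorem mp2_cases (e : Multiplicative (ZMod 2)) : e = 1 ∨ e = Multiplicative.ofAdd 1 := by
  revert e
  decide

namespace RD

variable {K : Type*} [Field K] [CharP K 3] {f : K ≃+* K} {G : Type*} [Group G] {R : RD K f G}

namespace RL

variable (L : RL R)

theorem a_sq (R : RD K f G) : R.h (-1) * R.h (-1) = 1 := by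
  rw [← map_mul]
  simp

theorem center_φ : Subgroup.center (Matrix.SpecialLinearGroup (Fin 2) K) ≤ L.φ.ker := by
  intro x hx
  obtain ⟨r, hr, e⟩ := Matrix.SpecialLinearGroup.mem_center_iff.mp hx
  rw [MonoidHom.mem_ker]
  have hr2 : r * r = 1 := by
    have : r ^ 2 = 1 := by simpa using hr
    rwa [pow_two] at this
  rcases sq_one_units hr2 with rfl | rfl
  · have : x = 1 := by
      apply Subtype.ext
      rw [← e]
      simp
    rw [this, map_one]
  · have : x = -1 := by
      apply Subtype.ext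
      rw [← e, Matrix.SpecialLinearGroup.coe_neg]
      ext i j
      fin_cases i <;> fin_cases j <;> simp
    rw [this, L.φ_neg_one]

/-- The induced map on `PSL₂`. -/
noncomputable def phiBar : ProjectiveSpecialLinearGroup (Fin 2) K →* G :=
  QuotientGroup.lift _ L.φ L.center_φ

@[simp] theorem phiBar_mk (g : Matrix.SpecialLinearGroup (Fin 2) K) :
    L.phiBar (QuotientGroup.mk g) = L.φ g := rfl

theorem phiBar_inj : Function.Injective L.phiBar := by
  rw [injective_iff_map_eq_one]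
  intro p hp
  obtain ⟨g, rfl⟩ := QuotientGroup.mk_surjective p
  rw [phiBar_mk] at hp
  rw [QuotientGroup.eq_one_iff, Matrix.SpecialLinearGroup.mem_center_iff]
  rcases L.φ_ker hp with rfl | rfl
  · exact ⟨1, by simp, by simp⟩
  · refine ⟨-1, by simp, ?_⟩
    rw [Matrix.SpecialLinearGroup.coe_neg]
    ext i j
    fin_cases i <;> fin_cases j <;> simp

/-- The map on the product. -/
noncomputable def Phi : Multiplicative (ZMod 2) × ProjectiveSpecialLinearGroup (Fin 2) K →* G :=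
  MonoidHom.noncommCoprod (chiHom (R.h (-1)) (a_sq R)) L.phiBar (by
    intro e p
    obtain ⟨g, rfl⟩ := QuotientGroup.mk_surjective p
    rcases mp2_cases e with rfl | rfl
    · simp
    · rw [chiHom_gen, phiBar_mk]
      exact L.a_φ g)

theorem Phi_apply (e : Multiplicative (ZMod 2)) (g : Matrix.SpecialLinearGroup (Fin 2) K) :
    L.Phi (e, QuotientGroup.mk g) = chiHom (R.h (-1)) (a_sq R) e * L.φ g := rfl

theorem Phi_inj : Function.Injective L.Phi := by
  rw [injective_iff_map_eq_one]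
  rintro ⟨e, p⟩ hp
  obtain ⟨g, rfl⟩ := QuotientGroup.mk_surjective p
  rw [Phi_apply] at hp
  rcases mp2_cases e with rfl | rfl
  · rw [chiHom_one, one_mul] at hp
    have : (QuotientGroup.mk g : ProjectiveSpecialLinearGroup (Fin 2) K) = 1 := by
      apply L.phiBar_inj
      rw [phiBar_mk, hp, map_one]
    rw [this]
    rfl
  · exfalso
    rw [chiHom_gen] at hp
    apply L.a_not_φ g
    have := eq_inv_of_mul_eq_one_right hp
    rw [this]
    exact inv_eq_of_mul_eq_one_left (a_sq R)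

theorem Phi_comm (x : Multiplicative (ZMod 2) × ProjectiveSpecialLinearGroup (Fin 2) K) :
    L.Phi x * R.h (-1) = R.h (-1) * L.Phi x := by
  obtain ⟨e, p⟩ := x
  obtain ⟨g, rfl⟩ := QuotientGroup.mk_surjective p
  rw [Phi_apply]
  rcases mp2_cases e with rfl | rfl
  · rw [chiHom_one, one_mul]
    exact (L.a_φ g).symm
  · rw [chiHom_gen, mul_assoc, ← L.a_φ g]

omit [CharP K 3] in
theorem two_inv_ne (h : (2 : K) ≠ 0) {x : K} (hx : -x = x) : x = 0 := by
  have : 2 * x = 0 := by linear_combination -hx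
  exact (mul_eq_zero.mp this).resolve_left h

/-- Elements of `U` fixed by `a`. -/
theorem a_fix {x y w : K} (h : R.h (-1) * R.t x y w = R.t x y w * R.h (-1)) : x = 0 ∧ w = 0 := by
  rw [R.h_mul_t'] at h
  obtain ⟨e1, -, e3⟩ := R.t_inj (mul_right_cancel h)
  rw [c1_neg_one] at e1 e3
  rw [tau_neg, tau_one] at e3
  constructor
  · exact two_inv_ne two_ne (by linear_combination e1)
  · exact two_inv_ne two_ne (by linear_combination e3)

omit [CharP K 3] in
theorem mk_range_t [CharP K 3] (y : K) : R.t 0 y 0 ∈ L.Phi.range :=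
  ⟨(1, QuotientGroup.mk (SL2.Rel.upE y)), by
    rw [Phi_apply, chiHom_one, one_mul, L.φ_up]⟩

theorem mk_range_n : R.n ∈ L.Phi.range :=
  ⟨(1, QuotientGroup.mk SL2.Rel.wE), by
    rw [Phi_apply, chiHom_one, one_mul, L.φ_w]⟩

theorem mk_range_h [Finite K] (hsq : ∀ u : Kˣ, (∃ v, u = v * v) ∨ (∃ v, u = -1 * (v * v))) (s : Kˣ) : R.h s ∈ L.Phi.range := by
  obtain ⟨x, hx, e | e⟩ := L.h_form hsq s
  · exact ⟨(1, QuotientGroup.mk (SL2.Rel.dE x hx)), by rw [Phi_apply, chiHom_one, one_mul, e]⟩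
  · exact ⟨(Multiplicative.ofAdd 1, QuotientGroup.mk (SL2.Rel.dE x hx)), by rw [Phi_apply, chiHom_gen, e]⟩

/-- The centraliser of `a`. -/
theorem cent_a_form {z : G} (hz : z * R.h (-1) = R.h (-1) * z) :
    (∃ y s, z = R.t 0 y 0 * R.h s) ∨ (∃ y y' s, z = R.t 0 y 0 * R.n * (R.t 0 y' 0 * R.h s)) := by
  rcases R.bruhat z with ⟨x, y, w, s, rfl⟩ | ⟨x, y, w, x', y', w', s, rfl⟩
  · left
    have h1 : R.h (-1) * R.t x y w = R.t x y w * R.h (-1) := by
      have e : R.t x y w * R.h s * R.h (-1) = R.t x y w * R.h (-1) * R.h s := by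
        rw [mul_assoc, h_comm, mul_assoc]
      rw [e] at hz
      have e2 : R.h (-1) * (R.t x y w * R.h s) = R.h (-1) * R.t x y w * R.h s := by group
      rw [e2] at hz
      exact (mul_right_cancel hz).symm
    obtain ⟨rfl, rfl⟩ := a_fix h1
    exact ⟨y, s, rfl⟩
  · right
    set t₁ := R.t x y w with ht₁
    set t₂ := R.t x' y' w' with ht₂
    -- move a through
    have e1 := R.h_mul_t' (-1) x y w
    have e2 := R.h_mul_t' (-1) x' y' w'
    rw [← ht₁] at e1
    rw [← ht₂] at e2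
    set t₁' := R.t (((c1 f (-1) : Kˣ) : K) * x) (((c1 f (-1) : Kˣ) : K) * tau f ((c1 f (-1) : Kˣ) : K) * y)
      (((c1 f (-1) : Kˣ) : K) ^ 2 * tau f ((c1 f (-1) : Kˣ) : K) * w) with ht₁'
    set t₂' := R.t (((c1 f (-1) : Kˣ) : K) * x') (((c1 f (-1) : Kˣ) : K) * tau f ((c1 f (-1) : Kˣ) : K) * y')
      (((c1 f (-1) : Kˣ) : K) ^ 2 * tau f ((c1 f (-1) : Kˣ) : K) * w') with ht₂'
    have e3 : R.h (-1) * (t₁ * R.n * (t₂ * R.h s)) = t₁' * R.n * t₂' * (R.h (-1) * R.h s) := by
      calc R.h (-1) * (t₁ * R.n * (t₂ * R.h s)) = (R.h (-1) * t₁) * R.n * t₂ * R.h s := by group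
        _ = t₁' * (R.h (-1) * R.n) * t₂ * R.h s := by rw [e1]; group
        _ = t₁' * R.n * (R.h (-1) * t₂) * R.h s := by rw [a_n]; group
        _ = _ := by rw [e2]; group
    have e4 : t₁ * R.n * (t₂ * R.h s) * R.h (-1) = t₁ * R.n * t₂ * (R.h (-1) * R.h s) := by
      rw [h_comm]
      group
    rw [e3, e4] at hz
    have e5 := mul_right_cancel hz
    -- e5 : t₁ n t₂ = t₁' n t₂'
    have e6 : (t₁')⁻¹ * t₁ * R.n = R.n * (t₂' * t₂⁻¹) := by
      have : t₁ * R.n = t₁' * R.n * t₂' * t₂⁻¹ := by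
        rw [← e5]
        group
      rw [mul_assoc, this]
      group
    have h1 : (t₁')⁻¹ * t₁ ∈ R.U := Subgroup.mul_mem _ (Subgroup.inv_mem _ (R.t_mem _ _ _)) (R.t_mem _ _ _)
    have h2 : t₂' * t₂⁻¹ ∈ R.B := Subgroup.mul_mem _ (R.t_mem_B _ _ _) (Subgroup.inv_mem _ (R.t_mem_B _ _ _))
    have h3 := R.U_inf_n h1 h2 e6
    have h4 : t₁' = t₁ := (inv_mul_eq_one.mp h3)
    have h5 : t₂' = t₂ := by
      rw [h4] at e5
      exact (mul_left_cancel e5).symm
    have f1 : R.h (-1) * R.t x y w = R.t x y w * R.h (-1) := by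
      rw [← ht₁, e1, h4]
    have f2 : R.h (-1) * R.t x' y' w' = R.t x' y' w' * R.h (-1) := by
      rw [← ht₂, e2, h5]
    obtain ⟨hx, hw⟩ := a_fix f1
    obtain ⟨hx', hw'⟩ := a_fix f2
    refine ⟨y, y', s, ?_⟩
    rw [ht₁, ht₂, hx, hw, hx', hw']

theorem Phi_surj [Finite K] (hsq : ∀ u : Kˣ, (∃ v, u = v * v) ∨ (∃ v, u = -1 * (v * v))) {z : G}
    (hz : z * R.h (-1) = R.h (-1) * z) : z ∈ L.Phi.range := by
  rcases cent_a_form hz with ⟨y, s, rfl⟩ | ⟨y, y', s, rfl⟩
  · exact Subgroup.mul_mem _ (L.mk_range_t y) (L.mk_range_h hsq s)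
  · exact Subgroup.mul_mem _ (Subgroup.mul_mem _ (L.mk_range_t y) L.mk_range_n)
      (Subgroup.mul_mem _ (L.mk_range_t y') (L.mk_range_h hsq s))

/-- The isomorphism type of the centraliser of `a`. -/
noncomputable def centEquiv [Finite K] (hsq : ∀ u : Kˣ, (∃ v, u = v * v) ∨ (∃ v, u = -1 * (v * v))) :
    Multiplicative (ZMod 2) × ProjectiveSpecialLinearGroup (Fin 2) K ≃* ↥(Subgroup.centralizer {R.h (-1)}) :=
  MulEquiv.ofBijective
    (L.Phi.codRestrict _ (fun x => Subgroup.mem_centralizer_singleton_iff.mpr (L.Phi_comm x)))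
    ⟨fun x y h => L.Phi_inj (congrArg Subtype.val h), by
      rintro ⟨z, hz⟩
      obtain ⟨x, rfl⟩ := L.Phi_surj hsq (Subgroup.mem_centralizer_singleton_iff.mp hz)
      exact ⟨x, rfl⟩⟩

end RL

end RD

end Cfsg.Agent.Lib.Ree
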