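import Cfsg.Agent.Lib.Ree.QE

/-! Counting: involutions outside the Borel subgroup are conjugate to the involution of the torus. -/

set_option autoImplicit false
set_option linter.unusedSimpArgs false
set_option linter.unusedVariables false
set_option linter.unusedSectionVars false

namespace Cfsg.Agent.Lib.Ree

open Matrix Cfsg.Agent.Lib.Chev

/-- The orbit-stabiliser count for conjugation by a subgroup. -/
theorem card_orbit_form {G : Type*} [Group G] [Finite G] (A : Subgroup G) (x : G) (X : Set G)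
    (h1 : ∀ g ∈ A, g * x * g⁻¹ ∈ X) (h2 : ∀ y ∈ X, ∃ g ∈ A, g * x * g⁻¹ = y) :
    Nat.card A = X.ncard * Nat.card ↥(A ⊓ Subgroup.centralizer {x}) := by
  letI : MulAction A G := MulAction.compHom G ((MulAut.conj (G := G)).comp A.subtype)
  have hsm : ∀ (g : A) (y : G), g • y = g.1 * y * g.1⁻¹ := fun g y => rfl
  have ho : MulAction.orbit A x = X := by
    ext y
    constructor
    · rintro ⟨g, rfl⟩
      exact h1 g.1 g.2
    · intro hy
      obtain ⟨g, hg, e⟩ := h2 y hy
      exact ⟨⟨g, hg⟩, e⟩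
  have hi := MulAction.index_stabilizer A x
  rw [ho] at hi
  have h3 := Subgroup.card_mul_index (MulAction.stabilizer A x)
  rw [hi] at h3
  rw [← h3, mul_comm]
  congr 1
  apply Nat.card_congr
  refine ⟨fun g => ⟨g.1.1, g.1.2, Subgroup.mem_centralizer_singleton_iff.mpr ?_⟩,
    fun g => ⟨⟨g.1, g.2.1⟩, ?_⟩, fun g => rfl, fun g => rfl⟩
  · have := g.2
    rw [MulAction.mem_stabilizer_iff, hsm] at this
    exact mul_inv_eq_iff_eq_mul.mp this
  · rw [MulAction.mem_stabilizer_iff, hsm]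
    have := Subgroup.mem_centralizer_singleton_iff.mp g.2.2
    exact mul_inv_eq_iff_eq_mul.mpr this

theorem ncard_range_le {α β : Type*} [Finite α] (F : α → β) : (Set.range F).ncard ≤ Nat.card α := by
  rw [← Set.image_univ, ← Set.ncard_univ]
  exact Set.ncard_image_le Set.finite_univ

namespace RD

variable {K : Type*} [Field K] [CharP K 3] {f : K ≃+* K} {G : Type*} [Group G] {R : RD K f G}

/-- The form of an involution outside `B`. -/
theorem inv_not_B_form {x : G} (hx : x * x = 1) (hB : x ∉ R.B) :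
    ∃ a b c s, x = R.t a b c * (R.n * R.h s) * (R.t a b c)⁻¹ := by
  rcases R.bruhat x with ⟨a, b, c, s, rfl⟩ | ⟨a, b, c, a', b', c', s, rfl⟩
  · exact absurd ⟨a, b, c, s, rfl⟩ hB
  · refine ⟨a, b, c, s, ?_⟩
    set t := R.t a b c with ht
    set t' := R.t a' b' c' with ht'
    set h := R.h s with hh
    have hn : h * R.n = R.n * h⁻¹ := by
      rw [hh, R.h_mul_n, map_inv]
    set u := t' * (h * t * h⁻¹) with hu
    have hu1 : u ∈ R.U := Subgroup.mul_mem _ (R.t_mem _ _ _) (R.h_conj_U s (R.t_mem _ _ _))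
    have e1 : t * R.n * (t' * h) * (t * R.n * (t' * h)) = t * R.n * u * R.n * (h⁻¹ * t' * h) := by
      have : t * R.n * (t' * h) * (t * R.n * (t' * h)) = t * R.n * (t' * (h * t * h⁻¹)) * (h * R.n) * (t' * h) := by group
      rw [this, hn, ← hu]
      group
    rw [e1] at hx
    have e2 : u * R.n = R.n * (t⁻¹ * (h⁻¹ * t' * h)⁻¹) := by
      have h5 : R.n * (t⁻¹ * (h⁻¹ * t' * h)⁻¹) = R.n * t⁻¹ * (t * R.n * u * R.n * (h⁻¹ * t' * h)) * (h⁻¹ * t' * h)⁻¹ := by
        rw [hx]
        group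
      rw [h5]
      have := R.n_sq
      calc u * R.n = (R.n * R.n) * u * R.n := by rw [this, one_mul]
        _ = _ := by group
    have hb : t⁻¹ * (h⁻¹ * t' * h)⁻¹ ∈ R.B := by
      refine Subgroup.mul_mem _ (Subgroup.inv_mem _ (R.t_mem_B _ _ _)) (Subgroup.inv_mem _ ?_)
      exact Subgroup.mul_mem _ (Subgroup.mul_mem _ (Subgroup.inv_mem _ (R.h_mem_B _)) (R.t_mem_B _ _ _)) (R.h_mem_B _)
    have hu2 : u = 1 := R.U_inf_n hu1 hb e2
    have e3 : t' = h * t⁻¹ * h⁻¹ := by
      have := eq_inv_of_mul_eq_one_left hu2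
      rw [this]
      group
    rw [e3]
    group

/-- The form of an involution in `B`. -/
theorem inv_B_form {x : G} (hx : x * x = 1) (hB : x ∈ R.B) (h1 : x ≠ 1) :
    ∃ a c, x = R.t a (a * tau f a) c * R.h (-1) := by
  obtain ⟨a, b, c, s, rfl⟩ := hB
  have h3 := three_K (K := K)
  have e1 : R.t a b c * R.h s * (R.t a b c * R.h s) = R.t a b c * (R.h s * R.t a b c) * R.h s := by group
  rw [e1, R.h_mul_t', ← mul_assoc, R.t_mul, mul_assoc, ← map_mul] at hx
  have e0 : R.t 0 0 0 * R.h 1 = 1 := by rw [R.t_zero, map_one, one_mul]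
  rw [← e0] at hx
  obtain ⟨⟨e2, e3, e4⟩, e5⟩ := R.tB_inj hx
  have hs : (s : K) ^ 2 = 1 := by
    rw [pow_two, ← Units.val_mul, e5, Units.val_one]
  have h2' := two_ne (K := K)
  have eq_two : ∀ {x : K}, x + x = 0 → x = 0 := fun {x} h => (mul_eq_zero.mp (by linear_combination h : 2 * x = 0)).resolve_left h2'
  rcases units_sq hs with rfl | rfl
  · exfalso
    apply h1
    simp only [map_one, Units.val_one, tau_one] at e2 e3 e4
    have ha : a = 0 := eq_two (by linear_combination e2)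
    subst ha
    have hb : b = 0 := eq_two (by simpa using e3)
    subst hb
    have hc : c = 0 := eq_two (by simpa using e4)
    subst hc
    rw [R.t_zero, map_one, one_mul]
  · refine ⟨a, c, ?_⟩
    rw [c1_neg_one, tau_neg, tau_one] at e3
    have hb : b = a * tau f a := by
      have e6 : f (-1 * a) ^ 3 = - (f a ^ 3) := by
        rw [map_mul, map_neg, map_one]
        ring
      rw [e6] at e3
      unfold tau
      linear_combination b * h3 - e3
    rw [hb]

theorem card_units_K [Fintype K] : Nat.card Kˣ = Fintype.card K - 1 := by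
  rw [Nat.card_units, Nat.card_eq_fintype_card]

theorem card_cent_le [Fintype K] [Finite G] : Nat.card ↥(Subgroup.centralizer {R.h (-1)}) ≤
    Fintype.card K * (Fintype.card K - 1) + Fintype.card K * (Fintype.card K * (Fintype.card K - 1)) := by
  let F : (K × Kˣ) ⊕ (K × K × Kˣ) → G := Sum.elim (fun p => R.t 0 p.1 0 * R.h p.2)
    (fun p => R.t 0 p.1 0 * R.n * (R.t 0 p.2.1 0 * R.h p.2.2))
  have hsub : ((Subgroup.centralizer {R.h (-1)} : Subgroup G) : Set G) ⊆ Set.range F := by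
    intro z hz
    rcases RL.cent_a_form (Subgroup.mem_centralizer_singleton_iff.mp hz) with ⟨y, s, rfl⟩ | ⟨y, y', s, rfl⟩
    · exact ⟨Sum.inl (y, s), rfl⟩
    · exact ⟨Sum.inr (y, y', s), rfl⟩
  calc Nat.card ↥(Subgroup.centralizer {R.h (-1)}) = ((Subgroup.centralizer {R.h (-1)} : Subgroup G) : Set G).ncard :=
        Nat.card_coe_set_eq _
    _ ≤ (Set.range F).ncard := Set.ncard_le_ncard hsub (Set.toFinite _)
    _ ≤ Nat.card ((K × Kˣ) ⊕ (K × K × Kˣ)) := ncard_range_le F
    _ = _ := by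
      rw [Nat.card_sum, Nat.card_prod, Nat.card_prod, Nat.card_prod, card_units_K, Nat.card_eq_fintype_card]

/-- The conjugacy class of `a`. -/
def Cl (R : RD K f G) : Set G := {x | IsConj x (R.h (-1))}

theorem card_class [Finite G] : Nat.card G = (Cl R).ncard * Nat.card ↥(Subgroup.centralizer {R.h (-1)}) := by
  have := card_orbit_form (⊤ : Subgroup G) (R.h (-1)) (Cl R) (fun g _ => IsConj.symm (isConj_iff.mpr ⟨g, rfl⟩))
    (fun y hy => by
      obtain ⟨g, hg⟩ := isConj_iff.mp (IsConj.symm hy)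
      exact ⟨g, Subgroup.mem_top _, hg⟩)
  rw [Subgroup.card_top, top_inf_eq] at this
  exact this

theorem ncard_S2_le [Fintype K] [Finite G] : {x : G | x * x = 1 ∧ x ∉ R.B}.ncard ≤
    Fintype.card K * (Fintype.card K * (Fintype.card K * (Fintype.card K - 1))) := by
  let F : K × K × K × Kˣ → G := fun p => R.t p.1 p.2.1 p.2.2.1 * (R.n * R.h p.2.2.2) * (R.t p.1 p.2.1 p.2.2.1)⁻¹
  have hsub : {x : G | x * x = 1 ∧ x ∉ R.B} ⊆ Set.range F := by
    rintro x ⟨h1, h2⟩
    obtain ⟨a, b, c, s, e⟩ := inv_not_B_form h1 h2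
    exact ⟨(a, b, c, s), e.symm⟩
  calc _ ≤ (Set.range F).ncard := Set.ncard_le_ncard hsub (Set.toFinite _)
    _ ≤ Nat.card (K × K × K × Kˣ) := ncard_range_le F
    _ = _ := by
      rw [Nat.card_prod, Nat.card_prod, Nat.card_prod, card_units_K, Nat.card_eq_fintype_card]

theorem ncard_ClB_le [Fintype K] [Finite G] : (Cl R ∩ (R.B : Set G)).ncard ≤ Fintype.card K * Fintype.card K := by
  let F : K × K → G := fun p => R.t p.1 (p.1 * tau f p.1) p.2 * R.h (-1)
  have hsub : (Cl R ∩ (R.B : Set G)) ⊆ Set.range F := by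
    rintro x ⟨h1, h2⟩
    obtain ⟨c, hc⟩ := isConj_iff.mp (IsConj.symm h1)
    have hx : x * x = 1 := by
      rw [← hc]
      have e : c * R.h (-1) * c⁻¹ * (c * R.h (-1) * c⁻¹) = c * (R.h (-1) * R.h (-1)) * c⁻¹ := by group
      rw [e, RL.a_sq]
      group
    have hne : x ≠ 1 := by
      rw [← hc]
      intro h
      have : R.h (-1) = c⁻¹ * (c * R.h (-1) * c⁻¹) * c := by group
      rw [h] at this
      apply unit_neg_one_ne_one (K := K)
      apply R.h_inj
      rw [this, map_one]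
      group
    obtain ⟨a, d, e⟩ := inv_B_form hx h2 hne
    exact ⟨(a, d), e.symm⟩
  calc _ ≤ (Set.range F).ncard := Set.ncard_le_ncard hsub (Set.toFinite _)
    _ ≤ Nat.card (K × K) := ncard_range_le F
    _ = _ := by
      rw [Nat.card_prod, Nat.card_eq_fintype_card]

/-- All involutions outside `B` are conjugate to `a`. -/
theorem class_not_B [Fintype K] [Finite G]
    (hG : Nat.card G = (1 + Fintype.card K ^ 3) * (Fintype.card K ^ 3 * (Fintype.card K - 1)))
    (hq : 2 ≤ Fintype.card K) {x : G} (hx : x * x = 1) (hB : x ∉ R.B) : IsConj x (R.h (-1)) := by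
  obtain ⟨r, hr⟩ : ∃ r, Fintype.card K = r + 1 := ⟨Fintype.card K - 1, by omega⟩
  have hr1 : 1 ≤ r := by omega
  have h1 := card_class (R := R)
  have h2 := card_cent_le (R := R)
  have h3 := ncard_S2_le (R := R)
  have h4 := ncard_ClB_le (R := R)
  rw [hr, Nat.add_sub_cancel] at hG h2 h3
  rw [hr] at h4
  rw [hG] at h1
  set c := (Cl R).ncard with hc
  have h5 : (r + 1) ^ 2 * ((r + 1) * r + 1) ≤ c := by
    have hD : 0 < (r + 1) * (r * (r + 2)) := by positivity
    refine Nat.le_of_mul_le_mul_right ?_ hD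
    calc (r + 1) ^ 2 * ((r + 1) * r + 1) * ((r + 1) * (r * (r + 2)))
        = (1 + (r + 1) ^ 3) * ((r + 1) ^ 3 * r) := by ring
      _ = c * Nat.card ↥(Subgroup.centralizer {R.h (-1)}) := h1
      _ ≤ c * ((r + 1) * r + (r + 1) * ((r + 1) * r)) := Nat.mul_le_mul_left _ h2
      _ = _ := by ring
  have h6 := Set.ncard_inter_add_ncard_sdiff_eq_ncard (Cl R) (R.B : Set G) (Set.toFinite _)
  have hsub : Cl R \ (R.B : Set G) ⊆ {x : G | x * x = 1 ∧ x ∉ R.B} := by
    rintro y ⟨h7, h8⟩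
    refine ⟨?_, h8⟩
    obtain ⟨c, hc⟩ := isConj_iff.mp (IsConj.symm h7)
    rw [← hc]
    have e : c * R.h (-1) * c⁻¹ * (c * R.h (-1) * c⁻¹) = c * (R.h (-1) * R.h (-1)) * c⁻¹ := by group
    rw [e, RL.a_sq]
    group
  have hcard : {x : G | x * x = 1 ∧ x ∉ R.B}.ncard ≤ (Cl R \ (R.B : Set G)).ncard := by
    have e1 : (r + 1) * ((r + 1) * ((r + 1) * r)) + (r + 1) * (r + 1) = (r + 1) ^ 2 * ((r + 1) * r + 1) := by ring
    have : (Cl R ∩ (R.B : Set G)).ncard + (Cl R \ (R.B : Set G)).ncard = c := h6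
    omega
  have heq := Set.eq_of_subset_of_ncard_le hsub hcard (Set.toFinite _)
  have : x ∈ Cl R \ (R.B : Set G) := by
    rw [heq]
    exact ⟨hx, hB⟩
  exact this.1


end RD

end Cfsg.Agent.Lib.Ree
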