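import Mathlib

/-! A group theoretic criterion for the centraliser of an element of odd order dividing `q + 1`
in a small Ree group to be abelian. -/

set_option autoImplicit false
set_option linter.unusedSimpArgs false
set_option linter.unusedVariables false
set_option linter.unusedSectionVars false

namespace Cfsg.Agent.Lib.Ree

open scoped Pointwise

theorem inv_or_comm {G : Type*} [Group G] {t y : G} {r e : ℕ} (hr : r.Prime) (hr2 : r ≠ 2) (hy : orderOf y = r ^ e)
    (ht : t * t = 1) (hmem : t * y * t⁻¹ ∈ Subgroup.zpowers y) : t * y * t⁻¹ = y ∨ t * y * t⁻¹ = y⁻¹ := by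
  obtain ⟨k, hk⟩ := Subgroup.mem_zpowers_iff.mp hmem
  have hti : t⁻¹ = t := inv_eq_of_mul_eq_one_right ht
  have h1 : y ^ (k * k - 1) = 1 := by
    have e1 : t * (t * y * t⁻¹) * t⁻¹ = y := by
      rw [hti]
      have : t * (t * y * t) * t = (t * t) * y * (t * t) := by group
      rw [this, ht]
      group
    have e2 : t * (y ^ k) * t⁻¹ = (t * y * t⁻¹) ^ k := (conj_zpow).symm
    rw [← hk] at e1
    rw [e2, ← hk, ← zpow_mul] at e1
    rw [zpow_sub, e1]
    simp
  rw [← orderOf_dvd_iff_zpow_eq_one, hy] at h1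
  push_cast at h1
  have hp : Prime (r : ℤ) := Nat.prime_iff_prime_int.mp hr
  have hfac : k * k - 1 = (k - 1) * (k + 1) := by ring
  rw [hfac] at h1
  by_cases hd : (r : ℤ) ∣ k + 1
  · right
    have hnd : ¬ (r : ℤ) ∣ k - 1 := by
      intro h2
      have h3 : (r : ℤ) ∣ 2 := by
        have := dvd_sub hd h2
        simpa using this
      have h4 : r ∣ 2 := by exact_mod_cast h3
      exact hr2 ((Nat.prime_dvd_prime_iff_eq hr Nat.prime_two).mp h4)
    have hco : IsCoprime ((r : ℤ) ^ e) (k - 1) := ((hp.irreducible.coprime_iff_not_dvd).mpr hnd).pow_left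
    have h5 := hco.dvd_of_dvd_mul_left h1
    have h6 : y ^ (k + 1) = 1 := by
      rw [← orderOf_dvd_iff_zpow_eq_one, hy]
      exact_mod_cast h5
    rw [← hk]
    rw [zpow_add_one] at h6
    exact eq_inv_of_mul_eq_one_left h6
  · left
    have hco : IsCoprime ((r : ℤ) ^ e) (k + 1) := ((hp.irreducible.coprime_iff_not_dvd).mpr hd).pow_left
    have h5 := hco.dvd_of_dvd_mul_right h1
    have h6 : y ^ (k - 1) = 1 := by
      rw [← orderOf_dvd_iff_zpow_eq_one, hy]
      exact_mod_cast h5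
    rw [← hk]
    rw [zpow_sub_one] at h6
    exact (mul_inv_eq_one.mp h6)

/-- The abstract criterion. -/
theorem abs_comm {M : Type*} [Group M] [Finite M] (n w : ℕ) (hn : n = 4 * w) (hw : Odd w)
    (h4 : 4 ∣ Nat.card M) (h8 : ¬ 8 ∣ Nat.card M) (h3 : ¬ 3 ∣ Nat.card M)
    (hsq : ∀ z : M, (∃ k : ℕ, z ^ (2 ^ k) = 1) → z * z = 1)
    (hC : ∀ t : M, t ≠ 1 → t * t = 1 → Nat.card ↥(Subgroup.centralizer {t}) = n ∧
      ∀ u ∈ Subgroup.centralizer {t}, ∀ v ∈ Subgroup.centralizer {t}, u * v = v * u)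
    (hcyc : ∀ r : ℕ, r.Prime → 3 < r → ∀ P : Subgroup M, IsPGroup r P → IsCyclic P) :
    Nat.card M = n ∧ ∀ a b : M, a * b = b * a := by
  haveI : Fact (Nat.Prime 2) := ⟨Nat.prime_two⟩
  haveI : Fact (Nat.Prime 3) := ⟨Nat.prime_three⟩
  have hM0 : Nat.card M ≠ 0 := Nat.card_pos.ne'
  let D : Sylow 2 M := default
  have hD4 : Nat.card D = 4 := by
    rw [D.card_eq_multiplicity]
    have h5 := (Nat.Prime.pow_dvd_iff_le_factorization Nat.prime_two hM0 (k := 2)).mp (by simpa using h4)
    have h6 : ¬ 3 ≤ (Nat.card M).factorization 2 := by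
      intro h
      apply h8
      have := (Nat.Prime.pow_dvd_iff_le_factorization Nat.prime_two hM0 (k := 3)).mpr h
      simpa using this
    have : (Nat.card M).factorization 2 = 2 := by omega
    rw [this]
    rfl
  have hDsq : ∀ z ∈ (D : Subgroup M), z * z = 1 := by
    intro z hz
    apply hsq
    obtain ⟨k, hk⟩ := D.2 ⟨z, hz⟩
    exact ⟨k, by simpa using congrArg Subtype.val hk⟩
  have hDcomm : ∀ a ∈ (D : Subgroup M), ∀ b ∈ (D : Subgroup M), a * b = b * a := by
    intro a ha b hb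
    have e1 := hDsq _ (Subgroup.mul_mem _ ha hb)
    have e2 : a * b * (b * a) = 1 := by
      calc a * b * (b * a) = a * (b * b) * a := by group
        _ = 1 := by rw [hDsq b hb, mul_one, hDsq a ha]
    exact mul_left_cancel (e1.trans e2.symm)
  have hle : (D : Subgroup M) ≤ Subgroup.centralizer (D : Set M) := by
    intro a ha
    rw [Subgroup.mem_centralizer_iff]
    intro b hb
    exact hDcomm b hb a ha
  -- the normaliser
  have hN : Subgroup.normalizer ((D : Subgroup M) : Set M) ≤ Subgroup.centralizer ((D : Subgroup M) : Set M) := by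
    have key := Subgroup.card_dvd_of_injective _ (QuotientGroup.kerLift_injective (D : Subgroup M).normalizerMonoidHom)
    rw [Subgroup.normalizerMonoidHom_ker, ← Subgroup.index, ← Subgroup.relIndex] at key
    apply Subgroup.relIndex_eq_one.mp
    set r := (Subgroup.centralizer ((D : Subgroup M) : Set M)).relIndex (Subgroup.normalizer ((D : Subgroup M) : Set M)) with hr
    have h24 : Nat.card (MulAut ↥(D : Subgroup M)) ∣ 24 := by
      have h5 := Subgroup.card_dvd_of_injective (MulAut.toPerm (M := ↥(D : Subgroup M))) (fun a b h => by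
        ext x
        have := congrFun (congrArg DFunLike.coe h) x
        exact congrArg Subtype.val this)
      rw [Nat.card_perm, hD4] at h5
      exact h5
    have hr24 : r ∣ 24 := key.trans h24
    have hrI : r ∣ (D : Subgroup M).index :=
      (Subgroup.relIndex_dvd_of_le_left _ hle).trans (Subgroup.relIndex_dvd_index_of_le D.le_normalizer)
    have hr2 : ¬ 2 ∣ r := fun h => D.not_dvd_index (h.trans hrI)
    have hr3 : ¬ 3 ∣ r := fun h => h3 ((h.trans hrI).trans (Subgroup.index_dvd_card _))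
    have hrle : r ≤ 24 := Nat.le_of_dvd (by norm_num) hr24
    clear_value r
    interval_cases r <;> first | rfl | omega
  -- the complement
  set O := (MonoidHom.transferSylow D hN).ker with hO
  have hcomp := MonoidHom.ker_transferSylow_isComplement' D hN
  have hcard : Nat.card ↥O * 4 = Nat.card M := by
    rw [← hD4]
    exact hcomp.card_mul_card
  have hO2 : ¬ 2 ∣ Nat.card ↥O := by
    rintro ⟨c, hc⟩
    apply h8
    exact ⟨c, by rw [← hcard, hc]; ring⟩
  have hO3 : ¬ 3 ∣ Nat.card ↥O := by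
    intro h
    apply h3
    rw [← hcard]
    exact h.trans (dvd_mul_right _ _)
  obtain ⟨t₁, ht₁D, ht₁⟩ : ∃ t ∈ (D : Subgroup M), t ≠ 1 := by
    by_contra h
    push Not at h
    have : (D : Subgroup M) = ⊥ := (Subgroup.eq_bot_iff_forall _).mpr h
    rw [this] at hD4
    simp at hD4
  obtain ⟨t₂, ht₂D, ht₂, ht₂₁⟩ : ∃ t ∈ (D : Subgroup M), t ≠ 1 ∧ t ≠ t₁ := by
    by_contra h
    push Not at h
    have hsub : ((D : Subgroup M) : Set M) ⊆ {1, t₁} := by
      intro z hz
      by_cases hz1 : z = 1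
      · left
        exact hz1
      · right
        exact h z hz hz1
    have h5 := Set.ncard_le_ncard hsub (Set.toFinite _)
    have h6 : ({1, t₁} : Set M).ncard ≤ 2 := by
      have h9 := Set.ncard_insert_le (1 : M) ({t₁} : Set M)
      rw [Set.ncard_singleton] at h9
      exact h9
    have h7 : ((D : Subgroup M) : Set M).ncard = 4 := by
      rw [← Nat.card_coe_set_eq]
      exact hD4
    omega
  have hOw : Nat.card ↥O ∣ w := by
    rw [Nat.dvd_iff_prime_pow_dvd_dvd]
    intro r k hr hk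
    rcases Nat.eq_zero_or_pos k with rfl | hkpos
    · simp
    have hrO : r ∣ Nat.card ↥O := (dvd_pow_self r hkpos.ne').trans hk
    have hr2 : r ≠ 2 := by
      rintro rfl
      exact hO2 hrO
    have hr3 : r ≠ 3 := by
      rintro rfl
      exact hO3 hrO
    have hr5 : 3 < r := by
      have := hr.two_le
      omega
    haveI : Fact r.Prime := ⟨hr⟩
    let φ : ↥(D : Subgroup M) →* MulAut ↥O := (MulAut.conjNormal).comp (D : Subgroup M).subtype
    letI : MulDistribMulAction ↥(D : Subgroup M) ↥O := MulDistribMulAction.compHom ↥O φ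
    have hsmul : ∀ (t : ↥(D : Subgroup M)) (z : ↥O), ((t • z : ↥O) : M) = t.1 * z.1 * t.1⁻¹ := fun t z => by
      show ((φ t z : ↥O) : M) = _
      exact MulAut.conjNormal_apply t.1 z
    have hnot : ¬ 2 ∣ Nat.card (Sylow r ↥O) := by
      intro h
      let R₁ : Sylow r ↥O := default
      exact hO2 (((h.trans R₁.card_dvd_index).trans (Subgroup.index_dvd_card _)))
    obtain ⟨R₀, hR₀⟩ := D.2.nonempty_fixed_point_of_prime_not_dvd_card (Sylow r ↥O) hnot
    let R : Subgroup M := (R₀ : Subgroup ↥O).map O.subtype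
    have hRcard : Nat.card ↥R = Nat.card ↥(R₀ : Subgroup ↥O) := Subgroup.card_map_of_injective O.subtype_injective
    have hRp : IsPGroup r ↥R := R₀.2.map _
    haveI := hcyc r hr hr5 R hRp
    obtain ⟨⟨y, hyR⟩, hgen⟩ := IsCyclic.exists_generator (α := ↥R)
    have hgen' : ∀ z ∈ R, z ∈ Subgroup.zpowers y := by
      intro z hz
      obtain ⟨j, hj⟩ := Subgroup.mem_zpowers_iff.mp (hgen ⟨z, hz⟩)
      exact Subgroup.mem_zpowers_iff.mpr ⟨j, by simpa using congrArg Subtype.val hj⟩
    obtain ⟨e, hey⟩ : ∃ e, orderOf y = r ^ e := by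
      obtain ⟨j, hj⟩ := hRp ⟨y, hyR⟩
      have h5 : y ^ (r ^ j) = 1 := by simpa using congrArg Subtype.val hj
      obtain ⟨e, -, he⟩ := (Nat.dvd_prime_pow hr).mp (orderOf_dvd_of_pow_eq_one h5)
      exact ⟨e, he⟩
    have hinv : ∀ t ∈ (D : Subgroup M), t * y * t⁻¹ ∈ Subgroup.zpowers y := by
      intro t ht
      apply hgen'
      obtain ⟨y₀, hy₀, rfl⟩ := Subgroup.mem_map.mp hyR
      have h5 : (⟨t, ht⟩ : ↥(D : Subgroup M)) • y₀ ∈ (R₀ : Subgroup ↥O) := by
        have h6 := hR₀ ⟨t, ht⟩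
        have h7 : ((⟨t, ht⟩ : ↥(D : Subgroup M)) • R₀ : Sylow r ↥O) = R₀ := h6
        have h8 := Subgroup.smul_mem_pointwise_smul y₀ (⟨t, ht⟩ : ↥(D : Subgroup M)) (R₀ : Subgroup ↥O) hy₀
        rw [← Sylow.pointwise_smul_def, h7] at h8
        exact h8
      refine Subgroup.mem_map.mpr ⟨_, h5, ?_⟩
      show (((⟨t, ht⟩ : ↥(D : Subgroup M)) • y₀ : ↥O) : M) = _
      rw [hsmul]
      rfl
    obtain ⟨t, htD, ht1, hty⟩ : ∃ t ∈ (D : Subgroup M), t ≠ 1 ∧ t * y * t⁻¹ = y := by
      have i1 := inv_or_comm hr hr2 hey (hDsq t₁ ht₁D) (hinv t₁ ht₁D)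
      have i2 := inv_or_comm hr hr2 hey (hDsq t₂ ht₂D) (hinv t₂ ht₂D)
      rcases i1 with i1 | i1
      · exact ⟨t₁, ht₁D, ht₁, i1⟩
      rcases i2 with i2 | i2
      · exact ⟨t₂, ht₂D, ht₂, i2⟩
      refine ⟨t₁ * t₂, Subgroup.mul_mem _ ht₁D ht₂D, ?_, ?_⟩
      · intro h
        apply ht₂₁
        have h5 : t₁⁻¹ = t₁ := inv_eq_of_mul_eq_one_right (hDsq t₁ ht₁D)
        have := eq_inv_of_mul_eq_one_right h
        rw [this, h5]
      · have : t₁ * t₂ * y * (t₁ * t₂)⁻¹ = t₁ * (t₂ * y * t₂⁻¹) * t₁⁻¹ := by group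
        rw [this, i2]
        have h5 : t₁ * y⁻¹ * t₁⁻¹ = (t₁ * y * t₁⁻¹)⁻¹ := by group
        rw [h5, i1, inv_inv]
    have hRle : R ≤ Subgroup.centralizer {t} := by
      intro z hz
      obtain ⟨j, rfl⟩ := Subgroup.mem_zpowers_iff.mp (hgen' z hz)
      rw [Subgroup.mem_centralizer_singleton_iff]
      have : y * t = t * y := by
        have e1 : t * y = (t * y * t⁻¹) * t := by group
        rw [e1, hty]
      have hc : Commute y t := this
      exact (hc.zpow_left j)
    have h5 := Subgroup.card_dvd_of_le hRle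
    rw [(hC t ht1 (hDsq t htD)).1, hRcard, hn] at h5
    obtain ⟨a, ha⟩ := IsPGroup.iff_card.mp R₀.2
    have hcop : Nat.Coprime (Nat.card ↥(R₀ : Subgroup ↥O)) 4 := by
      rw [ha]
      apply Nat.Coprime.pow_left
      have : Nat.Coprime r (2 ^ 2) := by
        apply Nat.Coprime.pow_right
        exact (Nat.coprime_primes hr Nat.prime_two).mpr hr2
      simpa using this
    have h6 := hcop.dvd_of_dvd_mul_left h5
    exact (R₀.pow_dvd_card_of_pow_dvd_card hk).trans h6
  have hwpos : 0 < w := hw.pos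
  have hOle : Nat.card ↥O ≤ w := Nat.le_of_dvd hwpos hOw
  have hMle : Nat.card M ≤ n := by
    rw [← hcard, hn]
    omega
  obtain ⟨hc1, hc2⟩ := hC t₁ ht₁ (hDsq t₁ ht₁D)
  have hge := Subgroup.card_le_card_group (Subgroup.centralizer {t₁})
  have hMn : Nat.card M = n := by omega
  refine ⟨hMn, ?_⟩
  have htop : Subgroup.centralizer {t₁} = ⊤ := Subgroup.eq_top_of_card_eq _ (by rw [hc1, hMn])
  intro a b
  exact hc2 a (by rw [htop]; trivial) b (by rw [htop]; trivial)

end Cfsg.Agent.Lib.Ree
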