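import Cfsg.Agent.Lib.Ree.Ns
import Cfsg.Agent.Lib.Ree.CentAbs

/-! Centralisers of elements of prime order dividing `q - 1` or `q + 1` in the small Ree groups. -/

set_option autoImplicit false
set_option linter.unusedSimpArgs false
set_option linter.unusedVariables false
set_option linter.unusedSectionVars false

namespace Cfsg.Agent.Lib.Ree

open Matrix Cfsg.Agent.Lib.Chev
open scoped Pointwise

namespace RD

namespace RL

variable {K : Type*} [Field K] [CharP K 3] {f : K ≃+* K} {G : Type*} [Group G] {R : RD K f G} (L : RL R)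

omit [CharP K 3] in
theorem pow_mulVec (g : SpecialLinearGroup (Fin 2) K) (lam : K) (v : Fin 2 → K) (h : g.1 *ᵥ v = lam • v) (k : ℕ) :
    (g ^ k).1 *ᵥ v = lam ^ k • v := by
  induction k with
  | zero => simp
  | succ k ih =>
    rw [pow_succ, Matrix.SpecialLinearGroup.coe_mul, ← Matrix.mulVec_mulVec, h, Matrix.mulVec_smul, ih, smul_smul, pow_succ']

/-- An element of odd prime order dividing `q + 1` has no eigenvalue. -/
theorem no_eig [Fintype K] {g : SpecialLinearGroup (Fin 2) K} {l : ℕ} (hl : l.Prime) (hl2 : l ≠ 2) (hl3 : l ≠ 3)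
    (hd : l ∣ Fintype.card K + 1) (hg : g ^ l = 1) (hg1 : g ≠ 1) (hq : 2 ≤ Fintype.card K) :
    ∀ u : K, u ^ 2 + (g.1 0 0 + g.1 1 1) * u + 1 ≠ 0 := by
  intro u hu
  have hdg := g.2
  rw [Matrix.det_fin_two] at hdg
  have hdet : (g.1 - (-u) • (1 : Matrix (Fin 2) (Fin 2) K)).det = 0 := by
    rw [Matrix.det_fin_two]
    simp
    linear_combination hdg + hu
  obtain ⟨v, hv0, hv⟩ := Matrix.exists_mulVec_eq_zero_iff.mpr hdet
  have hv1 : g.1 *ᵥ v = (-u) • v := by
    rw [Matrix.sub_mulVec, sub_eq_zero] at hv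
    rw [hv, Matrix.smul_mulVec, Matrix.one_mulVec]
  have h1 := pow_mulVec g (-u) v hv1 l
  rw [hg] at h1
  simp only [Matrix.SpecialLinearGroup.coe_one, Matrix.one_mulVec] at h1
  have h2 : (-u) ^ l = 1 := by
    have h3 : ((-u) ^ l - 1) • v = 0 := by
      rw [sub_smul, ← h1]
      simp
    rcases smul_eq_zero.mp h3 with h4 | h4
    · exact sub_eq_zero.mp h4
    · exact absurd h4 hv0
  have hu0 : -u ≠ 0 := by
    intro h
    rw [h, zero_pow hl.ne_zero] at h2
    exact zero_ne_one h2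
  have h3 := FiniteField.pow_card_sub_one_eq_one (-u) hu0
  have hcop : Nat.Coprime l (Fintype.card K - 1) := by
    rw [Nat.Prime.coprime_iff_not_dvd hl]
    intro h
    have h5 : l ∣ (Fintype.card K + 1) - (Fintype.card K - 1) := Nat.dvd_sub hd h
    have e : (Fintype.card K + 1) - (Fintype.card K - 1) = 2 := by omega
    rw [e] at h5
    exact hl2 ((Nat.prime_dvd_prime_iff_eq hl Nat.prime_two).mp h5)
  have h4 := pow_gcd_eq_one.mpr ⟨h2, h3⟩
  rw [hcop.gcd_eq_one, pow_one] at h4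
  have hu1 : u = -1 := by linear_combination -h4
  subst hu1
  have ht : g.1 0 0 + g.1 1 1 = 2 := by linear_combination -hu
  have h30 : (3 : K) = 0 := by
    have := CharP.cast_eq_zero K 3
    exact_mod_cast this
  have hch : g.1 * g.1 = (2 : K) • g.1 - 1 := by
    ext i j
    fin_cases i <;> fin_cases j <;> simp [Matrix.mul_apply, Fin.sum_univ_two, Matrix.sub_apply, Matrix.one_apply]
    · linear_combination -hdg + g.1 0 0 * ht
    · linear_combination g.1 0 1 * ht
    · linear_combination g.1 1 0 * ht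
    · linear_combination -hdg + g.1 1 1 * ht
  have hg3 : g ^ 3 = 1 := by
    apply Subtype.ext
    rw [Matrix.SpecialLinearGroup.coe_pow, pow_succ, pow_two, hch, sub_mul, smul_mul_assoc, hch, one_mul]
    ext i j
    fin_cases i <;> fin_cases j <;> simp [Matrix.sub_apply, Matrix.one_apply]
    · linear_combination (g.1 0 0 - 1) * h30
    · linear_combination g.1 0 1 * h30
    · linear_combination g.1 1 0 * h30
    · linear_combination (g.1 1 1 - 1) * h30
  have hcop3 : Nat.Coprime 3 l := (Nat.coprime_primes Nat.prime_three hl).mpr (Ne.symm hl3)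
  have h5 := pow_gcd_eq_one.mpr ⟨hg3, hg⟩
  rw [hcop3.gcd_eq_one, pow_one] at h5
  exact hg1 h5

omit [CharP K 3] in
theorem ex_g [Fintype K] {p : ProjectiveSpecialLinearGroup (Fin 2) K} {l : ℕ} (hl : Odd l) (hp : p ^ l = 1) :
    ∃ g : SpecialLinearGroup (Fin 2) K, QuotientGroup.mk g = p ∧ g ^ l = 1 := by
  obtain ⟨g₀, rfl⟩ := QuotientGroup.mk_surjective p
  have h1 : (QuotientGroup.mk (g₀ ^ l) : ProjectiveSpecialLinearGroup (Fin 2) K) = 1 := by
    rw [QuotientGroup.mk_pow]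
    exact hp
  rw [QuotientGroup.eq_one_iff] at h1
  rcases center_cases h1 with h | h
  · exact ⟨g₀, rfl, h⟩
  · refine ⟨-g₀, mk_neg g₀, ?_⟩
    rw [neg_pow_odd g₀ hl, h]
    apply Subtype.ext
    simp [Matrix.SpecialLinearGroup.coe_neg]

theorem mp2_sq (e : Multiplicative (ZMod 2)) : e * e = 1 := by
  rcases mp2_cases e with rfl | rfl
  · simp
  · rfl

theorem mp2_odd (e : Multiplicative (ZMod 2)) {l : ℕ} (hl : Odd l) (h : e ^ l = 1) : e = 1 := by
  obtain ⟨k, rfl⟩ := hl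
  rw [pow_succ, pow_mul, pow_two, mp2_sq, one_pow, one_mul] at h
  exact h

theorem card_mp2 : Nat.card (Multiplicative (ZMod 2)) = 2 := by
  rw [Nat.card_congr Multiplicative.toAdd, Nat.card_zmod]

include L in
/-- The centraliser of `x` and `a`. -/
theorem cc_a [Fintype K] (hsq : ∀ u : Kˣ, (∃ v, u = v * v) ∨ (∃ v, u = -1 * (v * v))) (hq : 2 ≤ Fintype.card K)
    {x : G} {l : ℕ} (hl : l.Prime) (hl2 : l ≠ 2) (hl3 : l ≠ 3) (hd : l ∣ Fintype.card K + 1)
    (hx : orderOf x = l) (hc : x * R.h (-1) = R.h (-1) * x) :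
    Nat.card ↥(Subgroup.centralizer {x} ⊓ Subgroup.centralizer {R.h (-1)}) = Fintype.card K + 1 ∧
      ∀ u ∈ Subgroup.centralizer {x} ⊓ Subgroup.centralizer {R.h (-1)},
      ∀ v ∈ Subgroup.centralizer {x} ⊓ Subgroup.centralizer {R.h (-1)}, u * v = v * u := by
  have hodd : Odd l := hl.odd_of_ne_two hl2
  obtain ⟨⟨e, p⟩, hep⟩ := L.Phi_surj hsq hc
  have hpow : ((e, p) : Multiplicative (ZMod 2) × ProjectiveSpecialLinearGroup (Fin 2) K) ^ l = 1 := by
    apply L.Phi_inj
    rw [map_pow, hep, ← hx, pow_orderOf_eq_one, map_one]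
  have he : e = 1 := mp2_odd e hodd (congrArg Prod.fst hpow)
  subst he
  have hp : p ^ l = 1 := congrArg Prod.snd hpow
  have hp1 : p ≠ 1 := by
    rintro rfl
    have : x = 1 := by
      rw [← hep]
      exact map_one _
    rw [this, orderOf_one] at hx
    exact hl.one_lt.ne hx
  obtain ⟨g, rfl, hgl⟩ := ex_g hodd hp
  have hg1 : g ≠ 1 := by
    rintro rfl
    exact hp1 rfl
  have hno := no_eig hl hl2 hl3 hd hgl hg1 hq
  obtain ⟨hcard, hcomm⟩ := cent_PSL (two_ne (K := K)) g hno hodd hgl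
  set p : ProjectiveSpecialLinearGroup (Fin 2) K := QuotientGroup.mk g with hpdef
  have hmem : ∀ (e' : Multiplicative (ZMod 2)) (r : ↥(Subgroup.centralizer {p})),
      L.Phi (e', r.1) ∈ Subgroup.centralizer {x} ⊓ Subgroup.centralizer {R.h (-1)} := by
    intro e' r
    refine ⟨Subgroup.mem_centralizer_singleton_iff.mpr ?_, Subgroup.mem_centralizer_singleton_iff.mpr (L.Phi_comm _)⟩
    rw [← hep, ← map_mul, ← map_mul]
    congr 1
    exact Prod.ext (by simp) (Subgroup.mem_centralizer_singleton_iff.mp r.2)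
  let Ψ : Multiplicative (ZMod 2) × ↥(Subgroup.centralizer {p}) → ↥(Subgroup.centralizer {x} ⊓ Subgroup.centralizer {R.h (-1)}) :=
    fun y => ⟨L.Phi (y.1, y.2.1), hmem y.1 y.2⟩
  have hform : ∀ z ∈ Subgroup.centralizer {x} ⊓ Subgroup.centralizer {R.h (-1)},
      ∃ (e' : Multiplicative (ZMod 2)) (r : ↥(Subgroup.centralizer {p})), L.Phi (e', r.1) = z := by
    rintro z ⟨hz1, hz2⟩
    obtain ⟨⟨e', r⟩, rfl⟩ := L.Phi_surj hsq (Subgroup.mem_centralizer_singleton_iff.mp hz2)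
    have h1 := Subgroup.mem_centralizer_singleton_iff.mp hz1
    rw [← hep, ← map_mul, ← map_mul] at h1
    have h2 := L.Phi_inj h1
    exact ⟨e', ⟨r, Subgroup.mem_centralizer_singleton_iff.mpr (congrArg Prod.snd h2)⟩, rfl⟩
  have hΨ : Function.Bijective Ψ := by
    constructor
    · rintro ⟨e₁, r₁⟩ ⟨e₂, r₂⟩ h
      have h1 : ((e₁, r₁.1) : Multiplicative (ZMod 2) × ProjectiveSpecialLinearGroup (Fin 2) K) = (e₂, r₂.1) := L.Phi_inj (congrArg Subtype.val h)
      have e1 : e₁ = e₂ := congrArg Prod.fst h1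
      have e2 : r₁.1 = r₂.1 := congrArg Prod.snd h1
      exact Prod.ext e1 (Subtype.ext e2)
    · rintro ⟨z, hz⟩
      obtain ⟨e', r, rfl⟩ := hform z hz
      exact ⟨(e', r), rfl⟩
  constructor
  · rw [← Nat.card_congr (Equiv.ofBijective Ψ hΨ), Nat.card_prod, card_mp2]
    exact hcard
  · intro u hu v hv
    obtain ⟨e₁, r₁, rfl⟩ := hform u hu
    obtain ⟨e₂, r₂, rfl⟩ := hform v hv
    rw [← map_mul, ← map_mul]
    congr 1
    exact Prod.ext (mul_comm _ _) (hcomm _ r₁.2 _ r₂.2)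

omit [CharP K 3] in
theorem conj_comm {H : Type*} [Group H] (c : H) {z x : H} (h : z * x = x * z) : (c * z * c⁻¹) * (c * x * c⁻¹) = (c * x * c⁻¹) * (c * z * c⁻¹) := by
  have e1 : (c * z * c⁻¹) * (c * x * c⁻¹) = c * (z * x) * c⁻¹ := by group
  have e2 : (c * x * c⁻¹) * (c * z * c⁻¹) = c * (x * z) * c⁻¹ := by group
  rw [e1, e2, h]

omit [CharP K 3] in
theorem conj_comm' {H : Type*} [Group H] (c : H) {z x : H} (h : (c * z * c⁻¹) * (c * x * c⁻¹) = (c * x * c⁻¹) * (c * z * c⁻¹)) : z * x = x * z := by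
  have e1 : (c * z * c⁻¹) * (c * x * c⁻¹) = c * (z * x) * c⁻¹ := by group
  have e2 : (c * x * c⁻¹) * (c * z * c⁻¹) = c * (x * z) * c⁻¹ := by group
  rw [e1, e2] at h
  exact mul_left_cancel (mul_right_cancel h)

omit [CharP K 3] in
theorem card_cc_conj {H : Type*} [Group H] (c x t : H) :
    Nat.card ↥(Subgroup.centralizer {c * x * c⁻¹} ⊓ Subgroup.centralizer {c * t * c⁻¹}) =
      Nat.card ↥(Subgroup.centralizer {x} ⊓ Subgroup.centralizer {t}) := by
  symm
  apply Nat.card_congr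
  refine ⟨fun z => ⟨c * z.1 * c⁻¹, Subgroup.mem_centralizer_singleton_iff.mpr (conj_comm c (Subgroup.mem_centralizer_singleton_iff.mp z.2.1)),
      Subgroup.mem_centralizer_singleton_iff.mpr (conj_comm c (Subgroup.mem_centralizer_singleton_iff.mp z.2.2))⟩,
    fun z => ⟨c⁻¹ * z.1 * c, Subgroup.mem_centralizer_singleton_iff.mpr (conj_comm' c (by
        have e : c * (c⁻¹ * z.1 * c) * c⁻¹ = z.1 := by group
        rw [e]
        exact Subgroup.mem_centralizer_singleton_iff.mp z.2.1)),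
      Subgroup.mem_centralizer_singleton_iff.mpr (conj_comm' c (by
        have e : c * (c⁻¹ * z.1 * c) * c⁻¹ = z.1 := by group
        rw [e]
        exact Subgroup.mem_centralizer_singleton_iff.mp z.2.2))⟩, ?_, ?_⟩
  · intro z
    apply Subtype.ext
    show c⁻¹ * (c * z.1 * c⁻¹) * c = z.1
    group
  · intro z
    apply Subtype.ext
    show c * (c⁻¹ * z.1 * c) * c⁻¹ = z.1
    group

include L in
/-- The centraliser of `x` and an involution. -/
theorem cc_t [Fintype K] (hsq : ∀ u : Kˣ, (∃ v, u = v * v) ∨ (∃ v, u = -1 * (v * v))) (hq : 2 ≤ Fintype.card K)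
    {x t : G} {l : ℕ} (hl : l.Prime) (hl2 : l ≠ 2) (hl3 : l ≠ 3) (hd : l ∣ Fintype.card K + 1)
    (hx : orderOf x = l) (ht : IsConj t (R.h (-1))) (hc : x * t = t * x) :
    Nat.card ↥(Subgroup.centralizer {x} ⊓ Subgroup.centralizer {t}) = Fintype.card K + 1 ∧
      ∀ u ∈ Subgroup.centralizer {x} ⊓ Subgroup.centralizer {t},
      ∀ v ∈ Subgroup.centralizer {x} ⊓ Subgroup.centralizer {t}, u * v = v * u := by
  obtain ⟨c, hc'⟩ := isConj_iff.mp ht
  have hx' : orderOf (c * x * c⁻¹) = l := by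
    rw [← hx]
    exact (MulAut.conj c).orderOf_eq x
  have hc2 : (c * x * c⁻¹) * R.h (-1) = R.h (-1) * (c * x * c⁻¹) := by
    rw [← hc']
    exact conj_comm c hc
  obtain ⟨h1, h2⟩ := L.cc_a hsq hq hl hl2 hl3 hd hx' hc2
  constructor
  · rw [← h1, ← hc', card_cc_conj]
  · rw [← hc'] at h2
    intro u hu v hv
    have h3 : ∀ z ∈ Subgroup.centralizer {x} ⊓ Subgroup.centralizer {t},
        c * z * c⁻¹ ∈ Subgroup.centralizer {c * x * c⁻¹} ⊓ Subgroup.centralizer {c * t * c⁻¹} := fun z hz =>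
      ⟨Subgroup.mem_centralizer_singleton_iff.mpr (conj_comm c (Subgroup.mem_centralizer_singleton_iff.mp hz.1)),
      Subgroup.mem_centralizer_singleton_iff.mpr (conj_comm c (Subgroup.mem_centralizer_singleton_iff.mp hz.2))⟩
    exact conj_comm' c (h2 _ (h3 u hu) _ (h3 v hv))

include L in
/-- Every `2`-element is an involution (or trivial). -/
theorem two_elt_sq [Finite G] (h : Nat.card G % 16 = 8) {z : G} {k : ℕ} (hz : z ^ (2 ^ k) = 1) : z * z = 1 := by
  haveI : Fact (Nat.Prime 2) := ⟨Nat.prime_two⟩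
  have hP : IsPGroup 2 ↥(Subgroup.zpowers z) := by
    rintro ⟨w, i, rfl⟩
    refine ⟨k, Subtype.ext ?_⟩
    show (z ^ i) ^ (2 ^ k) = 1
    rw [← zpow_natCast, ← _root_.zpow_mul, mul_comm, _root_.zpow_mul, zpow_natCast, hz, _root_.one_zpow]
  obtain ⟨S, hS⟩ := hP.exists_le_sylow
  exact L.sylow_sq h S (hS (Subgroup.mem_zpowers z))

include L in
/-- All involutions are conjugate. -/
theorem inv_conj [Fintype K] [Finite G]
    (hG : Nat.card G = (1 + Fintype.card K ^ 3) * (Fintype.card K ^ 3 * (Fintype.card K - 1)))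
    (hq : 2 ≤ Fintype.card K) (h : Nat.card G % 16 = 8) {z : G} (hz : z * z = 1) (hz1 : z ≠ 1) : IsConj z (R.h (-1)) := by
  haveI : Fact (Nat.Prime 2) := ⟨Nat.prime_two⟩
  have hP : IsPGroup 2 ↥(Subgroup.zpowers z) := by
    rintro ⟨w, i, rfl⟩
    refine ⟨1, Subtype.ext ?_⟩
    show (z ^ i) ^ (2 ^ 1) = 1
    rw [← zpow_natCast, ← _root_.zpow_mul, mul_comm, _root_.zpow_mul]
    have : z ^ ((2 ^ 1 : ℕ) : ℤ) = 1 := by
      rw [zpow_natCast, pow_one, pow_two, hz]
    rw [this, _root_.one_zpow]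
  obtain ⟨S, hS⟩ := hP.exists_le_sylow
  obtain ⟨g, hg⟩ := L.sylow_conj h S
  have h1 := (hg z).mp (hS (Subgroup.mem_zpowers z))
  have h2 : g⁻¹ * z * g ≠ 1 := by
    intro h3
    apply hz1
    have : z = g * (g⁻¹ * z * g) * g⁻¹ := by group
    rw [this, h3]
    group
  have h3 := L.E_conj hG hq h1 h2
  refine IsConj.trans ?_ h3
  rw [isConj_iff]
  exact ⟨g⁻¹, by group⟩

variable (R) in
/-- An element of `U` determines the coset it fixes. -/
theorem U_fix_unique {u : G} (hu : u ∈ R.U) (hu1 : u ≠ 1) {d : G} (hd : d⁻¹ * u * d ∈ R.B) : d ∈ R.B := by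
  by_contra hdB
  obtain ⟨a, b, c, k, hk, rfl⟩ := R.not_B_form hdB
  set T := R.t a b c with hT
  have h1 : T⁻¹ * u * T ∈ R.U := Subgroup.mul_mem _ (Subgroup.mul_mem _ (Subgroup.inv_mem _ (R.t_mem _ _ _)) hu) (R.t_mem _ _ _)
  have h2 : R.n⁻¹ * (T⁻¹ * u * T) * R.n ∈ R.B := by
    have e : R.n⁻¹ * (T⁻¹ * u * T) * R.n = k * ((T * R.n * k)⁻¹ * u * (T * R.n * k)) * k⁻¹ := by group
    rw [e]
    exact Subgroup.mul_mem _ (Subgroup.mul_mem _ hk hd) (Subgroup.inv_mem _ hk)
  have h3 : (T⁻¹ * u * T) * R.n = R.n * (R.n⁻¹ * (T⁻¹ * u * T) * R.n) := by group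
  have h4 := R.U_inf_n h1 h2 h3
  apply hu1
  have : u = T * (T⁻¹ * u * T) * T⁻¹ := by group
  rw [this, h4]
  group

/-- The characteristic divides the order of the field. -/
theorem three_dvd_card [Fintype K] : 3 ∣ Fintype.card K := by
  haveI : Fact (Nat.Prime 3) := ⟨Nat.prime_three⟩
  obtain ⟨n, -, hn⟩ := FiniteField.card K 3
  rw [hn]
  exact dvd_pow_self 3 n.ne_zero

variable (R) in
/-- An element of order three in `B` lies in `U`. -/
theorem mem_U_of_cube [Fintype K] {v : G} (hv : v ∈ R.B) (h3 : v ^ 3 = 1) (hq : 2 ≤ Fintype.card K) : v ∈ R.U := by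
  have h1 : R.projH ⟨v, hv⟩ ^ 3 = 1 := by
    rw [← map_pow]
    have : (⟨v, hv⟩ : ↥R.B) ^ 3 = 1 := Subtype.ext (by simpa using h3)
    rw [this, map_one]
  have h2 : R.projH ⟨v, hv⟩ ^ (Fintype.card K - 1) = 1 := by
    apply Units.ext
    rw [Units.val_pow_eq_pow_val, Units.val_one]
    exact FiniteField.pow_card_sub_one_eq_one _ (Units.ne_zero _)
  have hcop : Nat.Coprime 3 (Fintype.card K - 1) := by
    rw [Nat.Prime.coprime_iff_not_dvd Nat.prime_three]
    intro h
    have h4 := three_dvd_card (K := K)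
    have h5 : 3 ∣ Fintype.card K - (Fintype.card K - 1) := Nat.dvd_sub h4 h
    have e : Fintype.card K - (Fintype.card K - 1) = 1 := by omega
    rw [e] at h5
    omega
  have h4 := pow_gcd_eq_one.mpr ⟨h1, h2⟩
  rw [hcop.gcd_eq_one, pow_one] at h4
  exact R.ker_projH h4

variable (R) in
include R in
/-- An element of prime order dividing `q + 1` commutes with no element of order three. -/
theorem no3 [Fintype K] [Finite G]
    (hG : Nat.card G = (1 + Fintype.card K ^ 3) * (Fintype.card K ^ 3 * (Fintype.card K - 1)))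
    (hq : 2 ≤ Fintype.card K) {x u : G} {l : ℕ} (hl : l.Prime) (hl2 : l ≠ 2) (hl3 : l ≠ 3) (hd : l ∣ Fintype.card K + 1)
    (hx : orderOf x = l) (hu : orderOf u = 3) (hc : x * u = u * x) : False := by
  haveI : Fact (Nat.Prime 3) := ⟨Nat.prime_three⟩
  have hu3 : u ^ 3 = 1 := by rw [← hu]; exact pow_orderOf_eq_one u
  have hP : IsPGroup 3 ↥(Subgroup.zpowers u) := by
    rintro ⟨w, i, rfl⟩
    refine ⟨1, Subtype.ext ?_⟩
    show (u ^ i) ^ (3 ^ 1) = 1
    rw [← zpow_natCast, ← _root_.zpow_mul, mul_comm, _root_.zpow_mul]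
    have : u ^ ((3 ^ 1 : ℕ) : ℤ) = 1 := by
      rw [zpow_natCast, pow_one, hu3]
    rw [this, _root_.one_zpow]
  have hidx := R.index_B hG hq
  have hnd : ¬ 3 ∣ Nat.card (G ⧸ R.B) := by
    rw [hidx]
    intro h
    have h4 := three_dvd_card (K := K)
    have h5 : 3 ∣ Fintype.card K ^ 3 := h4.trans (dvd_pow_self _ (by norm_num))
    have h6 := (Nat.dvd_add_right h5).mp (by rwa [add_comm] at h)
    omega
  obtain ⟨y, hy⟩ := hP.nonempty_fixed_point_of_prime_not_dvd_card (G ⧸ R.B) hnd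
  obtain ⟨d, rfl⟩ := QuotientGroup.mk_surjective y
  have hv : d⁻¹ * u * d ∈ R.B := by
    rw [← R.mem_stab]
    exact hy ⟨u, Subgroup.mem_zpowers u⟩
  have hv3 : (d⁻¹ * u * d) ^ 3 = 1 := by
    have := conj_pow (a := d⁻¹) (b := u) (i := 3)
    simp only [inv_inv] at this
    rw [this, hu3]
    group
  have hvU := mem_U_of_cube R hv hv3 hq
  have hv1 : d⁻¹ * u * d ≠ 1 := by
    intro h
    have : u = 1 := by
      have e : u = d * (d⁻¹ * u * d) * d⁻¹ := by group
      rw [e, h]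
      group
    rw [this, orderOf_one] at hu
    omega
  have h1 : (d⁻¹ * x * d)⁻¹ * (d⁻¹ * u * d) * (d⁻¹ * x * d) ∈ R.B := by
    have e : (d⁻¹ * x * d)⁻¹ * (d⁻¹ * u * d) * (d⁻¹ * x * d) = d⁻¹ * (x⁻¹ * (u * x)) * d := by group
    rw [e, ← hc]
    have e2 : x⁻¹ * (x * u) = u := by group
    rw [e2]
    exact hv
  have h2 := U_fix_unique R hvU hv1 h1
  have h3 : orderOf (d⁻¹ * x * d) = l := by
    rw [← hx]
    have := (MulAut.conj d⁻¹).orderOf_eq x
    simpa using this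
  have h4 : l ∣ Nat.card ↥R.B := by
    have h5 := orderOf_dvd_natCard (⟨_, h2⟩ : ↥R.B)
    rwa [Subgroup.orderOf_mk, h3] at h5
  rw [R.card_B] at h4
  have hnq : ¬ l ∣ Fintype.card K := by
    intro h
    have h5 := (Nat.dvd_add_right h).mp hd
    exact hl.one_lt.ne' (Nat.dvd_one.mp h5)
  rcases (Nat.Prime.dvd_mul hl).mp h4 with h5 | h5
  · exact hnq (hl.dvd_of_dvd_pow h5)
  · have h6 : l ∣ (Fintype.card K + 1) - (Fintype.card K - 1) := Nat.dvd_sub hd h5
    have e : (Fintype.card K + 1) - (Fintype.card K - 1) = 2 := by omega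
    rw [e] at h6
    exact hl2 ((Nat.prime_dvd_prime_iff_eq hl Nat.prime_two).mp h6)

include L in
/-- An element of prime order dividing `q + 1` commutes with an involution. -/
theorem fix_Cl [Fintype K] [Finite G]
    (hG : Nat.card G = (1 + Fintype.card K ^ 3) * (Fintype.card K ^ 3 * (Fintype.card K - 1)))
    (hq : 2 ≤ Fintype.card K) {p : ℕ} [Fact p.Prime] (hp3 : p ≠ 3) (hz : ((Fintype.card K : ℕ) : ZMod p) = -1)
    (P : Subgroup G) (hP : IsPGroup p P) : ∃ t, IsConj t (R.h (-1)) ∧ ∀ y ∈ P, y * t = t * y := by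
  have hpp : p.Prime := Fact.out
  have h3z : (3 : ZMod p) ≠ 0 := by
    intro h
    have : ((3 : ℕ) : ZMod p) = 0 := by exact_mod_cast h
    rw [ZMod.natCast_eq_zero_iff] at this
    exact hp3 ((Nat.prime_dvd_prime_iff_eq hpp Nat.prime_three).mp this)
  have hcard : ¬ p ∣ Nat.card ↥(Cl R) := by
    rw [Nat.card_coe_set_eq, R.card_Cl hG hq]
    obtain ⟨r, hr⟩ : ∃ r, Fintype.card K = r + 1 := ⟨Fintype.card K - 1, by omega⟩
    rw [hr] at hz ⊢
    rw [Nat.add_sub_cancel, ← ZMod.natCast_eq_zero_iff]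
    push_cast at hz ⊢
    rw [hz]
    have e : (r : ZMod p) = -2 := by linear_combination hz
    rw [e]
    intro h
    apply h3z
    linear_combination h
  have hconj : ∀ (x : P) (y : ↥(Cl R)), x.1 * y.1 * x.1⁻¹ ∈ Cl R := by
    intro x y
    have : IsConj (x.1 * y.1 * x.1⁻¹) (R.h (-1)) := (IsConj.symm (isConj_iff.mpr ⟨x.1, rfl⟩)).trans y.2
    exact this
  letI act : MulAction P ↥(Cl R) :=
    { smul := fun x y => ⟨x.1 * y.1 * x.1⁻¹, hconj x y⟩
      one_smul := fun y => Subtype.ext (by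
        show (1 : G) * y.1 * (1 : G)⁻¹ = y.1
        group)
      mul_smul := fun x z y => Subtype.ext (by
        show (x.1 * z.1) * y.1 * (x.1 * z.1)⁻¹ = x.1 * (z.1 * y.1 * z.1⁻¹) * x.1⁻¹
        group) }
  obtain ⟨y, hy⟩ := hP.nonempty_fixed_point_of_prime_not_dvd_card ↥(Cl R) hcard
  refine ⟨y.1, y.2, fun x hx => ?_⟩
  have h1 : x * y.1 * x⁻¹ = y.1 := congrArg Subtype.val (hy ⟨x, hx⟩)
  have e : x * y.1 = (x * y.1 * x⁻¹) * x := by group
  rw [e, h1]

include L in
/-- The centraliser of an element of prime order dividing `q + 1`. -/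
theorem cent_x [Fintype K] [Finite G]
    (hsq : ∀ u : Kˣ, (∃ v, u = v * v) ∨ (∃ v, u = -1 * (v * v)))
    (hG : Nat.card G = (1 + Fintype.card K ^ 3) * (Fintype.card K ^ 3 * (Fintype.card K - 1)))
    (hq : 2 ≤ Fintype.card K) (hmod : Nat.card G % 16 = 8)
    (hq8 : (Fintype.card K + 1) % 8 = 4)
    (hcyc : ∀ r : ℕ, r.Prime → 3 < r → ∀ P : Subgroup G, IsPGroup r P → IsCyclic P)
    {x : G} {l : ℕ} (hl : l.Prime) (hl2 : l ≠ 2) (hl3 : l ≠ 3) (hd : l ∣ Fintype.card K + 1)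
    (hx : orderOf x = l) :
    Nat.card ↥(Subgroup.centralizer {x}) = Fintype.card K + 1 ∧
      ∀ u ∈ Subgroup.centralizer {x}, ∀ v ∈ Subgroup.centralizer {x}, u * v = v * u := by
  haveI : Fact l.Prime := ⟨hl⟩
  haveI : Fact (Nat.Prime 2) := ⟨Nat.prime_two⟩
  haveI : Fact (Nat.Prime 3) := ⟨Nat.prime_three⟩
  have hodd : Odd l := hl.odd_of_ne_two hl2
  have hPx : IsPGroup l ↥(Subgroup.zpowers x) := by
    rintro ⟨w, i, rfl⟩
    refine ⟨1, Subtype.ext ?_⟩
    show (x ^ i) ^ (l ^ 1) = 1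
    rw [pow_one, ← zpow_natCast, ← _root_.zpow_mul, mul_comm, _root_.zpow_mul, zpow_natCast, ← hx, pow_orderOf_eq_one, _root_.one_zpow]
  have hz : ((Fintype.card K : ℕ) : ZMod l) = -1 := by
    have := (ZMod.natCast_eq_zero_iff _ _).mpr hd
    push_cast at this
    exact eq_neg_of_add_eq_zero_left this
  obtain ⟨t₀, ht₀, ht₀c⟩ := L.fix_Cl hG hq hl3 hz _ hPx
  have ht₀x : x * t₀ = t₀ * x := ht₀c x (Subgroup.mem_zpowers x)
  obtain ⟨hc0, -⟩ := L.cc_t hsq hq hl hl2 hl3 hd hx ht₀ ht₀x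
  have hw : ∃ w, Fintype.card K + 1 = 4 * w ∧ Odd w := by
    refine ⟨(Fintype.card K + 1) / 4, by omega, ?_⟩
    rw [Nat.odd_iff]
    omega
  obtain ⟨w, hwe, hwo⟩ := hw
  have hdvd0 : Fintype.card K + 1 ∣ Nat.card ↥(Subgroup.centralizer {x}) := by
    rw [← hc0]
    exact Subgroup.card_dvd_of_le inf_le_left
  have h4 : 4 ∣ Nat.card ↥(Subgroup.centralizer {x}) := (Dvd.intro _ hwe.symm).trans hdvd0
  have h8 : ¬ 8 ∣ Nat.card ↥(Subgroup.centralizer {x}) := by
    intro h8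
    obtain ⟨W, hW⟩ := Sylow.exists_subgroup_card_pow_prime (G := ↥(Subgroup.centralizer {x})) 2 (n := 3) (by simpa using h8)
    have hW' : Nat.card ↥(W.map (Subgroup.centralizer {x}).subtype) = 8 := by
      rw [Subgroup.card_map_of_injective (Subgroup.centralizer {x}).subtype_injective, hW]
      rfl
    have hP2 : IsPGroup 2 ↥(W.map (Subgroup.centralizer {x}).subtype) :=
      IsPGroup.iff_card.mpr ⟨3, by rw [hW']; rfl⟩
    obtain ⟨S, hS⟩ := hP2.exists_le_sylow
    have hScard := sylow_card_of_mod hmod S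
    have hEq : W.map (Subgroup.centralizer {x}).subtype = S :=
      Subgroup.eq_of_le_of_card_ge hS (by rw [hScard, hW'])
    obtain ⟨g, hg⟩ := L.sylow_conj hmod S
    have hSx : ∀ s ∈ (S : Subgroup G), s * x = x * s := by
      intro s hs
      rw [← hEq] at hs
      obtain ⟨z, -, rfl⟩ := Subgroup.mem_map.mp hs
      exact Subgroup.mem_centralizer_singleton_iff.mp z.2
    have hy : ∀ e ∈ L.E, (g⁻¹ * x * g) * e = e * (g⁻¹ * x * g) := by
      intro e he
      have h1 : g * e * g⁻¹ ∈ (S : Subgroup G) := by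
        rw [hg]
        have : g⁻¹ * (g * e * g⁻¹) * g = e := by group
        rw [this]
        exact he
      have h2 := hSx _ h1
      have := conj_comm g⁻¹ h2
      simp only [inv_inv] at this
      have e1 : g⁻¹ * (g * e * g⁻¹) * g = e := by group
      rw [e1] at this
      exact this.symm
    have h5 := L.E_sq (L.cent_E hsq hy)
    have h6 : x * x = 1 := by
      have e1 : g⁻¹ * x * g * (g⁻¹ * x * g) = g⁻¹ * (x * x) * g := by group
      rw [e1] at h5
      have e2 : x * x = g * (g⁻¹ * (x * x) * g) * g⁻¹ := by group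
      rw [e2, h5]
      group
    have h7 : x ^ 2 = 1 := by rw [pow_two, h6]
    have h9 := orderOf_dvd_of_pow_eq_one h7
    rw [hx] at h9
    exact hl2 ((Nat.prime_dvd_prime_iff_eq hl Nat.prime_two).mp h9)
  have h3 : ¬ 3 ∣ Nat.card ↥(Subgroup.centralizer {x}) := by
    intro h
    obtain ⟨u, hu⟩ := exists_prime_orderOf_dvd_card' 3 h
    have hu' : orderOf u.1 = 3 := by rw [Subgroup.orderOf_coe, hu]
    exact no3 R hG hq hl hl2 hl3 hd hx hu' (Subgroup.mem_centralizer_singleton_iff.mp u.2).symm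
  have hsqM : ∀ z : ↥(Subgroup.centralizer {x}), (∃ k : ℕ, z ^ (2 ^ k) = 1) → z * z = 1 := by
    rintro z ⟨k, hk⟩
    apply Subtype.ext
    exact L.two_elt_sq hmod (k := k) (by simpa using congrArg Subtype.val hk)
  have hCM : ∀ t : ↥(Subgroup.centralizer {x}), t ≠ 1 → t * t = 1 → Nat.card ↥(Subgroup.centralizer {t}) = Fintype.card K + 1 ∧
      ∀ u ∈ Subgroup.centralizer {t}, ∀ v ∈ Subgroup.centralizer {t}, u * v = v * u := by
    intro t ht1 ht2
    have h1 : t.1 * t.1 = 1 := congrArg Subtype.val ht2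
    have h2 : t.1 ≠ 1 := fun h => ht1 (Subtype.ext h)
    have h5 := L.inv_conj hG hq hmod h1 h2
    have h6 : x * t.1 = t.1 * x := (Subgroup.mem_centralizer_singleton_iff.mp t.2).symm
    obtain ⟨h7, h8'⟩ := L.cc_t hsq hq hl hl2 hl3 hd hx h5 h6
    constructor
    · rw [← h7]
      apply Nat.card_congr
      refine ⟨fun z => ⟨z.1.1, z.1.2, Subgroup.mem_centralizer_singleton_iff.mpr (congrArg Subtype.val (Subgroup.mem_centralizer_singleton_iff.mp z.2))⟩,
        fun z => ⟨⟨z.1, z.2.1⟩, Subgroup.mem_centralizer_singleton_iff.mpr (Subtype.ext (Subgroup.mem_centralizer_singleton_iff.mp z.2.2))⟩, ?_, ?_⟩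
      · intro z
        rfl
      · intro z
        rfl
    · intro u hu v hv
      apply Subtype.ext
      exact h8' u.1 ⟨u.2, Subgroup.mem_centralizer_singleton_iff.mpr (congrArg Subtype.val (Subgroup.mem_centralizer_singleton_iff.mp hu))⟩
        v.1 ⟨v.2, Subgroup.mem_centralizer_singleton_iff.mpr (congrArg Subtype.val (Subgroup.mem_centralizer_singleton_iff.mp hv))⟩
  have hcycM : ∀ r : ℕ, r.Prime → 3 < r → ∀ P : Subgroup ↥(Subgroup.centralizer {x}), IsPGroup r P → IsCyclic P := by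
    intro r hr hr3 P hP
    have h1 := hcyc r hr hr3 (P.map (Subgroup.centralizer {x}).subtype) (hP.map _)
    exact (MulEquiv.isCyclic (Subgroup.equivMapOfInjective P _ (Subgroup.centralizer {x}).subtype_injective)).mpr h1
  have key := abs_comm (M := ↥(Subgroup.centralizer {x})) (Fintype.card K + 1) w hwe hwo h4 h8 h3 hsqM hCM hcycM
  exact ⟨key.1, fun u hu v hv => congrArg Subtype.val (key.2 ⟨u, hu⟩ ⟨v, hv⟩)⟩

end RL

variable {K : Type*} [Field K] [CharP K 3] {f : K ≃+* K} {G : Type*} [Group G] (R : RD K f G)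

/-- An element of `B` whose conjugate by `n` lies in `B` lies in the torus. -/
theorem B_cap_nB {y : G} (hy : y ∈ R.B) (hn : R.n⁻¹ * y * R.n ∈ R.B) : ∃ s, y = R.h s := by
  obtain ⟨a, b, c, s, rfl⟩ := hy
  refine ⟨s, ?_⟩
  set b' := R.n⁻¹ * (R.t a b c * R.h s) * R.n with hb'
  have h1 : R.h s * R.n = R.n * R.h s⁻¹ := by
    have := R.n_h s
    have e : R.n * R.h s * R.n⁻¹ = R.h s⁻¹ := this
    have h2 : R.n⁻¹ = R.n := R.n_inv
    rw [h2] at e
    rw [← e]
    have := R.n_sq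
    calc R.h s * R.n = (R.n * R.n) * R.h s * R.n := by rw [this, one_mul]
      _ = R.n * (R.n * R.h s * R.n) := by group
  have h2 : R.t a b c * R.n = R.n * (b' * R.h s) := by
    rw [hb']
    have e : R.n * (R.n⁻¹ * (R.t a b c * R.h s) * R.n * R.h s) = R.t a b c * (R.h s * R.n) * R.h s := by group
    rw [e, h1]
    have e2 : R.h s⁻¹ * R.h s = 1 := by rw [← map_mul]; simp
    calc R.t a b c * R.n = R.t a b c * R.n * (R.h s⁻¹ * R.h s) := by rw [e2, mul_one]
      _ = _ := by group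
  have h3 := R.U_inf_n (R.t_mem a b c) (Subgroup.mul_mem _ hn (R.h_mem_B s)) h2
  rw [h3, one_mul]

/-- An element of odd prime order dividing `q - 1` is conjugate into the torus. -/
theorem conj_H [Fintype K] [Finite G]
    (hG : Nat.card G = (1 + Fintype.card K ^ 3) * (Fintype.card K ^ 3 * (Fintype.card K - 1)))
    (hq : 2 ≤ Fintype.card K) {x : G} {l : ℕ} (hl : l.Prime) (hl2 : l ≠ 2) (hd : l ∣ Fintype.card K - 1)
    (hx : orderOf x = l) : ∃ c s, c⁻¹ * x * c = R.h s := by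
  haveI : Fact l.Prime := ⟨hl⟩
  have hP : IsPGroup l ↥(Subgroup.zpowers x) := by
    rintro ⟨w, i, rfl⟩
    refine ⟨1, Subtype.ext ?_⟩
    show (x ^ i) ^ (l ^ 1) = 1
    rw [pow_one, ← zpow_natCast, ← _root_.zpow_mul, mul_comm, _root_.zpow_mul, zpow_natCast, ← hx, pow_orderOf_eq_one, _root_.one_zpow]
  have h1 := hP.card_modEq_card_fixedPoints (G ⧸ R.B)
  rw [R.index_B hG hq] at h1
  have h2 : 1 ≡ Fintype.card K [MOD l] := (Nat.modEq_iff_dvd' (by omega)).mpr hd
  have h3 : 1 + Fintype.card K ^ 3 ≡ 2 [MOD l] := by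
    have := (h2.symm.pow 3).add_left 1
    simpa using this
  have h4 : Nat.card (MulAction.fixedPoints ↥(Subgroup.zpowers x) (G ⧸ R.B)) ≡ 2 [MOD l] := h1.symm.trans h3
  have hfin : Finite (MulAction.fixedPoints ↥(Subgroup.zpowers x) (G ⧸ R.B)) := inferInstance
  have h5 : 1 < Nat.card (MulAction.fixedPoints ↥(Subgroup.zpowers x) (G ⧸ R.B)) := by
    by_contra hlt
    have h6 : Nat.card (MulAction.fixedPoints ↥(Subgroup.zpowers x) (G ⧸ R.B)) ≤ 1 := by omega
    interval_cases h7 : Nat.card (MulAction.fixedPoints ↥(Subgroup.zpowers x) (G ⧸ R.B))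
    · have h8 := (Nat.modEq_zero_iff_dvd.mp h4.symm)
      exact hl2 ((Nat.prime_dvd_prime_iff_eq hl Nat.prime_two).mp h8)
    · have h8 : l ∣ 2 - 1 := (Nat.modEq_iff_dvd' (by norm_num)).mp h4
      exact hl.one_lt.ne' (Nat.dvd_one.mp h8)
  obtain ⟨⟨a, ha⟩, ⟨b, hb⟩, hab⟩ := (Finite.one_lt_card_iff_nontrivial.mp h5).exists_pair_ne
  obtain ⟨d₁, rfl⟩ := QuotientGroup.mk_surjective a
  obtain ⟨d₂, rfl⟩ := QuotientGroup.mk_surjective b
  have h6 : d₁⁻¹ * x * d₁ ∈ R.B := by
    rw [← R.mem_stab]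
    exact ha ⟨x, Subgroup.mem_zpowers x⟩
  have h7 : d₂⁻¹ * x * d₂ ∈ R.B := by
    rw [← R.mem_stab]
    exact hb ⟨x, Subgroup.mem_zpowers x⟩
  have h8 : d₁⁻¹ * d₂ ∉ R.B := by
    intro h
    apply hab
    apply Subtype.ext
    exact QuotientGroup.eq.mpr h
  obtain ⟨a', b', c', k, hk, e⟩ := R.not_B_form h8
  set T := R.t a' b' c' with hT
  have h9 : T⁻¹ * (d₁⁻¹ * x * d₁) * T ∈ R.B :=
    Subgroup.mul_mem _ (Subgroup.mul_mem _ (Subgroup.inv_mem _ (R.t_mem_B _ _ _)) h6) (R.t_mem_B _ _ _)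
  have h10 : R.n⁻¹ * (T⁻¹ * (d₁⁻¹ * x * d₁) * T) * R.n ∈ R.B := by
    have e1 : d₂ = d₁ * (T * R.n * k) := by
      rw [← e]
      group
    rw [e1] at h7
    have e2 : R.n⁻¹ * (T⁻¹ * (d₁⁻¹ * x * d₁) * T) * R.n = k * ((d₁ * (T * R.n * k))⁻¹ * x * (d₁ * (T * R.n * k))) * k⁻¹ := by group
    rw [e2]
    exact Subgroup.mul_mem _ (Subgroup.mul_mem _ hk h7) (Subgroup.inv_mem _ hk)
  obtain ⟨s, hs⟩ := R.B_cap_nB h9 h10
  refine ⟨d₁ * T, s, ?_⟩
  rw [← hs]
  group

include R in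
/-- The centraliser of an element of odd prime order dividing `q - 1`. -/
theorem cent_sp [Fintype K] [Finite G]
    (hG : Nat.card G = (1 + Fintype.card K ^ 3) * (Fintype.card K ^ 3 * (Fintype.card K - 1)))
    (hq : 2 ≤ Fintype.card K) {x : G} {l : ℕ} (hl : l.Prime) (hl2 : l ≠ 2) (hd : l ∣ Fintype.card K - 1)
    (hx : orderOf x = l) :
    Nat.card ↥(Subgroup.centralizer {x}) = Fintype.card K - 1 ∧ IsCyclic ↥(Subgroup.centralizer {x}) ∧
      ∀ u ∈ Subgroup.centralizer {x}, ∀ v ∈ Subgroup.centralizer {x}, u * v = v * u := by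
  obtain ⟨c, s, hs⟩ := R.conj_H hG hq hl hl2 hd hx
  have hs2 : (s : K) ^ 2 ≠ 1 := by
    intro h
    have h1 : s * s = 1 := Units.ext (by rw [Units.val_mul, Units.val_one, ← pow_two, h])
    have h2 : R.h s * R.h s = 1 := by rw [← map_mul, h1, map_one]
    rw [← hs] at h2
    have e1 : c⁻¹ * x * c * (c⁻¹ * x * c) = c⁻¹ * (x * x) * c := by group
    rw [e1] at h2
    have h3 : x * x = 1 := by
      have e2 : x * x = c * (c⁻¹ * (x * x) * c) * c⁻¹ := by group
      rw [e2, h2]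
      group
    have h7 : x ^ 2 = 1 := by rw [pow_two, h3]
    have h9 := orderOf_dvd_of_pow_eq_one h7
    rw [hx] at h9
    exact hl2 ((Nat.prime_dvd_prime_iff_eq hl Nat.prime_two).mp h9)
  have hxe : x = c * R.h s * c⁻¹ := by
    rw [← hs]
    group
  have hmem : ∀ s' : Kˣ, c * R.h s' * c⁻¹ ∈ Subgroup.centralizer {x} := by
    intro s'
    rw [Subgroup.mem_centralizer_singleton_iff, hxe]
    apply RL.conj_comm
    rw [← map_mul, ← map_mul, mul_comm]
  let φ : Kˣ →* ↥(Subgroup.centralizer {x}) :=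
    { toFun := fun s' => ⟨c * R.h s' * c⁻¹, hmem s'⟩
      map_one' := Subtype.ext (by simp)
      map_mul' := fun a b => Subtype.ext (by
        show c * R.h (a * b) * c⁻¹ = c * R.h a * c⁻¹ * (c * R.h b * c⁻¹)
        rw [map_mul]
        group) }
  have hφ : Function.Bijective φ := by
    constructor
    · intro a b h
      have h1 : c * R.h a * c⁻¹ = c * R.h b * c⁻¹ := congrArg Subtype.val h
      exact R.h_inj (mul_left_cancel (mul_right_cancel h1))
    · rintro ⟨z, hz⟩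
      rw [Subgroup.mem_centralizer_singleton_iff, hxe] at hz
      have h1 : (c⁻¹ * z * c) * R.h s = R.h s * (c⁻¹ * z * c) := by
        apply RL.conj_comm' c
        have e : c * (c⁻¹ * z * c) * c⁻¹ = z := by group
        rw [e]
        exact hz
      obtain ⟨s', hs'⟩ := R.cent_h hs2 h1
      refine ⟨s', Subtype.ext ?_⟩
      show c * R.h s' * c⁻¹ = z
      rw [← hs']
      group
  let e := MulEquiv.ofBijective φ hφ
  refine ⟨?_, ?_, ?_⟩
  · rw [← Nat.card_congr e.toEquiv]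
    exact card_units_K
  · exact (MulEquiv.isCyclic e).mp inferInstance
  · intro u hu v hv
    obtain ⟨a, ha⟩ := hφ.2 ⟨u, hu⟩
    obtain ⟨b, hb⟩ := hφ.2 ⟨v, hv⟩
    have := congrArg Subtype.val (hφ.1.eq_iff.mpr (mul_comm a b))
    simp only [map_mul, ha, hb] at this
    exact this

end RD

/-- Reduction to the centraliser of a single element. -/
theorem cent_eq_of {G : Type*} [Group G] {A : Subgroup G} {x : G} (hxA : x ∈ A) (hA : ∀ y ∈ A, y * x = x * y)
    (hcomm : ∀ u ∈ Subgroup.centralizer {x}, ∀ v ∈ Subgroup.centralizer {x}, u * v = v * u) :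
    Subgroup.centralizer (A : Set G) = Subgroup.centralizer {x} := by
  ext z
  rw [Subgroup.mem_centralizer_singleton_iff]
  constructor
  · intro h
    have := Subgroup.mem_centralizer_iff.mp h x hxA
    exact this.symm
  · intro h
    rw [Subgroup.mem_centralizer_iff]
    intro y hy
    exact hcomm _ (Subgroup.mem_centralizer_singleton_iff.mpr (hA y hy)) _ (Subgroup.mem_centralizer_singleton_iff.mpr h)

theorem cyc_comm {G : Type*} [Group G] {H : Subgroup G} (hH : IsCyclic H) {y z : G} (hy : y ∈ H) (hz : z ∈ H) : y * z = z * y := by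
  letI := IsCyclic.commGroup (α := H)
  exact congrArg Subtype.val (mul_comm (⟨y, hy⟩ : H) ⟨z, hz⟩)

theorem ex_prime_elt {G : Type*} [Group G] [Finite G] {A : Subgroup G} (hA : A ≠ ⊥) : ∃ x ∈ A, ∃ l : ℕ, l.Prime ∧ orderOf x = l := by
  have h1 : Nat.card A ≠ 1 := by
    intro h
    exact hA (Subgroup.card_eq_one.mp h)
  haveI : Fact (Nat.card A).minFac.Prime := ⟨Nat.minFac_prime h1⟩
  obtain ⟨x, hx⟩ := exists_prime_orderOf_dvd_card' (Nat.card A).minFac (Nat.minFac_dvd _)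
  exact ⟨x.1, x.2, _, Nat.minFac_prime h1, by rw [Subgroup.orderOf_coe, hx]⟩

/-- The statement about centralisers of torus parts, abstractly. -/
theorem cent_main {K : Type*} [Field K] [CharP K 3] [Fintype K] {f : K ≃+* K} {G : Type*} [Group G] [Finite G]
    {R : RD K f G} (L : RD.RL R)
    (hsq : ∀ u : Kˣ, (∃ v, u = v * v) ∨ (∃ v, u = -1 * (v * v)))
    (hG : Nat.card G = (1 + Fintype.card K ^ 3) * (Fintype.card K ^ 3 * (Fintype.card K - 1)))
    (hq27 : 27 ≤ Fintype.card K) (hmod : Nat.card G % 16 = 8) (hq8 : Fintype.card K % 8 = 3)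
    (hcyc : ∀ r : ℕ, r.Prime → 3 < r → ∀ P : Subgroup G, IsPGroup r P → IsCyclic P)
    (H : Subgroup G) (hH : IsCyclic H) :
    (Nat.card H = (Fintype.card K - 1) / 2 →
      IsCyclic ↥(Subgroup.centralizer (H : Set G)) ∧ Nat.card ↥(Subgroup.centralizer (H : Set G)) = Fintype.card K - 1 ∧
        ∀ A : Subgroup G, A ≤ H → A ≠ ⊥ → Subgroup.centralizer (A : Set G) = Subgroup.centralizer (H : Set G)) ∧
    (Nat.card H = (Fintype.card K + 1) / 4 →
      IsMulCommutative ↥(Subgroup.centralizer (H : Set G)) ∧ Nat.card ↥(Subgroup.centralizer (H : Set G)) = Fintype.card K + 1 ∧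
        (∀ x ∈ Subgroup.centralizer (H : Set G), orderOf x ≠ 4) ∧
        ∀ A : Subgroup G, A ≤ H → A ≠ ⊥ → Subgroup.centralizer (A : Set G) = Subgroup.centralizer (H : Set G)) := by
  have hq : 2 ≤ Fintype.card K := by omega
  constructor
  · intro hc
    have hHb : H ≠ ⊥ := by
      rintro rfl
      simp at hc
      omega
    have key : ∀ A : Subgroup G, A ≤ H → A ≠ ⊥ → ∃ x, Subgroup.centralizer (A : Set G) = Subgroup.centralizer {x} ∧
        Subgroup.centralizer (H : Set G) = Subgroup.centralizer {x} ∧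
        Nat.card ↥(Subgroup.centralizer {x}) = Fintype.card K - 1 ∧ IsCyclic ↥(Subgroup.centralizer {x}) := by
      intro A hAH hAb
      obtain ⟨x, hxA, l, hl, hx⟩ := ex_prime_elt hAb
      have hdvd : l ∣ (Fintype.card K - 1) / 2 := by
        rw [← hx, ← hc]
        have h8 := orderOf_dvd_natCard (⟨x, hAH hxA⟩ : H)
        rwa [Subgroup.orderOf_mk] at h8
      have hl2 : l ≠ 2 := by
        rintro rfl
        omega
      have hd : l ∣ Fintype.card K - 1 := hdvd.trans (Nat.div_dvd_of_dvd (by omega))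
      obtain ⟨h1, h2, h3⟩ := R.cent_sp hG hq hl hl2 hd hx
      refine ⟨x, cent_eq_of hxA (fun y hy => cyc_comm hH (hAH hy) (hAH hxA)) h3, cent_eq_of (hAH hxA) (fun y hy => cyc_comm hH hy (hAH hxA)) h3, h1, h2⟩
    obtain ⟨x, -, h1, h2, h3⟩ := key H le_rfl hHb
    rw [h1]
    refine ⟨h3, h2, fun A hA hAb => ?_⟩
    obtain ⟨x', h4, h5, -, -⟩ := key A hA hAb
    rw [h4, ← h5, h1]
  · intro hc
    have hHb : H ≠ ⊥ := by
      rintro rfl
      simp at hc
      omega
    have key : ∀ A : Subgroup G, A ≤ H → A ≠ ⊥ → ∃ x, Subgroup.centralizer (A : Set G) = Subgroup.centralizer {x} ∧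
        Subgroup.centralizer (H : Set G) = Subgroup.centralizer {x} ∧
        Nat.card ↥(Subgroup.centralizer {x}) = Fintype.card K + 1 ∧
        ∀ u ∈ Subgroup.centralizer {x}, ∀ v ∈ Subgroup.centralizer {x}, u * v = v * u := by
      intro A hAH hAb
      obtain ⟨x, hxA, l, hl, hx⟩ := ex_prime_elt hAb
      have hdvd : l ∣ (Fintype.card K + 1) / 4 := by
        rw [← hx, ← hc]
        have h8 := orderOf_dvd_natCard (⟨x, hAH hxA⟩ : H)
        rwa [Subgroup.orderOf_mk] at h8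
      have hl2 : l ≠ 2 := by
        rintro rfl
        omega
      have hd : l ∣ Fintype.card K + 1 := hdvd.trans (Nat.div_dvd_of_dvd (by omega))
      have hl3 : l ≠ 3 := by
        rintro rfl
        have h4 := RD.RL.three_dvd_card (K := K)
        have h5 := (Nat.dvd_add_right h4).mp hd
        omega
      obtain ⟨h1, h3⟩ := L.cent_x hsq hG hq hmod (by omega) hcyc hl hl2 hl3 hd hx
      exact ⟨x, cent_eq_of hxA (fun y hy => cyc_comm hH (hAH hy) (hAH hxA)) h3, cent_eq_of (hAH hxA) (fun y hy => cyc_comm hH hy (hAH hxA)) h3, h1, h3⟩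
    obtain ⟨x, -, h1, h2, h3⟩ := key H le_rfl hHb
    rw [h1]
    refine ⟨⟨⟨fun u v => Subtype.ext (h3 _ u.2 _ v.2)⟩⟩, h2, ?_, fun A hA hAb => ?_⟩
    · intro z _ hz
      have hz4 : z ^ (2 ^ 2) = 1 := by
        rw [show (2 ^ 2 : ℕ) = 4 by norm_num, ← hz, pow_orderOf_eq_one]
      have hzz := L.two_elt_sq hmod hz4
      have h7 : z ^ 2 = 1 := by rw [pow_two, hzz]
      have h9 := orderOf_dvd_of_pow_eq_one h7
      rw [hz] at h9
      omega
    · obtain ⟨x', h4, h5, -, -⟩ := key A hA hAb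
      rw [h4, ← h5, h1]

end Cfsg.Agent.Lib.Ree
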