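import Cfsg.Agent.Lib.Ree.CentX
import Cfsg.Agent.Lib.Ree.CycAll

/-! Centralisers of elements of prime order dividing `q² - q + 1` in the small Ree groups. -/

set_option autoImplicit false
set_option linter.unusedSimpArgs false
set_option linter.unusedVariables false
set_option linter.unusedSectionVars false

namespace Cfsg.Agent.Lib.Ree

open Polynomial

section Arith

theorem ord6 {l : ℕ} [Fact l.Prime] (hl : 3 < l) {z : ZMod l} (hz : z ^ 2 - z + 1 = 0) {d : ℕ} (hd : 0 < d) (h : z ^ d = 1) : 6 ≤ d := by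
  have hpp : l.Prime := Fact.out
  have h2z : (2 : ZMod l) ≠ 0 := by
    intro h
    have : ((2 : ℕ) : ZMod l) = 0 := by exact_mod_cast h
    rw [ZMod.natCast_eq_zero_iff] at this
    have := (Nat.prime_dvd_prime_iff_eq hpp Nat.prime_two).mp this
    omega
  have h3z : (3 : ZMod l) ≠ 0 := by
    intro h
    have : ((3 : ℕ) : ZMod l) = 0 := by exact_mod_cast h
    rw [ZMod.natCast_eq_zero_iff] at this
    have := (Nat.prime_dvd_prime_iff_eq hpp Nat.prime_three).mp this
    omega
  have h10 : (1 : ZMod l) ≠ 0 := one_ne_zero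
  by_contra hlt
  have hd' : d = 1 ∨ d = 2 ∨ d = 3 ∨ d = 4 ∨ d = 5 := by omega
  have hz3 : z ^ 3 = -1 := by linear_combination (z + 1) * hz
  rcases hd' with rfl | rfl | rfl | rfl | rfl
  · apply h10
    rw [pow_one] at h
    rw [h] at hz
    linear_combination hz
  · apply h3z
    have e : z = 2 := by linear_combination h - hz
    rw [e] at hz
    linear_combination hz
  · apply h2z
    rw [hz3] at h
    linear_combination -h
  · apply h3z
    have e : z = -1 := by linear_combination z * hz3 - h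
    rw [e] at hz
    linear_combination hz
  · apply h10
    have e : z ^ 2 = -1 := by linear_combination -h + z ^ 2 * hz3
    have e2 : z = 0 := by linear_combination e - hz
    rw [e2] at hz
    linear_combination hz

end Arith

section Poly

variable {K : Type*} [Field K] [CharP K 3] [Fintype K]

/-- Nonconstant divisors of the geometric sum have degree at least six. -/
theorem factor_deg {l : ℕ} [Fact l.Prime] (hl : 3 < l)
    (hz : ((Fintype.card K : ℕ) : ZMod l) ^ 2 - ((Fintype.card K : ℕ) : ZMod l) + 1 = 0) {p : K[X]}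
    (hdvd : p ∣ ∑ i ∈ Finset.range l, (X : K[X]) ^ i) (hdeg : 0 < p.natDegree) : 6 ≤ p.natDegree := by
  have hpp : l.Prime := Fact.out
  have hp0 : p ≠ 0 := fun h => by simp [h] at hdeg
  obtain ⟨f, hf, hfp⟩ := Polynomial.exists_irreducible_of_natDegree_pos hdeg
  haveI : Fact (Irreducible f) := ⟨hf⟩
  have hdf : f.natDegree ≤ p.natDegree := Polynomial.natDegree_le_of_dvd hfp hp0
  have hf0 : f ≠ 0 := hf.ne_zero
  have hfd : 0 < f.natDegree := hf.natDegree_pos
  refine le_trans ?_ hdf
  let F := AdjoinRoot f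
  let α : F := AdjoinRoot.root f
  have h1 : ∑ i ∈ Finset.range l, α ^ i = 0 := by
    have h2 : aeval α (∑ i ∈ Finset.range l, (X : K[X]) ^ i) = 0 := by
      obtain ⟨c, hc⟩ := hfp.trans hdvd
      rw [hc, map_mul, AdjoinRoot.aeval_eq, AdjoinRoot.mk_self, zero_mul]
    simpa using h2
  have h3 : α ^ l = 1 := by
    have := geom_sum_mul α l
    rw [h1, zero_mul] at this
    exact (sub_eq_zero.mp this.symm)
  have hlK : (l : K) ≠ 0 := by
    intro h
    rw [CharP.cast_eq_zero_iff K 3] at h
    have := (Nat.prime_dvd_prime_iff_eq Nat.prime_three hpp).mp h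
    omega
  have h4 : α ≠ 1 := by
    intro h
    rw [h] at h1
    simp only [one_pow, Finset.sum_const, Finset.card_range, nsmul_eq_mul, mul_one] at h1
    have e : (l : F) = algebraMap K F (l : K) := (map_natCast _ _).symm
    rw [e] at h1
    exact hlK ((map_eq_zero_iff _ (algebraMap K F).injective).mp h1)
  have hα : α ≠ 0 := by
    intro h
    rw [h, zero_pow hpp.ne_zero] at h3
    exact zero_ne_one h3
  haveI : Module.Finite K F := (AdjoinRoot.powerBasis hf0).finite
  haveI : Finite F := Module.finite_of_finite K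
  letI : Fintype F := Fintype.ofFinite F
  have hcardF : Fintype.card F = Fintype.card K ^ f.natDegree := by
    rw [← Nat.card_eq_fintype_card, Module.natCard_eq_pow_finrank (K := K) (V := F), (AdjoinRoot.powerBasis hf0).finrank,
      AdjoinRoot.powerBasis_dim, Nat.card_eq_fintype_card]
  have h5 := FiniteField.pow_card_sub_one_eq_one α hα
  have h6 : orderOf α = l := orderOf_eq_prime h3 h4
  have h7 := orderOf_dvd_of_pow_eq_one h5
  rw [h6, hcardF] at h7
  have h8 := (ZMod.natCast_eq_zero_iff _ _).mpr h7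
  have hq1 : 1 ≤ Fintype.card K ^ f.natDegree := Nat.one_le_pow _ _ Fintype.card_pos
  rw [Nat.cast_sub hq1] at h8
  push_cast at h8
  exact ord6 hl hz hfd (sub_eq_zero.mp h8)

/-- Independence of the cyclic vectors. -/
theorem indep {l : ℕ} [Fact l.Prime] (hl : 3 < l)
    (hz : ((Fintype.card K : ℕ) : ZMod l) ^ 2 - ((Fintype.card K : ℕ) : ZMod l) + 1 = 0)
    {V : Type*} [AddCommGroup V] [Module K V] (T : Module.End K V) {w : V} (hw0 : w ≠ 0)
    (hw : aeval T (∑ i ∈ Finset.range l, (X : K[X]) ^ i) w = 0) {p : K[X]} (hp : p ≠ 0) (hdeg : p.natDegree < 6) :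
    aeval T p w ≠ 0 := by
  classical
  intro h
  set Φ := ∑ i ∈ Finset.range l, (X : K[X]) ^ i with hΦ
  set g := EuclideanDomain.gcd p Φ with hg
  have hgab := EuclideanDomain.gcd_eq_gcd_ab p Φ
  have h1 : aeval T g w = 0 := by
    rw [hg, hgab, mul_comm p, mul_comm Φ, map_add, map_mul, map_mul, LinearMap.add_apply]
    simp only [Module.End.mul_apply, h, hw, map_zero, add_zero]
  have hg0 : g ≠ 0 := by
    intro h0
    exact hp (EuclideanDomain.gcd_eq_zero_iff.mp h0).1
  have hgp : g ∣ p := EuclideanDomain.gcd_dvd_left p Φ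
  have hgΦ : g ∣ Φ := EuclideanDomain.gcd_dvd_right p Φ
  have hdg : g.natDegree ≤ p.natDegree := Polynomial.natDegree_le_of_dvd hgp hp
  rcases Nat.eq_zero_or_pos g.natDegree with h2 | h2
  · rw [Polynomial.eq_C_of_natDegree_eq_zero h2, aeval_C] at h1
    have hc : g.coeff 0 ≠ 0 := by
      intro hc
      apply hg0
      rw [Polynomial.eq_C_of_natDegree_eq_zero h2, hc, C_0]
    simp only [Module.algebraMap_end_apply, smul_eq_zero, hc, hw0, or_self] at h1
  · have := factor_deg hl hz hgΦ h2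
    omega

/-- An endomorphism commuting with `T` commutes with polynomials in `T`. -/
theorem comm_aeval {V : Type*} [AddCommGroup V] [Module K V] {T u : Module.End K V} (h : Commute u T) (p : K[X]) :
    Commute u (aeval T p) := by
  induction p using Polynomial.induction_on' with
  | add p q hp hq =>
    rw [map_add]
    exact hp.add_right hq
  | monomial n a =>
    rw [aeval_monomial]
    rw [← Algebra.smul_def]
    exact (h.pow_right n).smul_right a

/-- The key point: the commutant of `T` is commutative on the image of `T - 1`. -/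
theorem comm_on_W {l : ℕ} [Fact l.Prime] (hl : 3 < l)
    (hz : ((Fintype.card K : ℕ) : ZMod l) ^ 2 - ((Fintype.card K : ℕ) : ZMod l) + 1 = 0)
    {V : Type*} [AddCommGroup V] [Module K V] [Module.Finite K V] (T : Module.End K V) (hT : T ^ l = 1)
    (hW : Module.finrank K ↥(LinearMap.range (T - 1)) = 6) {u u' : Module.End K V} (hu : Commute u T) (hu' : Commute u' T)
    {v : V} (hv : v ∈ LinearMap.range (T - 1)) : u (u' v) = u' (u v) := by
  set W := LinearMap.range (T - 1) with hWdef
  have hinv : ∀ e : Module.End K V, Commute e T → ∀ x ∈ W, e x ∈ W := by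
    rintro e he _ ⟨y, rfl⟩
    refine ⟨e y, ?_⟩
    have h1 : Commute e (T - 1) := he.sub_right (Commute.one_right e)
    have := congrFun (congrArg DFunLike.coe h1) y
    exact this.symm
  have hΦ : ∀ x ∈ W, aeval T (∑ i ∈ Finset.range l, (X : K[X]) ^ i) x = 0 := by
    rintro _ ⟨y, rfl⟩
    have h1 : (∑ i ∈ Finset.range l, T ^ i) * (T - 1) = T ^ l - 1 := geom_sum_mul T l
    rw [hT, sub_self] at h1
    have h2 : aeval T (∑ i ∈ Finset.range l, (X : K[X]) ^ i) = ∑ i ∈ Finset.range l, T ^ i := by simp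
    rw [h2]
    have := congrFun (congrArg DFunLike.coe h1) y
    exact this
  obtain ⟨w, hwW, hw0⟩ : ∃ w ∈ W, w ≠ 0 := by
    by_contra h
    push Not at h
    have : W = ⊥ := (Submodule.eq_bot_iff W).mpr h
    rw [this, finrank_bot] at hW
    omega
  -- every element of `W` is a polynomial in `T` applied to `w`
  let F : ↥(Polynomial.degreeLT K 6) →ₗ[K] V :=
    { toFun := fun p => aeval T p.1 w
      map_add' := fun a b => by simp
      map_smul' := fun c a => by simp }
  have hFinj : Function.Injective F := by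
    rw [← LinearMap.ker_eq_bot, LinearMap.ker_eq_bot']
    rintro ⟨p, hp⟩ h
    by_contra h0
    have hp0 : p ≠ 0 := fun e => h0 (Subtype.ext e)
    have hdeg : p.natDegree < 6 := by
      rw [Polynomial.mem_degreeLT] at hp
      exact (Polynomial.natDegree_lt_iff_degree_lt hp0).mpr hp
    exact indep hl hz T hw0 (hΦ w hwW) hp0 hdeg h
  have hrange : LinearMap.range F = W := by
    apply Submodule.eq_of_le_of_finrank_eq
    · rintro _ ⟨p, rfl⟩
      have h1 : Commute (aeval T p.1) T := (comm_aeval (Commute.refl T) p.1).symm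
      exact hinv _ h1 w hwW
    · rw [LinearMap.finrank_range_of_inj hFinj, hW, (Polynomial.degreeLTEquiv K 6).finrank_eq, Module.finrank_fin_fun]
  have hform : ∀ x ∈ W, ∃ p : K[X], aeval T p w = x := by
    intro x hx
    rw [← hrange] at hx
    obtain ⟨p, rfl⟩ := hx
    exact ⟨p.1, rfl⟩
  have hact : ∀ e : Module.End K V, Commute e T → ∃ p : K[X], ∀ x ∈ W, e x = aeval T p x := by
    intro e he
    obtain ⟨p, hp⟩ := hform (e w) (hinv e he w hwW)
    refine ⟨p, ?_⟩
    intro x hx
    obtain ⟨r, rfl⟩ := hform x hx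
    have h1 := congrFun (congrArg DFunLike.coe (comm_aeval he r)) w
    simp only [Module.End.mul_apply] at h1
    rw [h1, ← hp]
    have h2 : Commute (aeval T r) (aeval T p) := by
      show aeval T r * aeval T p = aeval T p * aeval T r
      rw [← map_mul, ← map_mul, mul_comm]
    have h3 := congrFun (congrArg DFunLike.coe h2) w
    simp only [Module.End.mul_apply] at h3
    rw [h3]
  obtain ⟨p, hp⟩ := hact u hu
  obtain ⟨p', hp'⟩ := hact u' hu'
  rw [hp _ (hinv u' hu' v hv), hp' _ (hinv u hu v hv), hp v hv, hp' v hv]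
  have h2 : aeval T p * aeval T p' = aeval T p' * aeval T p := by
    rw [← map_mul, ← map_mul, mul_comm]
  exact congrFun (congrArg DFunLike.coe h2) v

end Poly

open Cfsg Cfsg.Lie Cfsg.Agent.Lib.Chev Cfsg.Agent.Lib.Chev.TwG2 Cfsg.Agent.Lib.Chev.TabG2

namespace RD

namespace RL

variable {K : Type*} [Field K] [CharP K 3] {f : K ≃+* K} {G : Type*} [Group G] {R : RD K f G} (L : RL R)

/-- The exact order of the centraliser of `a`. -/
theorem card_Ca [Fintype K] [Finite G]
    (hG : Nat.card G = (1 + Fintype.card K ^ 3) * (Fintype.card K ^ 3 * (Fintype.card K - 1)))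
    (hq : 2 ≤ Fintype.card K) :
    Nat.card ↥(Subgroup.centralizer {R.h (-1)}) = Fintype.card K * ((Fintype.card K - 1) * (Fintype.card K + 1)) := by
  have h1 := card_class (R := R)
  rw [hG, R.card_Cl hG hq] at h1
  obtain ⟨r, hr⟩ : ∃ r, Fintype.card K = r + 1 := ⟨Fintype.card K - 1, by omega⟩
  rw [hr, Nat.add_sub_cancel] at h1 ⊢
  have hpos : 0 < (r + 1) ^ 2 * ((r + 1) * r + 1) := by positivity
  apply Nat.eq_of_mul_eq_mul_left hpos
  rw [← h1]
  ring

variable (R) in
include R in
/-- An element whose order does not divide `q (q - 1)` commutes with no element of order three. -/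
theorem no3' [Fintype K] [Finite G]
    (hG : Nat.card G = (1 + Fintype.card K ^ 3) * (Fintype.card K ^ 3 * (Fintype.card K - 1)))
    (hq : 2 ≤ Fintype.card K) {x u : G} {l : ℕ} (hl : l.Prime) (hnq : ¬ l ∣ Fintype.card K) (hnq1 : ¬ l ∣ Fintype.card K - 1)
    (hx : orderOf x = l) (hu : orderOf u = 3) (hc : x * u = u * x) : False := by
  haveI : Fact (Nat.Prime 3) := ⟨Nat.prime_three⟩
  have hu3 : u ^ 3 = 1 := by rw [← hu]; exact pow_orderOf_eq_one u
  have hP : IsPGroup 3 ↥(Subgroup.zpowers u) := by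
    rintro ⟨w, i, rfl⟩
    refine ⟨1, Subtype.ext ?_⟩
    show (u ^ i) ^ (3 ^ 1) = 1
    rw [← zpow_natCast, ← _root_.zpow_mul, mul_comm, _root_.zpow_mul]
    have : u ^ ((3 ^ 1 : ℕ) : ℤ) = 1 := by
      rw [zpow_natCast, pow_one, hu3]
    rw [this, _root_.one_zpow]
  have hidx := R.index_B hG hq
  have hnd : ¬ 3 ∣ Nat.card (G ⧸ R.B) := by
    rw [hidx]
    intro h
    have h4 := three_dvd_card (K := K)
    have h5 : 3 ∣ Fintype.card K ^ 3 := h4.trans (dvd_pow_self _ (by norm_num))
    have h6 := (Nat.dvd_add_right h5).mp (by rwa [add_comm] at h)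
    omega
  obtain ⟨y, hy⟩ := hP.nonempty_fixed_point_of_prime_not_dvd_card (G ⧸ R.B) hnd
  obtain ⟨d, rfl⟩ := QuotientGroup.mk_surjective y
  have hv : d⁻¹ * u * d ∈ R.B := by
    rw [← R.mem_stab]
    exact hy ⟨u, Subgroup.mem_zpowers u⟩
  have hv3 : (d⁻¹ * u * d) ^ 3 = 1 := by
    have := conj_pow (a := d⁻¹) (b := u) (i := 3)
    simp only [inv_inv] at this
    rw [this, hu3]
    group
  have hvU := mem_U_of_cube R hv hv3 hq
  have hv1 : d⁻¹ * u * d ≠ 1 := by
    intro h
    have : u = 1 := by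
      have e : u = d * (d⁻¹ * u * d) * d⁻¹ := by group
      rw [e, h]
      group
    rw [this, orderOf_one] at hu
    omega
  have h1 : (d⁻¹ * x * d)⁻¹ * (d⁻¹ * u * d) * (d⁻¹ * x * d) ∈ R.B := by
    have e : (d⁻¹ * x * d)⁻¹ * (d⁻¹ * u * d) * (d⁻¹ * x * d) = d⁻¹ * (x⁻¹ * (u * x)) * d := by group
    rw [e, ← hc]
    have e2 : x⁻¹ * (x * u) = u := by group
    rw [e2]
    exact hv
  have h2 := U_fix_unique R hvU hv1 h1
  have h3 : orderOf (d⁻¹ * x * d) = l := by
    rw [← hx]
    have := (MulAut.conj d⁻¹).orderOf_eq x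
    simpa using this
  have h4 : l ∣ Nat.card ↥R.B := by
    have h5 := orderOf_dvd_natCard (⟨_, h2⟩ : ↥R.B)
    rwa [Subgroup.orderOf_mk, h3] at h5
  rw [R.card_B] at h4
  rcases (Nat.Prime.dvd_mul hl).mp h4 with h5 | h5
  · exact hnq (hl.dvd_of_dvd_pow h5)
  · exact hnq1 h5

end RL

end RD

section V7Y

variable {K : Type*} [Field K] [CharP K 3] [Fintype K] (f : K ≃+* K) (hf3 : ∀ t, f (f t) ^ 3 = t)
  (hΓ : ∀ g ∈ (TT f).AA JJ, inv7 ((g : GL chevG2.Idx K) : Matrix chevG2.Idx chevG2.Idx K))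

include hf3 in
/-- An element of order `l`, a prime with `q² - q + 1 ≡ 0`, has a one-dimensional fixed space. -/
theorem fix_dim1 (hs : IsSimpleGroup ↥((TT f).AA JJ)) [Finite ↥((TT f).AA JJ)] {l : ℕ} [Fact l.Prime] (hl : 3 < l)
    (hz : ((Fintype.card K : ℕ) : ZMod l) ^ 2 - ((Fintype.card K : ℕ) : ZMod l) + 1 = 0)
    {y : ↥((TT f).AA JJ)} (hy : orderOf y = l) :
    Module.finrank K ↥(fixSp (rhoG _ hΓ) (Subgroup.zpowers y)) = 1 := by
  have hpp : l.Prime := Fact.out
  have h2z : (2 : ZMod l) ≠ 0 := by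
    intro h
    have : ((2 : ℕ) : ZMod l) = 0 := by exact_mod_cast h
    rw [ZMod.natCast_eq_zero_iff] at this
    have := (Nat.prime_dvd_prime_iff_eq hpp Nat.prime_two).mp this
    omega
  have h3z : (3 : ZMod l) ≠ 0 := by
    intro h
    have : ((3 : ℕ) : ZMod l) = 0 := by exact_mod_cast h
    rw [ZMod.natCast_eq_zero_iff] at this
    have := (Nat.prime_dvd_prime_iff_eq hpp Nat.prime_three).mp this
    omega
  have hfin : Module.finrank K (S7 → K) = 7 := by
    rw [Module.finrank_fintype_fun_eq_card, card_S7]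
  set ρ := rhoG _ hΓ with hρ
  set A := Subgroup.zpowers y with hAdef
  set D := Module.finrank K ↥(fixSp ρ A) with hD
  have hle : D ≤ 7 := by
    rw [← hfin]
    exact Submodule.finrank_le _
  have hAp : IsPGroup l A := by
    rintro ⟨w, i, rfl⟩
    refine ⟨1, Subtype.ext ?_⟩
    show (y ^ i) ^ (l ^ 1) = 1
    rw [pow_one, ← zpow_natCast, ← _root_.zpow_mul, mul_comm, _root_.zpow_mul, zpow_natCast, ← hy, pow_orderOf_eq_one, _root_.one_zpow]
  have hmod := card_fix_modEq ρ A hAp
  rw [hfin, ← hD, Nat.card_eq_fintype_card, ← ZMod.natCast_eq_natCast_iff] at hmod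
  push_cast at hmod
  set z := ((Fintype.card K : ℕ) : ZMod l) with hzdef
  have hz3 : z ^ 3 = -1 := by linear_combination (z + 1) * hz
  have hz7 : z ^ 7 = z := by
    have : z ^ 7 = (z ^ 3) ^ 2 * z := by ring
    rw [this, hz3]
    ring
  rw [hz7] at hmod
  have hz1 : z ≠ 1 := by
    intro h
    rw [h] at hz
    norm_num at hz
  have h7 : D ≠ 7 := by
    intro h7
    have hT : fixSp ρ A = ⊤ := Submodule.eq_top_of_finrank_eq (by rw [hfin]; exact h7)
    have h5 : ρ y = 1 := by
      apply LinearMap.ext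
      intro v
      have : v ∈ fixSp ρ A := by rw [hT]; exact Submodule.mem_top
      exact this y (Subgroup.mem_zpowers y)
    have h6 := rho_inj f hf3 hΓ hs h5
    rw [h6, orderOf_one] at hy
    exact hpp.one_lt.ne hy
  have hD' : D = 0 ∨ D = 1 ∨ D = 2 ∨ D = 3 ∨ D = 4 ∨ D = 5 ∨ D = 6 := by omega
  rcases hD' with h | h | h | h | h | h | h
  · rw [h, pow_zero] at hmod
    exact absurd hmod hz1
  · exact h
  · exfalso
    rw [h] at hmod
    have : (1 : ZMod l) = 0 := by linear_combination hz + hmod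
    exact one_ne_zero this
  · exfalso
    rw [h, hz3] at hmod
    apply h3z
    rw [hmod] at hz
    linear_combination hz
  · exfalso
    rw [h] at hmod
    have e1 : z ^ 4 = -z := by linear_combination z * hz3
    rw [e1] at hmod
    have e2 : 2 * z = 0 := by linear_combination hmod
    have e3 : z = 0 := (mul_eq_zero.mp e2).resolve_left h2z
    rw [e3] at hz
    norm_num at hz
  · exfalso
    rw [h] at hmod
    have e1 : z ^ 5 = -z ^ 2 := by linear_combination z ^ 2 * hz3
    rw [e1] at hmod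
    have e2 : 2 * z = 1 := by linear_combination hmod - hz
    apply h3z
    linear_combination 4 * hz - (2 * z - 1) * e2
  · exfalso
    rw [h] at hmod
    have e1 : z ^ 6 = 1 := by
      have : z ^ 6 = (z ^ 3) ^ 2 := by ring
      rw [this, hz3]
      ring
    rw [e1] at hmod
    exact hz1 hmod

include hf3 hΓ in
/-- An element of `ρ` of prime order cannot act trivially on a six-dimensional subspace if it commutes with `y`. -/
theorem triv_prime (hsq : ∀ u : Kˣ, (∃ v, u = v * v) ∨ (∃ v, u = -1 * (v * v)))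
    (hG : Nat.card ↥((TT f).AA JJ) = (1 + Fintype.card K ^ 3) * (Fintype.card K ^ 3 * (Fintype.card K - 1)))
    (hq : 2 ≤ Fintype.card K) (hmod : Nat.card ↥((TT f).AA JJ) % 16 = 8)
    (hs : IsSimpleGroup ↥((TT f).AA JJ)) [Finite ↥((TT f).AA JJ)] {l : ℕ} (hl : l.Prime) (hl3 : 3 < l)
    (hz : ((Fintype.card K : ℕ) : ZMod l) ^ 2 - ((Fintype.card K : ℕ) : ZMod l) + 1 = 0)
    {y : ↥((TT f).AA JJ)} (hy : orderOf y = l) {W : Submodule K (S7 → K)} (hW : Module.finrank K ↥W = 6)
    {c : ↥((TT f).AA JJ)} {p : ℕ} (hp : p.Prime) (hc : orderOf c = p) (hcy : c * y = y * c)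
    (hfix : ∀ x ∈ W, rhoG _ hΓ c x = x) : False := by
  haveI : Fact l.Prime := ⟨hl⟩
  haveI : Fact p.Prime := ⟨hp⟩
  have h3z : (3 : ZMod l) ≠ 0 := by
    intro h
    have : ((3 : ℕ) : ZMod l) = 0 := by exact_mod_cast h
    rw [ZMod.natCast_eq_zero_iff] at this
    have := (Nat.prime_dvd_prime_iff_eq hl Nat.prime_three).mp this
    omega
  have hnq : ¬ l ∣ Fintype.card K := by
    intro h
    have h1 := (ZMod.natCast_eq_zero_iff _ _).mpr h
    rw [h1] at hz
    norm_num at hz
  have hq1 : 1 ≤ Fintype.card K := by omega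
  have hnq1 : ¬ l ∣ Fintype.card K - 1 := by
    intro h
    have h1 := (ZMod.natCast_eq_zero_iff _ _).mpr h
    rw [Nat.cast_sub hq1] at h1
    push_cast at h1
    have h2 : ((Fintype.card K : ℕ) : ZMod l) = 1 := sub_eq_zero.mp h1
    rw [h2] at hz
    norm_num at hz
  have hnq2 : ¬ l ∣ Fintype.card K + 1 := by
    intro h
    have h1 := (ZMod.natCast_eq_zero_iff _ _).mpr h
    push_cast at h1
    have h2 : ((Fintype.card K : ℕ) : ZMod l) = -1 := eq_neg_of_add_eq_zero_left h1
    rw [h2] at hz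
    apply h3z
    linear_combination hz
  set L := rl f hf3 hsq with hL
  set R := rd f hf3 hsq with hR
  rcases eq_or_ne p 2 with rfl | hp2
  · -- involutions
    have hcc : c * c = 1 := by
      rw [← pow_two, ← hc, pow_orderOf_eq_one]
    have hc1 : c ≠ 1 := by
      rintro rfl
      rw [orderOf_one] at hc
      omega
    obtain ⟨g, hg⟩ := isConj_iff.mp (L.inv_conj hG hq hmod hcc hc1)
    have h1 : (g * y * g⁻¹) * R.h (-1) = R.h (-1) * (g * y * g⁻¹) := by
      rw [← hg]
      exact RD.RL.conj_comm g hcy.symm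
    have h2 : orderOf (g * y * g⁻¹) = l := by
      rw [← hy]
      exact (MulAut.conj g).orderOf_eq y
    have h3 := orderOf_dvd_natCard (⟨g * y * g⁻¹, Subgroup.mem_centralizer_singleton_iff.mpr h1⟩ : ↥(Subgroup.centralizer {R.h (-1)}))
    rw [Subgroup.orderOf_mk, h2, RD.RL.card_Ca (R := R) hG hq] at h3
    rcases (Nat.Prime.dvd_mul hl).mp h3 with h4 | h4
    · exact hnq h4
    · rcases (Nat.Prime.dvd_mul hl).mp h4 with h5 | h5
      · exact hnq1 h5
      · exact hnq2 h5
  rcases eq_or_ne p 3 with rfl | hp3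
  · exact RD.RL.no3' R hG hq hl hnq hnq1 hy hc hcy.symm
  -- the remaining primes
  set ρ := rhoG _ hΓ with hρ
  set A := Subgroup.zpowers c with hAdef
  have hfin : Module.finrank K (S7 → K) = 7 := by
    rw [Module.finrank_fintype_fun_eq_card, card_S7]
  have hAp : IsPGroup p A := by
    rintro ⟨w, i, rfl⟩
    refine ⟨1, Subtype.ext ?_⟩
    show (c ^ i) ^ (p ^ 1) = 1
    rw [pow_one, ← zpow_natCast, ← _root_.zpow_mul, mul_comm, _root_.zpow_mul, zpow_natCast, ← hc, pow_orderOf_eq_one, _root_.one_zpow]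
  have hWfix : W ≤ fixSp ρ A := by
    intro x hx g hg
    obtain ⟨n, rfl⟩ := (mem_powers_iff_mem_zpowers.mpr hg)
    rw [map_pow]
    induction n with
    | zero => simp
    | succ n ih =>
      rw [pow_succ, Module.End.mul_apply, hfix x hx]
      exact ih (by
        exact Subgroup.npow_mem_zpowers c n)
  have h6 : 6 ≤ Module.finrank K ↥(fixSp ρ A) := by
    rw [← hW]
    exact Submodule.finrank_mono hWfix
  have hle : Module.finrank K ↥(fixSp ρ A) ≤ 7 := by
    rw [← hfin]
    exact Submodule.finrank_le _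
  have hmod' := card_fix_modEq ρ A hAp
  rw [hfin, Nat.card_eq_fintype_card, ← ZMod.natCast_eq_natCast_iff] at hmod'
  push_cast at hmod'
  have hD : Module.finrank K ↥(fixSp ρ A) = 6 ∨ Module.finrank K ↥(fixSp ρ A) = 7 := by omega
  rcases hD with hD | hD
  · rw [hD] at hmod'
    have hnp : ¬ p ∣ Fintype.card K := by
      intro h
      obtain ⟨n, -, hn⟩ := FiniteField.card K 3
      rw [hn] at h
      have := Nat.Prime.dvd_of_dvd_pow hp h
      exact hp3 ((Nat.prime_dvd_prime_iff_eq hp Nat.prime_three).mp this)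
    have hz0 : ((Fintype.card K : ℕ) : ZMod p) ≠ 0 := by
      intro h
      exact hnp ((ZMod.natCast_eq_zero_iff _ _).mp h)
    have h1 : ((Fintype.card K : ℕ) : ZMod p) ^ 6 * (((Fintype.card K : ℕ) : ZMod p) - 1) = 0 := by
      linear_combination hmod'
    have h2 := (mul_eq_zero.mp h1).resolve_left (pow_ne_zero _ hz0)
    have h3 : p ∣ Fintype.card K - 1 := by
      rw [← ZMod.natCast_eq_zero_iff, Nat.cast_sub hq1]
      push_cast
      exact h2
    obtain ⟨h4, -, -⟩ := R.cent_sp hG hq hp hp2 h3 hc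
    have h5 := orderOf_dvd_natCard (⟨y, Subgroup.mem_centralizer_singleton_iff.mpr hcy.symm⟩ : ↥(Subgroup.centralizer {c}))
    rw [Subgroup.orderOf_mk, hy, h4] at h5
    exact hnq1 h5
  · have hT : fixSp ρ A = ⊤ := Submodule.eq_top_of_finrank_eq (by rw [hfin]; exact hD)
    have h5 : ρ c = 1 := by
      apply LinearMap.ext
      intro v
      have : v ∈ fixSp ρ A := by rw [hT]; exact Submodule.mem_top
      exact this c (Subgroup.mem_zpowers c)
    have h6 := rho_inj f hf3 hΓ hs h5
    rw [h6, orderOf_one] at hc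
    exact hp.one_lt.ne hc

include hf3 hΓ in
/-- The centraliser of an element of prime order dividing `q² - q + 1` is abelian. -/
theorem cent_y (hsq : ∀ u : Kˣ, (∃ v, u = v * v) ∨ (∃ v, u = -1 * (v * v)))
    (hG : Nat.card ↥((TT f).AA JJ) = (1 + Fintype.card K ^ 3) * (Fintype.card K ^ 3 * (Fintype.card K - 1)))
    (hq : 2 ≤ Fintype.card K) (hmod : Nat.card ↥((TT f).AA JJ) % 16 = 8)
    (hs : IsSimpleGroup ↥((TT f).AA JJ)) [Finite ↥((TT f).AA JJ)] {l : ℕ} (hl : l.Prime) (hl3 : 3 < l)
    (hz : ((Fintype.card K : ℕ) : ZMod l) ^ 2 - ((Fintype.card K : ℕ) : ZMod l) + 1 = 0)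
    {y : ↥((TT f).AA JJ)} (hy : orderOf y = l) :
    ∀ u ∈ Subgroup.centralizer {y}, ∀ v ∈ Subgroup.centralizer {y}, u * v = v * u := by
  intro u hu v hv
  haveI : Fact l.Prime := ⟨hl⟩
  set ρ := rhoG _ hΓ with hρ
  set T := ρ y with hT
  have hTl : T ^ l = 1 := by
    rw [hT, ← map_pow, ← hy, pow_orderOf_eq_one, map_one]
  have hd1 := fix_dim1 f hf3 hΓ hs hl3 hz hy
  have hker : fixSp ρ (Subgroup.zpowers y) = LinearMap.ker (T - 1) := by
    ext x
    rw [LinearMap.mem_ker, LinearMap.sub_apply, Module.End.one_apply, sub_eq_zero]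
    constructor
    · intro h
      exact h y (Subgroup.mem_zpowers y)
    · intro h g hg
      obtain ⟨n, rfl⟩ := (mem_powers_iff_mem_zpowers.mpr hg)
      rw [map_pow]
      induction n with
      | zero => simp
      | succ n ih =>
        rw [pow_succ, Module.End.mul_apply, h]
        exact ih (Subgroup.npow_mem_zpowers y n)
  have hfin : Module.finrank K (S7 → K) = 7 := by
    rw [Module.finrank_fintype_fun_eq_card, card_S7]
  have hW : Module.finrank K ↥(LinearMap.range (T - 1)) = 6 := by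
    have h1 := LinearMap.finrank_range_add_finrank_ker (T - 1)
    rw [← hker, hd1, hfin] at h1
    omega
  have hcomm : ∀ {e : ↥((TT f).AA JJ)}, e ∈ Subgroup.centralizer {y} → Commute (ρ e) T := by
    intro e he
    show ρ e * ρ y = ρ y * ρ e
    rw [← map_mul, ← map_mul, Subgroup.mem_centralizer_singleton_iff.mp he]
  have hcW : ∀ x ∈ LinearMap.range (T - 1), ρ (u * v) x = ρ (v * u) x := by
    intro x hx
    rw [map_mul, map_mul]
    exact comm_on_W hl3 hz T hTl hW (hcomm hu) (hcomm hv) hx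
  set c := (v * u)⁻¹ * (u * v) with hc
  have hcmem : c ∈ Subgroup.centralizer {y} :=
    Subgroup.mul_mem _ (Subgroup.inv_mem _ (Subgroup.mul_mem _ hv hu)) (Subgroup.mul_mem _ hu hv)
  have hcfix : ∀ x ∈ LinearMap.range (T - 1), ρ c x = x := by
    intro x hx
    rw [hc, map_mul, Module.End.mul_apply, hcW x hx, ← Module.End.mul_apply, ← map_mul, inv_mul_cancel, map_one, Module.End.one_apply]
  have hc1 : c = 1 := by
    by_contra hc1
    have hord : orderOf c ≠ 1 := fun h => hc1 (orderOf_eq_one_iff.mp h)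
    obtain ⟨p, hp, hpd⟩ := Nat.exists_prime_and_dvd hord
    have hord0 : orderOf c ≠ 0 := (orderOf_pos c).ne'
    have h1 := orderOf_pow_orderOf_div hord0 hpd
    have h2 : c ^ (orderOf c / p) ∈ Subgroup.centralizer {y} := Subgroup.pow_mem _ hcmem _
    refine triv_prime f hf3 hΓ hsq hG hq hmod hs hl hl3 hz hy hW hp h1 (Subgroup.mem_centralizer_singleton_iff.mp h2) ?_
    intro x hx
    rw [map_pow]
    generalize orderOf c / p = n
    induction n with
    | zero => simp
    | succ n ih =>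
      rw [pow_succ, Module.End.mul_apply, hcfix x hx, ih]
  have : (v * u)⁻¹ * (u * v) = 1 := hc1
  exact (inv_mul_eq_one.mp this).symm

end V7Y

namespace RD.RL

theorem cyc_comm' {G : Type*} [Group G] {H : Subgroup G} (hH : IsCyclic H) {y z : G} (hy : y ∈ H) (hz : z ∈ H) : y * z = z * y := by
  letI := IsCyclic.commGroup (α := H)
  exact congrArg Subtype.val (mul_comm (⟨y, hy⟩ : H) ⟨z, hz⟩)

end RD.RL

/-- Subgroups of a finite cyclic group are determined by their orders. -/
theorem cyc_uniq {H : Type*} [Group H] [Finite H] [IsCyclic H] (A B : Subgroup H) (h : Nat.card A = Nat.card B) : A = B := by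
  classical
  letI : Fintype H := Fintype.ofFinite H
  have key : ∀ C : Subgroup H, ((C : Set H)) = {x : H | x ^ Nat.card C = 1} := by
    intro C
    apply Set.eq_of_subset_of_ncard_le
    · intro x hx
      have := pow_card_eq_one' (x := (⟨x, hx⟩ : C))
      exact congrArg Subtype.val this
    · have h1 := IsCyclic.card_pow_eq_one_le (α := H) (n := Nat.card C) Nat.card_pos
      have e1 : (C : Set H).ncard = Nat.card C := by
        rw [← Nat.card_coe_set_eq]
        rfl
      rw [e1]
      have e2 : {x : H | x ^ Nat.card C = 1}.ncard = (Finset.univ.filter fun x : H => x ^ Nat.card C = 1).card := by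
        rw [← Set.ncard_coe_finset]
        congr 1
        ext x
        simp
      rw [e2]
      exact h1
    · exact Set.toFinite _
  apply SetLike.coe_injective
  rw [key A, key B, h]

/-- Conjugacy of cyclic subgroups whose primes have abelian centralisers. -/
theorem conj_of_comm {G : Type*} [Group G] [Finite G]
    (hcyc : ∀ r : ℕ, r.Prime → 3 < r → ∀ P : Subgroup G, IsPGroup r P → IsCyclic P) {d : ℕ}
    (hd3 : ∀ r : ℕ, r.Prime → r ∣ d → 3 < r)
    (hC : ∀ y : G, (orderOf y).Prime → orderOf y ∣ d → ∀ u ∈ Subgroup.centralizer {y}, ∀ v ∈ Subgroup.centralizer {y}, u * v = v * u)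
    (A B : Subgroup G) (hA : IsCyclic A) (hB : IsCyclic B) (hAd : Nat.card A = d) (hBd : Nat.card B = d) :
    ∃ g : G, B = A.map (MulAut.conj g).toMonoidHom := by
  classical
  rcases eq_or_ne d 1 with rfl | hd1
  · refine ⟨1, ?_⟩
    rw [Subgroup.card_eq_one.mp hAd, Subgroup.card_eq_one.mp hBd]
    simp
  have hd0 : d ≠ 0 := by
    intro h
    rw [h] at hAd
    exact Nat.card_pos.ne' hAd
  obtain ⟨l, hl, hld⟩ := Nat.exists_prime_and_dvd hd1
  haveI : Fact l.Prime := ⟨hl⟩
  have hl3 := hd3 l hl hld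
  obtain ⟨a, ha⟩ := exists_prime_orderOf_dvd_card' (G := A) l (by rwa [hAd])
  obtain ⟨b, hb⟩ := exists_prime_orderOf_dvd_card' (G := B) l (by rwa [hBd])
  have ha' : orderOf a.1 = l := by rw [Subgroup.orderOf_coe, ha]
  have hb' : orderOf b.1 = l := by rw [Subgroup.orderOf_coe, hb]
  have hPz : ∀ x : G, orderOf x = l → IsPGroup l ↥(Subgroup.zpowers x) := by
    intro x hx
    rintro ⟨w, i, rfl⟩
    refine ⟨1, Subtype.ext ?_⟩
    show (x ^ i) ^ (l ^ 1) = 1
    rw [pow_one, ← zpow_natCast, ← zpow_mul, mul_comm, zpow_mul, zpow_natCast, ← hx, pow_orderOf_eq_one, one_zpow]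
  obtain ⟨P, hP⟩ := (hPz a.1 ha').exists_le_sylow
  obtain ⟨Q, hQ⟩ := (hPz b.1 hb').exists_le_sylow
  obtain ⟨g, rfl⟩ := MulAction.exists_smul_eq G P Q
  have hy : g * a.1 * g⁻¹ ∈ ((g • P : Sylow l G) : Subgroup G) := by
    have := Subgroup.smul_mem_pointwise_smul a.1 (MulAut.conj g) (P : Subgroup G) (hP (Subgroup.mem_zpowers _))
    exact this
  have hQcyc := hcyc l hl hl3 ((g • P : Sylow l G) : Subgroup G) (g • P).2
  have hbQ : b.1 ∈ ((g • P : Sylow l G) : Subgroup G) := hQ (Subgroup.mem_zpowers _)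
  have hordy : orderOf (g * a.1 * g⁻¹) = l := by
    rw [← ha']
    exact (MulAut.conj g).orderOf_eq a.1
  -- the two elements generate the same subgroup of a cyclic group
  have hsame : b.1 ∈ Subgroup.zpowers (g * a.1 * g⁻¹) := by
    set Q := ((g • P : Sylow l G) : Subgroup G) with hQdef
    have h1 := cyc_uniq (Subgroup.zpowers (⟨g * a.1 * g⁻¹, hy⟩ : ↥Q)) (Subgroup.zpowers (⟨b.1, hbQ⟩ : ↥Q)) (by
      rw [Nat.card_zpowers, Nat.card_zpowers, Subgroup.orderOf_mk, Subgroup.orderOf_mk, hordy, hb'])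
    have h2 : (⟨b.1, hbQ⟩ : ↥Q) ∈ Subgroup.zpowers (⟨g * a.1 * g⁻¹, hy⟩ : ↥Q) := by
      rw [h1]
      exact Subgroup.mem_zpowers _
    obtain ⟨j, hj⟩ := Subgroup.mem_zpowers_iff.mp h2
    exact Subgroup.mem_zpowers_iff.mpr ⟨j, by simpa using congrArg Subtype.val hj⟩
  refine ⟨g, ?_⟩
  set A' := A.map (MulAut.conj g).toMonoidHom with hA'
  have hA'cyc : IsCyclic A' := isCyclic_of_surjective _ (Subgroup.equivMapOfInjective A _ (MulAut.conj g).injective).surjective
  have hA'card : Nat.card A' = d := by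
    rw [hA', Subgroup.card_map_of_injective (MulAut.conj g).injective, hAd]
  have hyA' : g * a.1 * g⁻¹ ∈ A' := Subgroup.mem_map.mpr ⟨a.1, a.2, rfl⟩
  have hbA' : b.1 ∈ A' := (Subgroup.zpowers_le.mpr hyA') hsame
  have hbd : orderOf b.1 ∣ d := by rw [hb']; exact hld
  have hCb := hC b.1 (by rw [hb']; exact hl) hbd
  have hA'C : A' ≤ Subgroup.centralizer {b.1} := fun z hz =>
    Subgroup.mem_centralizer_singleton_iff.mpr (RD.RL.cyc_comm' hA'cyc hz hbA')
  have hBC : B ≤ Subgroup.centralizer {b.1} := fun z hz =>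
    Subgroup.mem_centralizer_singleton_iff.mpr (RD.RL.cyc_comm' hB hz b.2)
  let S : Subgroup G :=
    { carrier := {z | z ∈ Subgroup.centralizer {b.1} ∧ z ^ d = 1}
      mul_mem' := fun {x y} hx hy => ⟨Subgroup.mul_mem _ hx.1 hy.1, by
        have hc : Commute x y := hCb x hx.1 y hy.1
        rw [hc.mul_pow, hx.2, hy.2, one_mul]⟩
      one_mem' := ⟨Subgroup.one_mem _, one_pow _⟩
      inv_mem' := fun {x} hx => ⟨Subgroup.inv_mem _ hx.1, by rw [inv_pow, hx.2, inv_one]⟩ }
  have hA'S : A' ≤ S := fun z hz => ⟨hA'C hz, by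
    have := pow_card_eq_one' (x := (⟨z, hz⟩ : A'))
    rw [hA'card] at this
    exact congrArg Subtype.val this⟩
  have hBS : B ≤ S := fun z hz => ⟨hBC hz, by
    have := pow_card_eq_one' (x := (⟨z, hz⟩ : B))
    rw [hBd] at this
    exact congrArg Subtype.val this⟩
  haveI hZ : IsZGroup ↥S := ⟨fun p hp P' => by
    haveI : Fact p.Prime := ⟨hp⟩
    by_cases hpd : p ∣ d
    · have h1 := hcyc p hp (hd3 p hp hpd) (P'.1.map S.subtype) (P'.2.map _)
      exact (MulEquiv.isCyclic (Subgroup.equivMapOfInjective P'.1 _ S.subtype_injective)).mpr h1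
    · haveI : Subsingleton ↥(P' : Subgroup ↥S) := by
        constructor
        intro x x'
        have key : ∀ w : ↥(P' : Subgroup ↥S), w = 1 := by
          intro w
          obtain ⟨k, hk⟩ := P'.2 w
          have h2 : w ^ d = 1 := by
            apply Subtype.ext
            apply Subtype.ext
            exact w.1.2.2
          have hcop : Nat.Coprime (p ^ k) d := Nat.Coprime.pow_left _ ((Nat.Prime.coprime_iff_not_dvd hp).mpr hpd)
          have := pow_gcd_eq_one.mpr ⟨hk, h2⟩
          rw [hcop.gcd_eq_one, pow_one] at this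
          exact this
        rw [key x, key x']
      exact isCyclic_of_subsingleton⟩
  haveI : Group.IsNilpotent ↥S := by
    letI : CommGroup ↥S := { (inferInstance : Group ↥S) with
      mul_comm := fun x y => Subtype.ext (hCb x.1 x.2.1 y.1 y.2.1) }
    infer_instance
  have hScyc : IsCyclic ↥S := inferInstance
  have h1 : A'.subgroupOf S = B.subgroupOf S := by
    apply cyc_uniq
    rw [Nat.card_congr (Subgroup.subgroupOfEquivOfLe hA'S).toEquiv, Nat.card_congr (Subgroup.subgroupOfEquivOfLe hBS).toEquiv, hA'card, hBd]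
  rw [Subgroup.subgroupOf_inj, inf_eq_left.mpr hA'S, inf_eq_left.mpr hBS] at h1
  exact h1.symm

end Cfsg.Agent.Lib.Ree
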