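import Cfsg.Agent.Lib.Ree.CntQ2

/-! Classification of the elements of the small Ree groups by their orders. -/

set_option autoImplicit false
set_option linter.unusedSimpArgs false
set_option linter.unusedVariables false
set_option linter.unusedSectionVars false

namespace Cfsg.Agent.Lib.Ree

theorem card_cent_conj {G : Type*} [Group G] (c x : G) :
    Nat.card ↥(Subgroup.centralizer {c * x * c⁻¹}) = Nat.card ↥(Subgroup.centralizer {x}) := by
  symm
  apply Nat.card_congr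
  refine ⟨fun z => ⟨c * z.1 * c⁻¹, ?_⟩, fun z => ⟨c⁻¹ * z.1 * c, ?_⟩, ?_, ?_⟩
  · rw [mem_cent_conj]
    have e : c⁻¹ * (c * z.1 * c⁻¹) * c = z.1 := by group
    rw [e]
    exact z.2
  · exact (mem_cent_conj c x z.1).mp z.2
  · intro z
    apply Subtype.ext
    show c⁻¹ * (c * z.1 * c⁻¹) * c = z.1
    group
  · intro z
    apply Subtype.ext
    show c * (c⁻¹ * z.1 * c) * c⁻¹ = z.1
    group

theorem ncard_preimage_union {G : Type*} [Finite G] (F : G → ℕ) (D₁ D₂ : Set ℕ) (h : ∀ d, d ∈ D₁ → d ∉ D₂) :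
    {y | F y ∈ D₁ ∪ D₂}.ncard = {y | F y ∈ D₁}.ncard + {y | F y ∈ D₂}.ncard := by
  rw [← Set.ncard_union_eq _ (Set.toFinite _) (Set.toFinite _)]
  · rfl
  · rw [Set.disjoint_left]
    intro y h1 h2
    exact h _ h1 h2

/-- Orders of the elements of the third kind of torus. -/
def Dn (K : Type*) [Fintype K] : Set ℕ := {d | d ≠ 1 ∧ ∀ p : ℕ, p.Prime → p ∣ d → p ∣ nq K}

namespace Ctx

variable {K : Type*} [Field K] [CharP K 3] [Fintype K] {f : K ≃+* K} {G : Type*} [Group G] [Finite G] {R : RD K f G} (C : Ctx R)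

include C

theorem nq_eq : nq K = Fintype.card K * (Fintype.card K - 1) + 1 := by
  have h := C.hq
  unfold nq
  obtain ⟨r, hr⟩ : ∃ r, Fintype.card K = r + 1 := ⟨Fintype.card K - 1, by omega⟩
  rw [hr, Nat.add_sub_cancel]
  congr 1
  apply Nat.sub_eq_of_eq_add
  ring

theorem nq_eq2 : nq K = (Fintype.card K + 1) * (Fintype.card K - 2) + 3 := by
  have h := C.hq
  rw [C.nq_eq]
  obtain ⟨r, hr⟩ : ∃ r, Fintype.card K = r + 2 := ⟨Fintype.card K - 2, by omega⟩
  rw [hr]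
  have e : r + 2 - 1 = r + 1 := by omega
  rw [e, Nat.add_sub_cancel]
  ring

theorem nq_prime {l : ℕ} (hl : l.Prime) (h : l ∣ nq K) :
    l ≠ 2 ∧ l ≠ 3 ∧ ¬ l ∣ Fintype.card K ∧ ¬ l ∣ Fintype.card K - 1 ∧ ¬ l ∣ Fintype.card K + 1 := by
  have hn := C.nq_eq
  have h1 : ¬ l ∣ Fintype.card K := by
    intro h1
    rw [hn] at h
    have h2 := (Nat.dvd_add_right (h1.trans (dvd_mul_right _ _))).mp h
    exact hl.one_lt.ne' (Nat.dvd_one.mp h2)
  have h2 : ¬ l ∣ Fintype.card K - 1 := by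
    intro h1
    rw [hn] at h
    have h2 := (Nat.dvd_add_right (h1.trans (dvd_mul_left _ _))).mp h
    exact hl.one_lt.ne' (Nat.dvd_one.mp h2)
  have h3K := RD.RL.three_dvd_card (K := K)
  have h8 := C.hq8
  have hne3 : l ≠ 3 := by
    rintro rfl
    exact h1 h3K
  have hne2 : l ≠ 2 := by
    rintro rfl
    exact h2 (by omega)
  refine ⟨hne2, hne3, h1, h2, ?_⟩
  intro h3
  have h4 := C.nq_eq2
  rw [h4] at h
  have h5 := (Nat.dvd_add_right (h3.trans (dvd_mul_right _ _))).mp h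
  exact hne3 ((Nat.prime_dvd_prime_iff_eq hl Nat.prime_three).mp h5)

theorem prime_G {l : ℕ} (hl : l.Prime) (h : l ∣ Nat.card G) :
    l ∣ Fintype.card K ∨ l ∣ Fintype.card K - 1 ∨ l ∣ Fintype.card K + 1 ∨ l ∣ nq K := by
  rw [C.hGn] at h
  rcases (Nat.Prime.dvd_mul hl).mp h with h | h
  · exact Or.inr (Or.inr (Or.inl h))
  rcases (Nat.Prime.dvd_mul hl).mp h with h | h
  · exact Or.inr (Or.inr (Or.inr h))
  rcases (Nat.Prime.dvd_mul hl).mp h with h | h
  · exact Or.inl (hl.dvd_of_dvd_pow h)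
  · exact Or.inr (Or.inl h)

omit C in
theorem prime_dvd_q {l : ℕ} (hl : l.Prime) (h : l ∣ Fintype.card K) : l = 3 := by
  haveI : Fact (Nat.Prime 3) := ⟨Nat.prime_three⟩
  obtain ⟨n, -, hn⟩ := FiniteField.card K 3
  rw [hn] at h
  exact (Nat.prime_dvd_prime_iff_eq hl Nat.prime_three).mp (hl.dvd_of_dvd_pow h)

theorem cent_inv_card {t : G} (ht : orderOf t = 2) :
    Nat.card ↥(Subgroup.centralizer {t}) = Fintype.card K * ((Fintype.card K - 1) * (Fintype.card K + 1)) := by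
  have h1 : t * t = 1 := by
    rw [← pow_two, ← ht]
    exact pow_orderOf_eq_one t
  have h2 : t ≠ 1 := by
    rintro rfl
    simp at ht
  obtain ⟨c, hc⟩ := isConj_iff.mp (IsConj.symm (C.L.inv_conj C.hG C.hq C.hmod h1 h2))
  rw [← hc, card_cent_conj]
  exact RD.RL.card_Ca (R := R) C.hG C.hq

theorem not3_qm1 : ¬ 3 ∣ Fintype.card K - 1 := by
  have h3K := RD.RL.three_dvd_card (K := K)
  have h := C.hq
  omega

theorem not_dvd_both {d : ℕ} (h1 : d ∣ Fintype.card K - 1) (h2 : d ∣ wq K) : d = 1 := by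
  have h3 := C.hw
  have h4 : d ∣ Fintype.card K + 1 := by
    rw [h3]
    exact h2.trans (dvd_mul_left _ _)
  have h5 : d ∣ (Fintype.card K + 1) - (Fintype.card K - 1) := Nat.dvd_sub h4 h1
  have h6 : (Fintype.card K + 1) - (Fintype.card K - 1) = 2 := by
    have := C.hq
    omega
  rw [h6] at h5
  have h7 : Odd d := Odd.of_dvd_nat C.hw_odd h2
  have h8 := Nat.le_of_dvd (by norm_num) h5
  obtain ⟨k, hk⟩ := h7
  omega

/-- Elements of order divisible by three. -/
theorem classify_three {y : G} (H3 : 3 ∣ orderOf y) (H1 : ¬ ∃ l : ℕ, l.Prime ∧ l ≠ 2 ∧ l ∣ Fintype.card K - 1 ∧ l ∣ orderOf y) :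
    orderOf y = 3 ∨ orderOf y = 6 ∨ orderOf y = 9 := by
  obtain ⟨d, hd⟩ := R.exists_conj_B C.hG C.hq H3
  have hord : orderOf (d⁻¹ * y * d) = orderOf y := by
    have := ord_conj d⁻¹ y
    simpa using this
  have hB := hd
  obtain ⟨a, b, c, s, hx⟩ := hd
  set x := d⁻¹ * y * d with hxdef
  have hsord : orderOf s ∣ orderOf x := by
    have e1 : R.projH ⟨x, hB⟩ = s := R.projH_eq (x := ⟨x, hB⟩) hx
    rw [← e1]
    have := orderOf_map_dvd R.projH (⟨x, hB⟩ : R.B)
    rwa [Subgroup.orderOf_mk] at this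
  have hs2 : (s : K) ^ 2 = 1 := by
    by_contra hne
    have h1 : 2 < orderOf s := by
      by_contra hle
      have h0 := orderOf_pos s
      have h2 : s ^ 2 = 1 := by
        have : orderOf s = 1 ∨ orderOf s = 2 := by omega
        rcases this with h2 | h2
        · rw [orderOf_eq_one_iff.mp h2]
          simp
        · rw [← h2]
          exact pow_orderOf_eq_one s
      apply hne
      have := congrArg (fun u : Kˣ => (u : K)) h2
      simpa using this
    have h3 : orderOf s ∣ Fintype.card K - 1 := by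
      have := orderOf_dvd_natCard s
      rwa [Nat.card_units, Nat.card_eq_fintype_card] at this
    obtain ⟨l, hl, hl2, hls⟩ := odd_prime_of h1 h3 (by have := C.hq8; omega)
    exact H1 ⟨l, hl, hl2, hls.trans h3, by rw [← hord]; exact hls.trans hsord⟩
  rw [← hord] at H3 ⊢
  rcases RD.units_sq hs2 with rfl | rfl
  · have h1 : x ^ 9 = 1 := by
      rw [hx, map_one, mul_one]
      have e9 : (9 : ℕ) = 3 * 3 := by norm_num
      rw [e9, pow_mul, R.t_cube, R.t_cube]
      simp [R.t_zero]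
    have h2 := orderOf_dvd_of_pow_eq_one h1
    have aux : ∀ o : ℕ, 3 ∣ o → o ∣ 9 → o = 3 ∨ o = 6 ∨ o = 9 := by
      intro o h1 h2
      have := Nat.le_of_dvd (by norm_num) h2
      interval_cases o <;> omega
    exact aux _ H3 h2
  · have hsq := R.sq_h_neg a b c
    rw [← hx] at hsq
    have h1 : x ^ 6 = 1 := by
      have e6 : (6 : ℕ) = 2 * 3 := by norm_num
      rw [e6, pow_mul, pow_two, hsq, R.t_cube]
      simp [R.t_zero]
    have h2 := orderOf_dvd_of_pow_eq_one h1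
    have aux : ∀ o : ℕ, 3 ∣ o → o ∣ 6 → o = 3 ∨ o = 6 ∨ o = 9 := by
      intro o h1 h2
      have := Nat.le_of_dvd (by norm_num) h2
      interval_cases o <;> omega
    exact aux _ H3 h2

/-- Elements of even order. -/
theorem classify_two {y : G} (H2 : 2 ∣ orderOf y) (H3 : ¬ 3 ∣ orderOf y)
    (H1 : ¬ ∃ l : ℕ, l.Prime ∧ l ≠ 2 ∧ l ∣ Fintype.card K - 1 ∧ l ∣ orderOf y)
    (H4 : ¬ ∃ l : ℕ, l.Prime ∧ l ∣ wq K ∧ l ∣ orderOf y) : orderOf y = 2 := by
  have ht : orderOf (y ^ (orderOf y / 2)) = 2 := orderOf_pow_orderOf_div (orderOf_pos y).ne' H2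
  set t := y ^ (orderOf y / 2) with htd
  have hall : ∀ {l : ℕ}, l.Prime → l ∣ orderOf y → l = 2 := by
    intro l hl hly
    by_contra hl2
    have hz : orderOf (y ^ (orderOf y / l)) = l := orderOf_pow_orderOf_div (orderOf_pos y).ne' hly
    have hm : y ^ (orderOf y / l) ∈ Subgroup.centralizer {t} := by
      rw [Subgroup.mem_centralizer_singleton_iff, htd]
      exact (Commute.refl y).pow_pow _ _
    have hd := orderOf_dvd_natCard (⟨_, hm⟩ : Subgroup.centralizer {t})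
    rw [Subgroup.orderOf_mk, hz, C.cent_inv_card ht] at hd
    rcases (Nat.Prime.dvd_mul hl).mp hd with h | h
    · rw [prime_dvd_q hl h] at hly
      exact H3 hly
    rcases (Nat.Prime.dvd_mul hl).mp h with h | h
    · exact H1 ⟨l, hl, hl2, h, hly⟩
    · rw [C.hw] at h
      rcases (Nat.Prime.dvd_mul hl).mp h with h | h
      · exact hl2 ((Nat.prime_dvd_prime_iff_eq hl Nat.prime_two).mp (hl.dvd_of_dvd_pow (show l ∣ 2 ^ 2 from h)))
      · exact H4 ⟨l, hl, h, hly⟩
  have h1 := Nat.eq_prime_pow_of_unique_prime_dvd (orderOf_pos y).ne' (fun {d} hd hdy => hall hd hdy)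
  have h2 : y ^ (2 ^ (orderOf y).primeFactorsList.length) = 1 := by
    rw [← h1]
    exact pow_orderOf_eq_one y
  have h3 := C.L.two_elt_sq C.hmod h2
  have h4 : y ^ 2 = 1 := by rw [pow_two, h3]
  have h5 := orderOf_dvd_of_pow_eq_one h4
  exact Nat.dvd_antisymm h5 H2

/-- The classification of the elements by order. -/
theorem classify {x₀ : G} (hx : (orderOf x₀).Prime) (hd : orderOf x₀ ∣ wq K) (y : G) :
    orderOf y = 1 ∨ orderOf y = 2 ∨ orderOf y = 3 ∨ orderOf y = 6 ∨ orderOf y = 9 ∨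
      (2 < orderOf y ∧ orderOf y ∣ Fintype.card K - 1) ∨
      (1 < orderOf y ∧ orderOf y ∣ wq K) ∨
      (∃ i, (1 < i ∧ i ∣ wq K) ∧ orderOf y = 2 * i) ∨
      (orderOf y ≠ 1 ∧ ∀ p : ℕ, p.Prime → p ∣ orderOf y → p ∣ nq K) := by
  by_cases H1 : ∃ l : ℕ, l.Prime ∧ l ≠ 2 ∧ l ∣ Fintype.card K - 1 ∧ l ∣ orderOf y
  · obtain ⟨l, hl, hl2, hlq, hly⟩ := H1
    obtain ⟨g, s, hs⟩ := R.conj_torus C.hG C.hq hl hl2 hlq hly
    have e : orderOf y = orderOf s := by
      rw [← ord_conj g y, hs, RD.ord_h]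
    have h3 : orderOf s ∣ Fintype.card K - 1 := by
      have := orderOf_dvd_natCard s
      rwa [Nat.card_units, Nat.card_eq_fintype_card] at this
    have h4 : l ≤ orderOf y := Nat.le_of_dvd (orderOf_pos y) hly
    have h5 := hl.two_le
    right; right; right; right; right; left
    exact ⟨by omega, by rw [e]; exact h3⟩
  by_cases H4 : ∃ l : ℕ, l.Prime ∧ l ∣ wq K ∧ l ∣ orderOf y
  · obtain ⟨l, hl, hlw, hly⟩ := H4
    obtain ⟨g, hg⟩ := C.conj_into hx hd hl hlw hly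
    obtain ⟨hc, hA⟩ := C.x_cent hx hd
    obtain ⟨u, hu, v, hv, e⟩ := tors_split _ hA C.hw_odd (C.card_4w hx hd) (fun z _ hz => C.h4 hz) hg
    have e1 : orderOf y = orderOf u * orderOf v := by
      rw [← ord_conj g y, e, ord_mul_tors C.hw_odd hu hv]
    have h1 : orderOf u ∣ wq K := orderOf_dvd_of_pow_eq_one hu.2
    have h2 : orderOf v ∣ 2 := orderOf_dvd_of_pow_eq_one hv.2
    have hl3 := (C.prime_dvd hl hlw).1
    have h5 : l ∣ orderOf u := by
      rw [e1] at hly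
      rcases (Nat.Prime.dvd_mul hl).mp hly with h | h
      · exact h
      · exfalso
        have := (Nat.prime_dvd_prime_iff_eq hl Nat.prime_two).mp (h.trans h2)
        omega
    have h6 : 1 < orderOf u := by
      have := Nat.le_of_dvd (orderOf_pos u) h5
      omega
    have h7 : orderOf v = 1 ∨ orderOf v = 2 := by
      have := Nat.le_of_dvd (by norm_num) h2
      have := orderOf_pos v
      omega
    rcases h7 with h7 | h7
    · right; right; right; right; right; right; left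
      rw [e1, h7, mul_one]
      exact ⟨h6, h1⟩
    · right; right; right; right; right; right; right; left
      exact ⟨orderOf u, ⟨h6, h1⟩, by rw [e1, h7, mul_comm]⟩
  by_cases H3 : 3 ∣ orderOf y
  · rcases C.classify_three H3 H1 with h | h | h
    · exact Or.inr (Or.inr (Or.inl h))
    · exact Or.inr (Or.inr (Or.inr (Or.inl h)))
    · exact Or.inr (Or.inr (Or.inr (Or.inr (Or.inl h))))
  by_cases H2 : 2 ∣ orderOf y
  · exact Or.inr (Or.inl (C.classify_two H2 H3 H1 H4))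
  by_cases h1 : orderOf y = 1
  · exact Or.inl h1
  right; right; right; right; right; right; right; right
  refine ⟨h1, fun p hp hpy => ?_⟩
  have hG' : p ∣ Nat.card G := hpy.trans (orderOf_dvd_natCard y)
  rcases C.prime_G hp hG' with h | h | h | h
  · rw [prime_dvd_q hp h] at hpy
    exact absurd hpy H3
  · exact absurd ⟨p, hp, fun h2 => H2 (h2 ▸ hpy), h, hpy⟩ H1
  · rw [C.hw] at h
    rcases (Nat.Prime.dvd_mul hp).mp h with h | h
    · have e := (Nat.prime_dvd_prime_iff_eq hp Nat.prime_two).mp (hp.dvd_of_dvd_pow (show p ∣ 2 ^ 2 from h))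
      exact absurd (e ▸ hpy) H2
    · exact absurd ⟨p, hp, h, hpy⟩ H4
  · exact h

theorem card_inv : {y : G | orderOf y = 2}.ncard = Fintype.card K ^ 2 * (Fintype.card K * (Fintype.card K - 1) + 1) := by
  rw [← R.card_Cl C.hG C.hq]
  congr 1
  ext y
  constructor
  · intro h
    have h1 : y * y = 1 := by
      rw [← pow_two, ← (show orderOf y = 2 from h)]
      exact pow_orderOf_eq_one y
    have h2 : y ≠ 1 := by
      rintro rfl
      simp at h
    exact C.L.inv_conj C.hG C.hq C.hmod h1 h2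
  · intro h
    obtain ⟨c, hc⟩ := isConj_iff.mp (IsConj.symm h)
    show orderOf y = 2
    rw [← hc, ord_conj]
    apply orderOf_eq_prime (by rw [pow_two, RD.RL.a_sq])
    intro h1
    exact RD.unit_neg_one_ne_one (R.h_inj (by rw [h1, map_one]))

theorem card_T3 {x₀ : G} (hx : (orderOf x₀).Prime) (hd : orderOf x₀ ∣ wq K) (hxa : x₀ * R.h (-1) = R.h (-1) * x₀) :
    3 * {y : G | orderOf y ∈ Dn K}.ncard =
      Fintype.card K ^ 4 * (Fintype.card K ^ 2 - 1) * (Fintype.card K - 2) := by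
  classical
  have huniv : {y : G | orderOf y ∈ (((((((((({1} : Set ℕ) ∪ {2}) ∪ {3}) ∪ {6}) ∪ {9}) ∪ {d | 2 < d ∧ d ∣ Fintype.card K - 1}) ∪ {d | 1 < d ∧ d ∣ wq K}) ∪
      {d | ∃ i, (1 < i ∧ i ∣ wq K) ∧ d = 2 * i}) ∪ Dn K))} = Set.univ := by
    ext y
    simp only [Set.mem_setOf_eq, Set.mem_union, Set.mem_singleton_iff, Set.mem_univ, iff_true]
    rcases C.classify hx hd y with h | h | h | h | h | h | h | h | h
    · exact Or.inl (Or.inl (Or.inl (Or.inl (Or.inl (Or.inl (Or.inl (Or.inl h)))))))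
    · exact Or.inl (Or.inl (Or.inl (Or.inl (Or.inl (Or.inl (Or.inl (Or.inr h)))))))
    · exact Or.inl (Or.inl (Or.inl (Or.inl (Or.inl (Or.inl (Or.inr h))))))
    · exact Or.inl (Or.inl (Or.inl (Or.inl (Or.inl (Or.inr h)))))
    · exact Or.inl (Or.inl (Or.inl (Or.inl (Or.inr h))))
    · exact Or.inl (Or.inl (Or.inl (Or.inr h)))
    · exact Or.inl (Or.inl (Or.inr h))
    · exact Or.inl (Or.inr h)
    · exact Or.inr h
  have hsum := congrArg Set.ncard huniv
  rw [Set.ncard_univ] at hsum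
  have h3 := C.not3_qm1
  have hodd := C.hw_odd
  have h3w := C.hw3
  have hn3 : ¬ 3 ∣ nq K := fun h => (C.nq_prime Nat.prime_three h).2.1 rfl
  have hn2 : ¬ 2 ∣ nq K := fun h => (C.nq_prime Nat.prime_two h).1 rfl
  have hw2 : ¬ 2 ∣ wq K := by
    obtain ⟨k, hk⟩ := hodd
    omega
  have d1 : ∀ d, d ∈ ({1} : Set ℕ) → d ∉ ({2} : Set ℕ) := by
    rintro d rfl h
    simp at h
  have d2 : ∀ d, d ∈ ({1} : Set ℕ) ∪ {2} → d ∉ ({3} : Set ℕ) := by
    intro d h h'
    simp only [Set.mem_union, Set.mem_singleton_iff] at h h'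
    omega
  have d3 : ∀ d, d ∈ (({1} : Set ℕ) ∪ {2}) ∪ {3} → d ∉ ({6} : Set ℕ) := by
    intro d h h'
    simp only [Set.mem_union, Set.mem_singleton_iff] at h h'
    omega
  have d4 : ∀ d, d ∈ ((({1} : Set ℕ) ∪ {2}) ∪ {3}) ∪ {6} → d ∉ ({9} : Set ℕ) := by
    intro d h h'
    simp only [Set.mem_union, Set.mem_singleton_iff] at h h'
    omega
  have hsm : ∀ d, d ∈ (((({1} : Set ℕ) ∪ {2}) ∪ {3}) ∪ {6}) ∪ {9} → d = 1 ∨ d = 2 ∨ d = 3 ∨ d = 6 ∨ d = 9 := by
    intro d h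
    simp only [Set.mem_union, Set.mem_singleton_iff] at h
    omega
  have d5 : ∀ d, d ∈ (((({1} : Set ℕ) ∪ {2}) ∪ {3}) ∪ {6}) ∪ {9} → d ∉ {d | 2 < d ∧ d ∣ Fintype.card K - 1} := by
    rintro d h ⟨h1, h2⟩
    rcases hsm d h with rfl | rfl | rfl | rfl | rfl
    · omega
    · omega
    · exact h3 h2
    · exact h3 ((by norm_num : 3 ∣ 6).trans h2)
    · exact h3 ((by norm_num : 3 ∣ 9).trans h2)
  have d6 : ∀ d, d ∈ ((((({1} : Set ℕ) ∪ {2}) ∪ {3}) ∪ {6}) ∪ {9}) ∪ {d | 2 < d ∧ d ∣ Fintype.card K - 1} → d ∉ {d | 1 < d ∧ d ∣ wq K} := by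
    rintro d (h | ⟨h1, h2⟩) ⟨h3', h4⟩
    · rcases hsm d h with rfl | rfl | rfl | rfl | rfl
      · omega
      · exact hw2 h4
      · exact h3w h4
      · exact h3w ((by norm_num : 3 ∣ 6).trans h4)
      · exact h3w ((by norm_num : 3 ∣ 9).trans h4)
    · have := C.not_dvd_both h2 h4
      omega
  have d7 : ∀ d, d ∈ (((((({1} : Set ℕ) ∪ {2}) ∪ {3}) ∪ {6}) ∪ {9}) ∪ {d | 2 < d ∧ d ∣ Fintype.card K - 1}) ∪ {d | 1 < d ∧ d ∣ wq K} →
      d ∉ {d | ∃ i, (1 < i ∧ i ∣ wq K) ∧ d = 2 * i} := by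
    rintro d ((h | ⟨h1, h2⟩) | ⟨h1, h2⟩) ⟨i, ⟨hi1, hi2⟩, rfl⟩
    · rcases hsm _ h with h | h | h | h | h
      · omega
      · omega
      · omega
      · have : i = 3 := by omega
        subst this
        exact h3w hi2
      · omega
    · have := C.not_dvd_both ((dvd_mul_left i 2).trans h2) hi2
      omega
    · exact hw2 ((dvd_mul_right 2 i).trans h2)
  have d8 : ∀ d, d ∈ ((((((({1} : Set ℕ) ∪ {2}) ∪ {3}) ∪ {6}) ∪ {9}) ∪ {d | 2 < d ∧ d ∣ Fintype.card K - 1}) ∪ {d | 1 < d ∧ d ∣ wq K}) ∪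
      {d | ∃ i, (1 < i ∧ i ∣ wq K) ∧ d = 2 * i} → d ∉ Dn K := by
    rintro d (((h | ⟨h1, h2⟩) | ⟨h1, h2⟩) | ⟨i, ⟨hi1, hi2⟩, rfl⟩) ⟨hne, hp⟩
    · rcases hsm _ h with rfl | rfl | rfl | rfl | rfl
      · exact hne rfl
      · exact hn2 (hp 2 Nat.prime_two (dvd_refl _))
      · exact hn3 (hp 3 Nat.prime_three (dvd_refl _))
      · exact hn3 (hp 3 Nat.prime_three (by norm_num))
      · exact hn3 (hp 3 Nat.prime_three (by norm_num))
    · obtain ⟨p, hp1, hp2⟩ := Nat.exists_prime_and_dvd hne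
      exact (C.nq_prime hp1 (hp p hp1 hp2)).2.2.2.1 (hp2.trans h2)
    · obtain ⟨p, hp1, hp2⟩ := Nat.exists_prime_and_dvd hne
      apply (C.nq_prime hp1 (hp p hp1 hp2)).2.2.2.2
      rw [C.hw]
      exact (hp2.trans h2).trans (dvd_mul_left _ _)
    · exact hn2 (hp 2 Nat.prime_two (dvd_mul_right _ _))
  rw [ncard_preimage_union orderOf _ _ d8, ncard_preimage_union orderOf _ _ d7, ncard_preimage_union orderOf _ _ d6,
    ncard_preimage_union orderOf _ _ d5, ncard_preimage_union orderOf _ _ d4, ncard_preimage_union orderOf _ _ d3,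
    ncard_preimage_union orderOf _ _ d2, ncard_preimage_union orderOf _ _ d1] at hsum
  simp only [Set.mem_singleton_iff, Set.mem_setOf_eq] at hsum
  have hq := C.hq
  have e1 : {y : G | orderOf y = 1}.ncard = 1 := by
    have : {y : G | orderOf y = 1} = {1} := by
      ext y
      simp
    rw [this, Set.ncard_singleton]
  rw [e1, C.card_inv, R.count_three_type C.hG hq (k := 3) (dvd_refl 3), R.count_three_type C.hG hq (k := 6) (by norm_num),
    R.count_three_type C.hG hq (k := 9) (by norm_num), R.ncard_B3 hq, R.ncard_B6 hq, R.ncard_B9 hq, C.hG] at hsum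
  have hb := R.count_sp_all C.hG hq C.hq8
  have hc := C.count_all hx hd hxa
  have he := C.count_two_all hx hd hxa
  set cb := {y : G | 2 < orderOf y ∧ orderOf y ∣ Fintype.card K - 1}.ncard with hcb
  set cc := {y : G | 1 < orderOf y ∧ orderOf y ∣ wq K}.ncard with hcc
  set ce := {y : G | ∃ i, (1 < i ∧ i ∣ wq K) ∧ orderOf y = 2 * i}.ncard with hce
  set cf := {y : G | orderOf y ∈ Dn K}.ncard with hcf
  rw [C.nq_eq] at hc he
  obtain ⟨s, hs⟩ : ∃ s, wq K = s + 1 := ⟨wq K - 1, by have := C.hw7; omega⟩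
  have hqs : Fintype.card K = 4 * s + 3 := by
    have := C.hw
    omega
  rw [hs] at hc he
  rw [hqs] at hsum hb hc he ⊢
  have e2 : 4 * s + 3 - 1 = 4 * s + 2 := by omega
  have e3 : 4 * s + 3 - 3 = 4 * s := by omega
  have e4 : 4 * s + 3 - 2 = 4 * s + 1 := by omega
  have e5 : (4 * s + 3) ^ 2 - 1 = 16 * s ^ 2 + 24 * s + 8 := by
    apply Nat.sub_eq_of_eq_add
    ring
  rw [e2, e5] at hsum
  rw [e3] at hb
  rw [e2] at hc he
  rw [e4, e5]
  simp only [Nat.add_sub_cancel] at hc he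
  linarith

end Ctx

end Cfsg.Agent.Lib.Ree
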