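import Cfsg.Agent.Lib.Ree.CentY

/-! Counting elements of the small Ree groups: general lemmas, the elements of order `3`, `6`, `9`. -/

set_option autoImplicit false
set_option linter.unusedSimpArgs false
set_option linter.unusedVariables false
set_option linter.unusedSectionVars false

namespace Cfsg.Agent.Lib.Ree

section General

variable {G : Type*} [Group G]

/-- The union of the conjugates of a set. -/
def conjU (S : Set G) : Set G := {y | ∃ g, g * y * g⁻¹ ∈ S}

theorem TI_count [Finite G] (S : Set G) (N : Subgroup G)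
    (hN : ∀ g ∈ N, ∀ x ∈ S, g * x * g⁻¹ ∈ S)
    (hTI : ∀ x ∈ S, ∀ g, g * x * g⁻¹ ∈ S → g ∈ N) :
    Nat.card N * (conjU S).ncard = Nat.card G * S.ncard := by
  classical
  have hc : ∀ y : conjU S, ∃ g, g * y.1 * g⁻¹ ∈ S := fun y => y.2
  choose g₀ hg₀ using hc
  let F : conjU S × N → G × S := fun p =>
    (p.2.1 * g₀ p.1, ⟨p.2.1 * (g₀ p.1 * p.1.1 * (g₀ p.1)⁻¹) * p.2.1⁻¹, hN _ p.2.2 _ (hg₀ p.1)⟩)
  have hF : Function.Bijective F := by
    constructor
    · rintro ⟨y, m⟩ ⟨y', m'⟩ h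
      have h1 : m.1 * g₀ y = m'.1 * g₀ y' := congrArg Prod.fst h
      have h2 : m.1 * (g₀ y * y.1 * (g₀ y)⁻¹) * m.1⁻¹ = m'.1 * (g₀ y' * y'.1 * (g₀ y')⁻¹) * m'.1⁻¹ :=
        congrArg (fun p : G × S => p.2.1) h
      have h3 : y = y' := by
        apply Subtype.ext
        have e1 : y.1 = (m.1 * g₀ y)⁻¹ * (m.1 * (g₀ y * y.1 * (g₀ y)⁻¹) * m.1⁻¹) * (m.1 * g₀ y) := by group
        have e2 : y'.1 = (m'.1 * g₀ y')⁻¹ * (m'.1 * (g₀ y' * y'.1 * (g₀ y')⁻¹) * m'.1⁻¹) * (m'.1 * g₀ y') := by group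
        rw [e1, e2, h1, h2]
      subst h3
      have h4 : m = m' := Subtype.ext (mul_right_cancel h1)
      rw [h4]
    · rintro ⟨g, x⟩
      have hy : g⁻¹ * x.1 * g ∈ conjU S := ⟨g, by
        have : g * (g⁻¹ * x.1 * g) * g⁻¹ = x.1 := by group
        rw [this]; exact x.2⟩
      set y : conjU S := ⟨_, hy⟩ with hydef
      have hyv : y.1 = g⁻¹ * x.1 * g := rfl
      have hm : g * (g₀ y)⁻¹ ∈ N := by
        apply hTI _ (hg₀ y)
        have : g * (g₀ y)⁻¹ * (g₀ y * y.1 * (g₀ y)⁻¹) * (g * (g₀ y)⁻¹)⁻¹ = x.1 := by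
          rw [hyv]; group
        rw [this]; exact x.2
      refine ⟨(y, ⟨_, hm⟩), ?_⟩
      apply Prod.ext
      · show g * (g₀ y)⁻¹ * g₀ y = g
        group
      · apply Subtype.ext
        show g * (g₀ y)⁻¹ * (g₀ y * y.1 * (g₀ y)⁻¹) * (g * (g₀ y)⁻¹)⁻¹ = x.1
        rw [hyv]; group
  have h := Nat.card_congr (Equiv.ofBijective F hF)
  rw [Nat.card_prod, Nat.card_prod, Nat.card_coe_set_eq, Nat.card_coe_set_eq] at h
  rw [mul_comm, h]

theorem ord_conj (g x : G) : orderOf (g * x * g⁻¹) = orderOf x := (MulAut.conj g).orderOf_eq x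

theorem count_by_order [Finite G] (A : Set G) (N : Subgroup G) (D : Set ℕ)
    (h1 : ∀ g ∈ N, ∀ x ∈ A, orderOf x ∈ D → g * x * g⁻¹ ∈ A)
    (h2 : ∀ x ∈ A, orderOf x ∈ D → ∀ g, g * x * g⁻¹ ∈ A → g ∈ N)
    (h3 : ∀ y, orderOf y ∈ D → ∃ g, g * y * g⁻¹ ∈ A) :
    Nat.card N * {y : G | orderOf y ∈ D}.ncard = Nat.card G * {x | x ∈ A ∧ orderOf x ∈ D}.ncard := by
  have h := TI_count {x | x ∈ A ∧ orderOf x ∈ D} N
    (fun g hg x hx => ⟨h1 g hg x hx.1 hx.2, by rw [ord_conj]; exact hx.2⟩)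
    (fun x hx g hg => h2 x hx.1 hx.2 g hg.1)
  have e : conjU {x | x ∈ A ∧ orderOf x ∈ D} = {y : G | orderOf y ∈ D} := by
    ext y
    constructor
    · rintro ⟨g, hg, hg2⟩
      rwa [ord_conj] at hg2
    · intro hy
      obtain ⟨g, hg⟩ := h3 y hy
      exact ⟨g, hg, by rwa [ord_conj]⟩
  rw [e] at h
  exact h

end General

namespace RD

variable {K : Type*} [Field K] [CharP K 3] {f : K ≃+* K} {G : Type*} [Group G] (R : RD K f G)

/-- The square of a general element of the coset of `a`. -/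
theorem sq_h_neg (a b c : K) : (R.t a b c * R.h (-1)) * (R.t a b c * R.h (-1)) =
    R.t 0 (2 * b + a * tau f a) (a * b + 2 * a ^ 2 * tau f a) := by
  have e0 : R.h (-1) * R.t a b c * (R.h (-1))⁻¹ = R.t (-a) b (-c) := by
    rw [R.h_t]
    congr 1
    · simp; ring
    · simp; ring
    · simp; ring
  have e1 : R.h (-1) * R.h (-1) = 1 := by rw [← map_mul]; simp
  have e2 : (R.t a b c * R.h (-1)) * (R.t a b c * R.h (-1)) =
      R.t a b c * (R.h (-1) * R.t a b c * (R.h (-1))⁻¹) * (R.h (-1) * R.h (-1)) := by group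
  rw [e2, e1, mul_one, e0, R.t_mul]
  simp only [map_neg, tau]
  congr 1
  · ring
  · ring
  · ring

theorem sq_h_neg_eq_one_iff (a b c : K) : (R.t a b c * R.h (-1)) * (R.t a b c * R.h (-1)) = 1 ↔ b = a * tau f a := by
  have h3 := three_K (K := K)
  rw [sq_h_neg]
  constructor
  · intro h
    obtain ⟨-, e1, -⟩ := R.t_eq_one h
    linear_combination b * h3 - e1
  · intro h
    subst h
    rw [← R.t_zero]
    congr 1
    · linear_combination a * tau f a * h3
    · linear_combination a ^ 2 * tau f a * h3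

variable [Fintype K]

theorem mem_U_of_pow {v : G} (hv : v ∈ R.B) {m : ℕ} (h3 : v ^ m = 1) (hcop : Nat.Coprime m (Fintype.card K - 1)) : v ∈ R.U := by
  have h1 : R.projH ⟨v, hv⟩ ^ m = 1 := by
    rw [← map_pow]
    have : (⟨v, hv⟩ : ↥R.B) ^ m = 1 := Subtype.ext (by simpa using h3)
    rw [this, map_one]
  have h2 : R.projH ⟨v, hv⟩ ^ (Fintype.card K - 1) = 1 := by
    apply Units.ext
    rw [Units.val_pow_eq_pow_val, Units.val_one]
    exact FiniteField.pow_card_sub_one_eq_one _ (Units.ne_zero _)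
  have h4 := pow_gcd_eq_one.mpr ⟨h1, h2⟩
  rw [hcop.gcd_eq_one, pow_one] at h4
  exact R.ker_projH h4

theorem coprime3 (hq : 2 ≤ Fintype.card K) : Nat.Coprime 3 (Fintype.card K - 1) := by
  rw [Nat.Prime.coprime_iff_not_dvd Nat.prime_three]
  intro h
  have h4 := RD.RL.three_dvd_card (K := K)
  have h5 : 3 ∣ Fintype.card K - (Fintype.card K - 1) := Nat.dvd_sub h4 h
  have e : Fintype.card K - (Fintype.card K - 1) = 1 := by omega
  rw [e] at h5
  omega

variable [Finite G]

theorem conj_U_of_ord3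
    (hG : Nat.card G = (1 + Fintype.card K ^ 3) * (Fintype.card K ^ 3 * (Fintype.card K - 1)))
    (hq : 2 ≤ Fintype.card K) {u : G} (hu : orderOf u = 3) : ∃ d, d⁻¹ * u * d ∈ R.U := by
  haveI : Fact (Nat.Prime 3) := ⟨Nat.prime_three⟩
  have hu3 : u ^ 3 = 1 := by rw [← hu]; exact pow_orderOf_eq_one u
  have hP : IsPGroup 3 ↥(Subgroup.zpowers u) := by
    rintro ⟨w, i, rfl⟩
    refine ⟨1, Subtype.ext ?_⟩
    show (u ^ i) ^ (3 ^ 1) = 1
    rw [← zpow_natCast, ← _root_.zpow_mul, mul_comm, _root_.zpow_mul]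
    have : u ^ ((3 ^ 1 : ℕ) : ℤ) = 1 := by
      rw [zpow_natCast, pow_one, hu3]
    rw [this, _root_.one_zpow]
  have hidx := R.index_B hG hq
  have hnd : ¬ 3 ∣ Nat.card (G ⧸ R.B) := by
    rw [hidx]
    intro h
    have h4 := RD.RL.three_dvd_card (K := K)
    have h5 : 3 ∣ Fintype.card K ^ 3 := h4.trans (dvd_pow_self _ (by norm_num))
    have h6 := (Nat.dvd_add_right h5).mp (by rwa [add_comm] at h)
    omega
  obtain ⟨y, hy⟩ := hP.nonempty_fixed_point_of_prime_not_dvd_card (G ⧸ R.B) hnd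
  obtain ⟨d, rfl⟩ := QuotientGroup.mk_surjective y
  have hv : d⁻¹ * u * d ∈ R.B := by
    rw [← R.mem_stab]
    exact hy ⟨u, Subgroup.mem_zpowers u⟩
  have hv3 : (d⁻¹ * u * d) ^ 3 = 1 := by
    have := conj_pow (a := d⁻¹) (b := u) (i := 3)
    simp only [inv_inv] at this
    rw [this, hu3]
    group
  exact ⟨d, RD.RL.mem_U_of_cube R hv hv3 hq⟩

/-- Every element whose order is divisible by three is conjugate into `B`. -/
theorem exists_conj_B
    (hG : Nat.card G = (1 + Fintype.card K ^ 3) * (Fintype.card K ^ 3 * (Fintype.card K - 1)))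
    (hq : 2 ≤ Fintype.card K) {y : G} (hy : 3 ∣ orderOf y) : ∃ d, d⁻¹ * y * d ∈ R.B := by
  have hu3 : orderOf (y ^ (orderOf y / 3)) = 3 := orderOf_pow_orderOf_div (orderOf_pos y).ne' hy
  obtain ⟨d, hd⟩ := R.conj_U_of_ord3 hG hq hu3
  refine ⟨d, ?_⟩
  set u := y ^ (orderOf y / 3) with hu
  have hne : d⁻¹ * u * d ≠ 1 := by
    intro h
    have h1 : u = 1 := by
      have e : u = d * (d⁻¹ * u * d) * d⁻¹ := by group
      rw [e, h]
      group
    rw [h1, orderOf_one] at hu3
    omega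
  apply RD.RL.U_fix_unique R hd hne
  have hcomm : y * u = u * y := by
    rw [hu]
    exact (Commute.pow_right (Commute.refl y) _)
  have e : (d⁻¹ * y * d)⁻¹ * (d⁻¹ * u * d) * (d⁻¹ * y * d) = d⁻¹ * (y⁻¹ * (u * y)) * d := by group
  rw [e, ← hcomm]
  have e2 : y⁻¹ * (y * u) = u := by group
  rw [e2]
  exact R.U_le_B hd

/-- A trivial intersection property. -/
theorem TI_B (hq : 2 ≤ Fintype.card K) {x g : G} (hx : x ∈ R.B) (h3 : 3 ∣ orderOf x) (hg : g * x * g⁻¹ ∈ R.B) : g ∈ R.B := by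
  have hu3 : orderOf (x ^ (orderOf x / 3)) = 3 := orderOf_pow_orderOf_div (orderOf_pos x).ne' h3
  set u := x ^ (orderOf x / 3) with hu
  have hcube : ∀ z : G, orderOf z = 3 → z ^ 3 = 1 := fun z hz => by rw [← hz]; exact pow_orderOf_eq_one z
  have hub : u ∈ R.B := Subgroup.pow_mem _ hx _
  have hv : g * u * g⁻¹ = (g * x * g⁻¹) ^ (orderOf x / 3) := by
    rw [hu, conj_pow]
  have hvb : g * u * g⁻¹ ∈ R.B := by
    rw [hv]
    exact Subgroup.pow_mem _ hg _
  have hvo : orderOf (g * u * g⁻¹) = 3 := by rw [ord_conj, hu3]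
  have hvU := RD.RL.mem_U_of_cube R hvb (hcube _ hvo) hq
  have hne : g * u * g⁻¹ ≠ 1 := by
    intro h
    rw [h, orderOf_one] at hvo
    omega
  apply RD.RL.U_fix_unique R hvU hne
  have e : g⁻¹ * (g * u * g⁻¹) * g = u := by group
  rw [e]
  exact hub

theorem count_three_type
    (hG : Nat.card G = (1 + Fintype.card K ^ 3) * (Fintype.card K ^ 3 * (Fintype.card K - 1)))
    (hq : 2 ≤ Fintype.card K) {k : ℕ} (hk : 3 ∣ k) :
    {y : G | orderOf y = k}.ncard = (1 + Fintype.card K ^ 3) * {x | x ∈ R.B ∧ orderOf x = k}.ncard := by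
  have h := count_by_order (R.B : Set G) R.B {k}
    (fun g hg x hx _ => Subgroup.mul_mem _ (Subgroup.mul_mem _ hg hx) (Subgroup.inv_mem _ hg))
    (fun x hx hk' g hg => R.TI_B hq hx (by rw [Set.mem_singleton_iff.mp hk']; exact hk) hg)
    (fun y hy => by
      obtain ⟨d, hd⟩ := R.exists_conj_B hG hq (y := y) (by rw [Set.mem_singleton_iff.mp hy]; exact hk)
      exact ⟨d⁻¹, by simpa using hd⟩)
  simp only [Set.mem_singleton_iff, SetLike.mem_coe] at h
  rw [R.card_B, hG] at h
  have hpos : 0 < Fintype.card K ^ 3 * (Fintype.card K - 1) := by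
    have : 0 < Fintype.card K - 1 := by omega
    positivity
  apply Nat.eq_of_mul_eq_mul_left hpos
  rw [h]
  ring

theorem ncard_B3 (hq : 2 ≤ Fintype.card K) :
    {x | x ∈ R.B ∧ orderOf x = 3}.ncard = Fintype.card K ^ 2 - 1 := by
  classical
  haveI : Fact (Nat.Prime 3) := ⟨Nat.prime_three⟩
  have e : {x | x ∈ R.B ∧ orderOf x = 3} = (fun p : K × K => R.t 0 p.1 p.2) '' {(0, 0)}ᶜ := by
    ext x
    constructor
    · rintro ⟨hx, hx3⟩
      have h1 : x ^ 3 = 1 := by rw [← hx3]; exact pow_orderOf_eq_one x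
      obtain ⟨a, b, c, rfl⟩ := RD.RL.mem_U_of_cube R hx h1 hq
      rw [R.t_cube] at h1
      obtain ⟨-, -, h2⟩ := R.t_eq_one h1
      have ha : a = 0 := a_eq_zero_of (neg_eq_zero.mp h2)
      subst ha
      refine ⟨(b, c), ?_, rfl⟩
      intro h
      have hb : (b, c) = (0, 0) := h
      obtain ⟨rfl, rfl⟩ := Prod.mk.inj hb
      rw [R.t_zero, orderOf_one] at hx3
      omega
    · rintro ⟨⟨b, c⟩, hp, rfl⟩
      refine ⟨R.t_mem_B _ _ _, orderOf_eq_prime ?_ ?_⟩
      · show R.t 0 b c ^ 3 = 1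
        rw [R.t_cube]
        simp [R.t_zero]
      · intro h
        obtain ⟨-, rfl, rfl⟩ := R.t_eq_one h
        exact hp rfl
  rw [e, Set.ncard_image_of_injective]
  · have h1 := Set.ncard_add_ncard_compl ({(0, 0)} : Set (K × K)) (Set.toFinite _) (Set.toFinite _)
    rw [Set.ncard_singleton, Nat.card_prod, Nat.card_eq_fintype_card] at h1
    have : Fintype.card K ^ 2 = Fintype.card K * Fintype.card K := by ring
    omega
  · rintro ⟨b, c⟩ ⟨b', c'⟩ h
    obtain ⟨-, rfl, rfl⟩ := R.t_inj h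
    rfl

theorem ncard_B9 (hq : 2 ≤ Fintype.card K) :
    {x | x ∈ R.B ∧ orderOf x = 9}.ncard = Fintype.card K ^ 2 * (Fintype.card K - 1) := by
  classical
  haveI : Fact (Nat.Prime 3) := ⟨Nat.prime_three⟩
  have e : {x | x ∈ R.B ∧ orderOf x = 9} = Set.range (fun p : Kˣ × K × K => R.t p.1 p.2.1 p.2.2) := by
    ext x
    constructor
    · rintro ⟨hx, hx9⟩
      have h1 : x ^ 9 = 1 := by rw [← hx9]; exact pow_orderOf_eq_one x
      have hc : Nat.Coprime 9 (Fintype.card K - 1) := Nat.Coprime.pow_left 2 (coprime3 hq)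
      obtain ⟨a, b, c, rfl⟩ := R.mem_U_of_pow hx h1 hc
      have ha : a ≠ 0 := by
        rintro rfl
        have h2 : R.t 0 b c ^ 3 = 1 := by
          rw [R.t_cube]
          simp [R.t_zero]
        have h3 := orderOf_dvd_of_pow_eq_one h2
        rw [hx9] at h3
        omega
      exact ⟨(Units.mk0 a ha, b, c), rfl⟩
    · rintro ⟨⟨a, b, c⟩, rfl⟩
      refine ⟨R.t_mem_B _ _ _, ?_⟩
      have := orderOf_eq_prime_pow (p := 3) (n := 1) (x := R.t (a : K) b c) ?_ ?_
      · simpa using this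
      · rw [pow_one, R.t_cube]
        intro h
        obtain ⟨-, -, h2⟩ := R.t_eq_one h
        exact a.ne_zero (a_eq_zero_of (neg_eq_zero.mp h2))
      · have e9 : (3 : ℕ) ^ (1 + 1) = 3 * 3 := by norm_num
        rw [e9, pow_mul, R.t_cube, R.t_cube]
        simp [R.t_zero]
  rw [e, ← Set.image_univ, Set.ncard_image_of_injective, Set.ncard_univ, Nat.card_prod, Nat.card_prod, Nat.card_units,
    Nat.card_eq_fintype_card]
  · ring
  · rintro ⟨a, b, c⟩ ⟨a', b', c'⟩ h
    obtain ⟨h1, rfl, rfl⟩ := R.t_inj h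
    have h2 : a = a' := Units.ext h1
    rw [h2]

theorem ncard_B6 (hq : 2 ≤ Fintype.card K) :
    {x | x ∈ R.B ∧ orderOf x = 6}.ncard = Fintype.card K ^ 2 * (Fintype.card K - 1) := by
  classical
  haveI : Fact (Nat.Prime 3) := ⟨Nat.prime_three⟩
  have h3K := three_K (K := K)
  have e : {x | x ∈ R.B ∧ orderOf x = 6} =
      Set.range (fun p : K × Kˣ × K => R.t p.1 ((p.2.1 : K) + p.1 * tau f p.1) p.2.2 * R.h (-1)) := by
    ext x
    constructor
    · rintro ⟨hx, hx6⟩
      have h1 : x ^ 6 = 1 := by rw [← hx6]; exact pow_orderOf_eq_one x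
      obtain ⟨a, b, c, s, rfl⟩ := hx
      set x := R.t a b c * R.h s with hx
      have hxB : x ∈ R.B := ⟨a, b, c, s, rfl⟩
      -- the torus part
      have hs6 : s ^ 6 = 1 := by
        have e1 : R.projH ⟨x, hxB⟩ = s := R.projH_eq (x := ⟨x, hxB⟩) (a := a) (b := b) (c := c) rfl
        rw [← e1, ← map_pow]
        have : (⟨x, hxB⟩ : ↥R.B) ^ 6 = 1 := Subtype.ext (by simpa using h1)
        rw [this, map_one]
      have hsq1 : s ^ (Fintype.card K - 1) = 1 := by
        apply Units.ext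
        rw [Units.val_pow_eq_pow_val, Units.val_one]
        exact FiniteField.pow_card_sub_one_eq_one _ (Units.ne_zero _)
      have hs2 : s ^ 2 = 1 := by
        have h4 := pow_gcd_eq_one.mpr ⟨hs6, hsq1⟩
        have hd : Nat.gcd 6 (Fintype.card K - 1) ∣ 2 := by
          have e6 : (6 : ℕ) = 2 * 3 := by norm_num
          rw [e6, Nat.Coprime.gcd_mul_right_cancel _ (coprime3 hq)]
          exact Nat.gcd_dvd_left _ _
        obtain ⟨k, hk⟩ := hd
        rw [hk, pow_mul, h4, one_pow]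
      have hs2' : (s : K) ^ 2 = 1 := by
        have := congrArg (fun u : Kˣ => (u : K)) hs2
        simpa using this
      rcases units_sq hs2' with rfl | rfl
      · exfalso
        have hxU : x = R.t a b c := by rw [hx, map_one, mul_one]
        have h2 : x ^ 9 = 1 := by
          rw [hxU]
          have e9 : (9 : ℕ) = 3 * 3 := by norm_num
          rw [e9, pow_mul, R.t_cube, R.t_cube]
          simp [R.t_zero]
        have h3 := orderOf_dvd_of_pow_eq_one h2
        rw [hx6] at h3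
        omega
      · have hb : b - a * tau f a ≠ 0 := by
          intro hb
          have h2 : x * x = 1 := (R.sq_h_neg_eq_one_iff a b c).mpr (by linear_combination hb)
          have h3 : x ^ 2 = 1 := by rw [pow_two, h2]
          have h4 := orderOf_dvd_of_pow_eq_one h3
          rw [hx6] at h4
          omega
        refine ⟨(a, Units.mk0 _ hb, c), ?_⟩
        simp only [Units.val_mk0]
        rw [hx]
        congr 2
        ring
    · rintro ⟨⟨a, d, c⟩, rfl⟩
      set b := (d : K) + a * tau f a with hb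
      set x := R.t a b c * R.h (-1) with hx
      simp only
      have hbne : b ≠ a * tau f a := by
        rw [hb]
        intro h
        exact d.ne_zero (by linear_combination h)
      have hxB : x ∈ R.B := ⟨a, b, c, -1, rfl⟩
      refine ⟨hxB, ?_⟩
      have h2 : x * x ≠ 1 := fun h => hbne ((R.sq_h_neg_eq_one_iff a b c).mp h)
      have h2' : x ^ 2 ≠ 1 := by rwa [pow_two]
      have hsq := R.sq_h_neg a b c
      rw [← hx] at hsq
      have h6 : x ^ 6 = 1 := by
        have e6 : (6 : ℕ) = 2 * 3 := by norm_num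
        rw [e6, pow_mul, pow_two, hsq, R.t_cube]
        simp [R.t_zero]
      have h3 : x ^ 3 ≠ 1 := by
        intro h
        have e1 : x = (x * x)⁻¹ := by
          apply eq_inv_of_mul_eq_one_left
          calc x * (x * x) = x ^ 3 := by rw [pow_succ', pow_two]
            _ = 1 := h
        have hU : x ∈ R.U := by
          rw [e1, hsq]
          exact Subgroup.inv_mem _ (R.t_mem _ _ _)
        obtain ⟨a', b', c', hU⟩ := hU
        have e0 : R.t a b c * R.h (-1) = R.t a' b' c' * R.h 1 := by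
          rw [← hx, hU, map_one, mul_one]
        obtain ⟨-, h5⟩ := R.tB_inj e0
        exact unit_neg_one_ne_one h5
      have hdvd := orderOf_dvd_of_pow_eq_one h6
      have hle : orderOf x ≤ 6 := Nat.le_of_dvd (by norm_num) hdvd
      have hpos := orderOf_pos x
      have hne2 : orderOf x ≠ 2 := by
        intro h
        apply h2'
        rw [← h]
        exact pow_orderOf_eq_one x
      have hne3 : orderOf x ≠ 3 := by
        intro h
        apply h3
        rw [← h]
        exact pow_orderOf_eq_one x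
      have hne1 : orderOf x ≠ 1 := by
        intro h
        apply h2'
        rw [orderOf_eq_one_iff.mp h]
        simp
      interval_cases h : orderOf x <;> first | rfl | omega
  rw [e, ← Set.image_univ, Set.ncard_image_of_injective, Set.ncard_univ, Nat.card_prod, Nat.card_prod, Nat.card_units,
    Nat.card_eq_fintype_card]
  · ring
  · rintro ⟨a, d, c⟩ ⟨a', d', c'⟩ h
    obtain ⟨⟨rfl, h2, rfl⟩, -⟩ := R.tB_inj h
    have : d = d' := Units.ext (by linear_combination h2)
    rw [this]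

end RD

end Cfsg.Agent.Lib.Ree
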