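import Cfsg.Agent.Lib.Ree.CentY

/-! If `u T u⁻¹ = T ^ j`, with `T` of prime order acting with a six-dimensional non-trivial part, then `j` is a power of `q`. -/

set_option autoImplicit false
set_option linter.unusedSimpArgs false
set_option linter.unusedVariables false
set_option linter.unusedSectionVars false

namespace Cfsg.Agent.Lib.Ree

open Polynomial

section

variable {K : Type*} [Field K] [CharP K 3] [Fintype K]

theorem comm_aeval_pow {V : Type*} [AddCommGroup V] [Module K V] {T u : Module.End K V} {j : ℕ} (h : u * T = T ^ j * u) (p : K[X]) :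
    u * aeval T p = aeval (T ^ j) p * u := by
  have hn : ∀ n : ℕ, u * T ^ n = (T ^ j) ^ n * u := by
    intro n
    induction n with
    | zero => simp
    | succ n ih =>
      rw [pow_succ, ← mul_assoc, ih, mul_assoc, h, pow_succ, mul_assoc]
  induction p using Polynomial.induction_on' with
  | add p q hp hq =>
    rw [map_add, map_add, mul_add, add_mul, hp, hq]
  | monomial n a =>
    rw [aeval_monomial, aeval_monomial, ← Algebra.smul_def, ← Algebra.smul_def, mul_smul_comm, hn, smul_mul_assoc]

theorem pow_form {l : ℕ} [Fact l.Prime] (hl : 3 < l)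
    (hz : ((Fintype.card K : ℕ) : ZMod l) ^ 2 - ((Fintype.card K : ℕ) : ZMod l) + 1 = 0)
    {V : Type*} [AddCommGroup V] [Module K V] [Module.Finite K V] (T u : Module.End K V) (hT : T ^ l = 1)
    (hW : Module.finrank K ↥(LinearMap.range (T - 1)) = 6) (hu : Function.Injective u) {j : ℕ} (huT : u * T = T ^ j * u) :
    ∃ i : ℕ, (j : ZMod l) = (Fintype.card K : ZMod l) ^ i := by
  classical
  have hpp : l.Prime := Fact.out
  set W := LinearMap.range (T - 1) with hWdef
  have hinv : ∀ e : Module.End K V, Commute e T → ∀ x ∈ W, e x ∈ W := by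
    rintro e he _ ⟨y, rfl⟩
    refine ⟨e y, ?_⟩
    have h1 : Commute e (T - 1) := he.sub_right (Commute.one_right e)
    have := congrFun (congrArg DFunLike.coe h1) y
    exact this.symm
  have hΦ : ∀ x ∈ W, aeval T (∑ i ∈ Finset.range l, (X : K[X]) ^ i) x = 0 := by
    rintro _ ⟨y, rfl⟩
    have h1 : (∑ i ∈ Finset.range l, T ^ i) * (T - 1) = T ^ l - 1 := geom_sum_mul T l
    rw [hT, sub_self] at h1
    have h2 : aeval T (∑ i ∈ Finset.range l, (X : K[X]) ^ i) = ∑ i ∈ Finset.range l, T ^ i := by simp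
    rw [h2]
    have := congrFun (congrArg DFunLike.coe h1) y
    exact this
  obtain ⟨w, hwW, hw0⟩ : ∃ w ∈ W, w ≠ 0 := by
    by_contra h
    push Not at h
    have : W = ⊥ := (Submodule.eq_bot_iff W).mpr h
    rw [this, finrank_bot] at hW
    omega
  let F : ↥(Polynomial.degreeLT K 6) →ₗ[K] V :=
    { toFun := fun p => aeval T p.1 w
      map_add' := fun a b => by simp
      map_smul' := fun c a => by simp }
  have hFinj : Function.Injective F := by
    rw [← LinearMap.ker_eq_bot, LinearMap.ker_eq_bot']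
    rintro ⟨p, hp⟩ h
    by_contra h0
    have hp0 : p ≠ 0 := fun e => h0 (Subtype.ext e)
    have hdeg : p.natDegree < 6 := by
      rw [Polynomial.mem_degreeLT] at hp
      exact (Polynomial.natDegree_lt_iff_degree_lt hp0).mpr hp
    exact indep hl hz T hw0 (hΦ w hwW) hp0 hdeg h
  have hrange : LinearMap.range F = W := by
    apply Submodule.eq_of_le_of_finrank_eq
    · rintro _ ⟨p, rfl⟩
      have h1 : Commute (aeval T p.1) T := (comm_aeval (Commute.refl T) p.1).symm
      exact hinv _ h1 w hwW
    · rw [LinearMap.finrank_range_of_inj hFinj, hW, (Polynomial.degreeLTEquiv K 6).finrank_eq, Module.finrank_fin_fun]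
  have hform : ∀ x ∈ W, ∃ p : K[X], aeval T p w = x := by
    intro x hx
    rw [← hrange] at hx
    obtain ⟨p, rfl⟩ := hx
    exact ⟨p.1, rfl⟩
  -- a monic polynomial of degree six killing `w`
  have hT6 : (T ^ 6) w ∈ W := hinv _ ((Commute.refl T).pow_left 6) w hwW
  rw [← hrange] at hT6
  obtain ⟨⟨p, hpd⟩, hp⟩ := hT6
  have hp' : aeval T p w = (T ^ 6) w := hp
  rw [Polynomial.mem_degreeLT] at hpd
  have hg_mon : Monic ((X : K[X]) ^ 6 - p) := monic_X_pow_sub (by exact_mod_cast hpd)
  have hg_deg : ((X : K[X]) ^ 6 - p).natDegree = 6 := by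
    apply natDegree_eq_of_degree_eq_some
    have : degree ((X : K[X]) ^ 6 - p) = degree ((X : K[X]) ^ 6) := degree_sub_eq_left_of_degree_lt (by rw [degree_X_pow]; exact_mod_cast hpd)
    rw [this, degree_X_pow]
  set g := (X : K[X]) ^ 6 - p with hg
  have hg0 : g ≠ 0 := hg_mon.ne_zero
  have hgw : aeval T g w = 0 := by
    rw [hg, map_sub, map_pow, aeval_X, LinearMap.sub_apply, hp', sub_self]
  have hgW : ∀ x ∈ W, aeval T g x = 0 := by
    intro x hx
    obtain ⟨r, rfl⟩ := hform x hx
    have h2 : aeval T g * aeval T r = aeval T r * aeval T g := by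
      rw [← map_mul, ← map_mul, mul_comm]
    have h3 := congrFun (congrArg DFunLike.coe h2) w
    simp only [Module.End.mul_apply] at h3
    rw [h3, hgw, map_zero]
  have hg1 : g ≠ 1 := by
    intro h
    rw [h, natDegree_one] at hg_deg
    omega
  have hmod : ∀ P : K[X], aeval T P w = 0 → g ∣ P := by
    intro P hP
    rw [← modByMonic_eq_zero_iff_dvd hg_mon]
    by_contra hne
    have hdeg : (P %ₘ g).natDegree < 6 := by
      have := natDegree_modByMonic_lt P hg_mon hg1
      rwa [hg_deg] at this
    apply indep hl hz T hw0 (hΦ w hwW) hne hdeg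
    have h1 : P %ₘ g = P - g * (P /ₘ g) := (eq_sub_of_add_eq (modByMonic_add_div P g))
    rw [h1, mul_comm g, map_sub, map_mul, LinearMap.sub_apply, Module.End.mul_apply, hgw, map_zero, hP, sub_zero]
  have hgΦ : g ∣ ∑ i ∈ Finset.range l, (X : K[X]) ^ i := hmod _ (hΦ w hwW)
  have hirr : Irreducible g := by
    rw [hg_mon.irreducible_iff_natDegree']
    refine ⟨hg1, ?_⟩
    intro a b ha hb hab hmem
    rw [hg_deg, Finset.mem_Ioc] at hmem
    have hbd : b ∣ ∑ i ∈ Finset.range l, (X : K[X]) ^ i := (Dvd.intro_left a hab).trans hgΦ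
    have := factor_deg hl hz hbd hmem.1
    have h2 := hmem.2
    omega
  haveI : Fact (Irreducible g) := ⟨hirr⟩
  let E := AdjoinRoot g
  let ζ : E := AdjoinRoot.root g
  have hroot : ∀ P : K[X], g ∣ P → aeval ζ P = 0 := by
    rintro P ⟨c, rfl⟩
    rw [map_mul, AdjoinRoot.aeval_eq, AdjoinRoot.mk_self, zero_mul]
  have h1 : ∑ i ∈ Finset.range l, ζ ^ i = 0 := by
    have h2 := hroot _ hgΦ
    simpa using h2
  have h3 : ζ ^ l = 1 := by
    have := geom_sum_mul ζ l
    rw [h1, zero_mul] at this
    exact (sub_eq_zero.mp this.symm)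
  have hlK : (l : K) ≠ 0 := by
    intro h
    rw [CharP.cast_eq_zero_iff K 3] at h
    have := (Nat.prime_dvd_prime_iff_eq Nat.prime_three hpp).mp h
    omega
  have h4 : ζ ≠ 1 := by
    intro h
    rw [h] at h1
    simp only [one_pow, Finset.sum_const, Finset.card_range, nsmul_eq_mul, mul_one] at h1
    have e : (l : E) = algebraMap K E (l : K) := (map_natCast _ _).symm
    rw [e] at h1
    exact hlK ((map_eq_zero_iff _ (algebraMap K E).injective).mp h1)
  have h6 : orderOf ζ = l := orderOf_eq_prime h3 h4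
  have hζne : ζ ≠ 0 := by
    intro h
    rw [h, zero_pow hpp.ne_zero] at h3
    exact zero_ne_one h3
  have hmodz : ∀ a b : ℕ, ζ ^ a = ζ ^ b → (a : ZMod l) = (b : ZMod l) := by
    intro a b h
    have e1 : (Units.mk0 ζ hζne) ^ a = (Units.mk0 ζ hζne) ^ b := Units.ext (by simpa using h)
    have e2 := pow_eq_pow_iff_modEq.mp e1
    have e3 : orderOf (Units.mk0 ζ hζne) = l := by
      rw [← orderOf_units, Units.val_mk0, h6]
    rw [e3] at e2
    exact (ZMod.natCast_eq_natCast_iff _ _ _).mpr e2
  -- `u` is onto on `W`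
  have huW : ∀ x ∈ W, u x ∈ W := by
    rintro _ ⟨y, rfl⟩
    refine ⟨(∑ i ∈ Finset.range j, T ^ i) (u y), ?_⟩
    have e1 : (T - 1) * (∑ i ∈ Finset.range j, T ^ i) = T ^ j - 1 := mul_geom_sum T j
    have e2 : u * (T - 1) = (T ^ j - 1) * u := by
      rw [mul_sub, sub_mul, huT, mul_one, one_mul]
    have e3 := congrFun (congrArg DFunLike.coe e2) y
    have e4 := congrFun (congrArg DFunLike.coe e1) (u y)
    simp only [Module.End.mul_apply] at e3 e4
    rw [e3, e4]
  have hsurj : ∃ x ∈ W, u x = w := by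
    have hinj : Function.Injective (u.restrict huW) := by
      intro a b h
      apply Subtype.ext
      apply hu
      exact congrArg Subtype.val h
    have hs := LinearMap.injective_iff_surjective.mp hinj
    obtain ⟨x, hx⟩ := hs ⟨w, hwW⟩
    exact ⟨x.1, x.2, congrArg Subtype.val hx⟩
  obtain ⟨x, hxW, hxw⟩ := hsurj
  have hcomp : aeval T (g.comp ((X : K[X]) ^ j)) w = 0 := by
    have e1 : aeval T (g.comp ((X : K[X]) ^ j)) = aeval (T ^ j) g := by
      rw [aeval_comp]
      simp
    rw [e1, ← hxw]
    have e2 := comm_aeval_pow huT g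
    have e3 := congrFun (congrArg DFunLike.coe e2) x
    simp only [Module.End.mul_apply] at e3
    rw [← e3, hgW x hxW, map_zero]
  have hj_root : aeval (ζ ^ j) g = 0 := by
    have e1 := hroot _ (hmod _ hcomp)
    rw [aeval_comp] at e1
    simpa using e1
  -- the Frobenius
  have hfrob : ∀ x : E, aeval x g = 0 → aeval (x ^ Fintype.card K) g = 0 := by
    intro x hx
    have e1 := aeval_algHom_apply (FiniteField.frobeniusAlgHom K E) x g
    have e2 : (FiniteField.frobeniusAlgHom K E) x = x ^ Fintype.card K := rfl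
    rw [e2, hx, map_zero] at e1
    exact e1
  have hζ0 : aeval ζ g = 0 := hroot g (dvd_refl _)
  have hroots : ∀ i : ℕ, aeval (ζ ^ (Fintype.card K ^ i)) g = 0 := by
    intro i
    induction i with
    | zero => simpa using hζ0
    | succ i ih =>
      have := hfrob _ ih
      rwa [← pow_mul, ← pow_succ] at this
  -- counting the roots
  set Rt := (g.map (algebraMap K E)).roots.toFinset with hRt
  have hg0' : g.map (algebraMap K E) ≠ 0 := (hg_mon.map _).ne_zero
  have hmem : ∀ x : E, aeval x g = 0 → x ∈ Rt := by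
    intro x hx
    rw [hRt, Multiset.mem_toFinset, mem_roots hg0', IsRoot.def, eval_map_algebraMap]
    exact hx
  have hRtc : Rt.card ≤ 6 := by
    calc Rt.card ≤ Multiset.card (g.map (algebraMap K E)).roots := Multiset.toFinset_card_le _
      _ ≤ (g.map (algebraMap K E)).natDegree := card_roots' _
      _ = 6 := by rw [natDegree_map, hg_deg]
  have hqz : ((Fintype.card K : ℕ) : ZMod l) ≠ 0 := by
    intro h
    rw [h] at hz
    norm_num at hz
  have hkey : ∀ a b : ℕ, a < b → b < 6 → ζ ^ (Fintype.card K ^ a) ≠ ζ ^ (Fintype.card K ^ b) := by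
    intro a b hab hb h
    have e1 := hmodz _ _ h
    push_cast at e1
    obtain ⟨d, rfl⟩ : ∃ d, b = a + d := ⟨b - a, by omega⟩
    have e2 : ((Fintype.card K : ℕ) : ZMod l) ^ d = 1 := by
      have e3 : ((Fintype.card K : ℕ) : ZMod l) ^ a * (((Fintype.card K : ℕ) : ZMod l) ^ d - 1) = 0 := by
        rw [pow_add] at e1
        linear_combination -e1
      exact sub_eq_zero.mp ((mul_eq_zero.mp e3).resolve_left (pow_ne_zero _ hqz))
    have := ord6 hl hz (by omega) e2
    omega
  set S := (Finset.range 6).image (fun i => ζ ^ (Fintype.card K ^ i)) with hS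
  have hSc : S.card = 6 := by
    rw [hS, Finset.card_image_of_injOn, Finset.card_range]
    intro a ha b hb h
    simp only [Finset.coe_range, Set.mem_Iio] at ha hb
    by_contra hne
    rcases Nat.lt_or_gt_of_ne hne with h7 | h7
    · exact hkey a b h7 hb h
    · exact hkey b a h7 ha h.symm
  have hSR : S ⊆ Rt := by
    intro x hx
    rw [hS, Finset.mem_image] at hx
    obtain ⟨i, -, rfl⟩ := hx
    exact hmem _ (hroots i)
  have hEq : S = Rt := Finset.eq_of_subset_of_card_le hSR (by rw [hSc]; exact hRtc)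
  have hjS : ζ ^ j ∈ S := by
    rw [hEq]
    exact hmem _ hj_root
  rw [hS, Finset.mem_image] at hjS
  obtain ⟨i, -, hi⟩ := hjS
  refine ⟨i, ?_⟩
  have e1 := hmodz _ _ hi
  push_cast at e1
  exact e1.symm

end

end Cfsg.Agent.Lib.Ree
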