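import Cfsg.Agent.Lib.Ree.CntF
import Cfsg.Agent.Lib.Ree.PowF

/-! The concrete context for the counting in the small Ree groups. -/

set_option autoImplicit false
set_option linter.unusedSimpArgs false
set_option linter.unusedVariables false
set_option linter.unusedSectionVars false

namespace Cfsg.Agent.Lib.Ree

open Cfsg Cfsg.Lie Cfsg.Agent.Lib.Chev Cfsg.Agent.Lib.Chev.TwG2 Cfsg.Agent.Lib.Chev.TabG2

section

variable {K : Type*} [Field K] [CharP K 3] [Fintype K] (f : K ≃+* K) (hf3 : ∀ t, f (f t) ^ 3 = t)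
  (hΓ : ∀ g ∈ (TT f).AA JJ, inv7 ((g : GL chevG2.Idx K) : Matrix chevG2.Idx chevG2.Idx K))

include hf3 hΓ in
/-- The conjugates of a power of `y`. -/
theorem hNy_conc (hs : IsSimpleGroup ↥((TT f).AA JJ)) [Finite ↥((TT f).AA JJ)] {l : ℕ} (hl : l.Prime) (hl3 : 3 < l)
    (hz : ((Fintype.card K : ℕ) : ZMod l) ^ 2 - ((Fintype.card K : ℕ) : ZMod l) + 1 = 0)
    {y : ↥((TT f).AA JJ)} (hy : orderOf y = l) (g : ↥((TT f).AA JJ)) (j : ℕ) (hg : g * y * g⁻¹ = y ^ j) :
    ∃ i : ℕ, (j : ZMod l) = (Fintype.card K : ZMod l) ^ i := by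
  haveI : Fact l.Prime := ⟨hl⟩
  set ρ := rhoG _ hΓ with hρ
  set T := ρ y with hT
  have hTl : T ^ l = 1 := by
    rw [hT, ← map_pow, ← hy, pow_orderOf_eq_one, map_one]
  have hd1 := fix_dim1 f hf3 hΓ hs hl3 hz hy
  have hker : fixSp ρ (Subgroup.zpowers y) = LinearMap.ker (T - 1) := by
    ext x
    rw [LinearMap.mem_ker, LinearMap.sub_apply, Module.End.one_apply, sub_eq_zero]
    constructor
    · intro h
      exact h y (Subgroup.mem_zpowers y)
    · intro h g hg
      obtain ⟨n, rfl⟩ := (mem_powers_iff_mem_zpowers.mpr hg)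
      rw [map_pow]
      induction n with
      | zero => simp
      | succ n ih =>
        rw [pow_succ, Module.End.mul_apply, h]
        exact ih (Subgroup.npow_mem_zpowers y n)
  have hfin : Module.finrank K (S7 → K) = 7 := by
    rw [Module.finrank_fintype_fun_eq_card, card_S7]
  have hW : Module.finrank K ↥(LinearMap.range (T - 1)) = 6 := by
    have h1 := LinearMap.finrank_range_add_finrank_ker (T - 1)
    rw [← hker, hd1, hfin] at h1
    omega
  have hinj : Function.Injective (ρ g) := by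
    intro a b h
    have h2 := congrArg (ρ g⁻¹) h
    rw [← Module.End.mul_apply, ← Module.End.mul_apply, ← map_mul, inv_mul_cancel, map_one] at h2
    exact h2
  have huT : ρ g * T = T ^ j * ρ g := by
    rw [hT, ← map_mul, ← map_pow, ← map_mul, ← hg]
    congr 1
    group
  exact pow_form hl3 hz T (ρ g) hTl hW hinj huT

end

/-- The setup. -/
theorem exists_setup {K : Type*} [Field K] [Fintype K] {m : ℕ} (hm : 1 ≤ m) (hK : Fintype.card K = 3 ^ (2 * m + 1)) :
    ∃ (_ : CharP K 3) (f : K ≃+* K) (hf3 : ∀ t, f (f t) ^ 3 = t) (hsq : ∀ u : Kˣ, (∃ v, u = v * v) ∨ (∃ v, u = -1 * (v * v)))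
      (_ : (TT f).AA JJ = twistedG2 K (3 ^ m)) (_ : Finite ↥((TT f).AA JJ)), Nonempty (Ctx3 (rd f hf3 hsq)) := by
  have h3 : Nat.Prime 3 := Nat.prime_three
  have hn : 2 * m + 1 ≠ 0 := by omega
  have hchar := charP_of_card h3 hn hK
  refine ⟨hchar, ?_⟩
  have hcyc' := cyc_twisted hm hK
  have hΓ' : ∀ g ∈ twistedG2 K (3 ^ m), inv7 ((g : GL chevG2.Idx K) : Matrix chevG2.Idx chevG2.Idx K) :=
    fun g hg => inv7_gen _ hg
  obtain ⟨f, hf⟩ := frobP h3 hn hK m
  have hf3 := frob_sq hK f hf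
  have hc : ringChar K ≠ 2 := by rw [ringChar.eq K 3]; norm_num
  have hsq := sq_or_neg hK hc
  have hAA := AA_eq f hf3 hf
  refine ⟨f, hf3, hsq, hAA, ?_⟩
  rw [← hAA] at hΓ'
  have hΓ := hΓ'
  have hcyc : ∀ (r : ℕ), r.Prime → 3 < r → ∀ P : Subgroup ↥((TT f).AA JJ), IsPGroup r P → IsCyclic P := by
    rw [hAA]
    exact hcyc'
  have hG := card_G f hf3 hK hc
  have hq : 2 ≤ Fintype.card K := Fintype.one_lt_card
  have hfin : Finite ↥((TT f).AA JJ) := Nat.finite_of_card_ne_zero (by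
    rw [hG]
    have h1 : 0 < Fintype.card K - 1 := by omega
    have h2 : 0 < Fintype.card K := by omega
    positivity)
  refine ⟨hfin, ?_⟩
  have hmod : Nat.card ↥((TT f).AA JJ) % 16 = 8 := by
    rw [hG, hK]
    exact card_mod
  have hq27 : 27 ≤ Fintype.card K := by
    rw [hK]
    have : 3 ^ 3 ≤ 3 ^ (2 * m + 1) := Nat.pow_le_pow_right (by norm_num) (by omega)
    omega
  have hq8 : Fintype.card K % 8 = 3 := by
    rw [hK, pow_succ, pow_mul]
    norm_num [Nat.mul_mod, Nat.pow_mod]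
  have hsimple : IsSimpleGroup ↥((TT f).AA JJ) := by
    have h4 : 3 < Fintype.card K := by omega
    obtain ⟨u, hu⟩ := exists_unit_ne_two h4
    have hA : (TabG2.good3.toGood2.torusHom (gc f u)) ∈ (TT f).AA JJ := by
      have h5 := H1_eq f hf3 hsq
      have h6 : (TabG2.good3.toGood2.torusHom.comp (gc f)) u ∈ (TabG2.good3.toGood2.torusHom.comp (gc f)).range := ⟨u, rfl⟩
      rw [← h5] at h6
      exact h6.2
    exact (simple_AA f hf3 hu hA).1
  let C : Ctx (rd f hf3 hsq) := ⟨rl f hf3 hsq, hsq, hG, hq27, hmod, hq8, hcyc⟩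
  have hz : ∀ {l : ℕ}, l ∣ nq K → ((Fintype.card K : ℕ) : ZMod l) ^ 2 - ((Fintype.card K : ℕ) : ZMod l) + 1 = 0 := by
    intro l hl
    have h5 := (ZMod.natCast_eq_zero_iff (nq K) l).mpr hl
    unfold nq at h5
    rw [Nat.cast_add, Nat.cast_sub (Nat.le_self_pow (by norm_num) _)] at h5
    simpa using h5
  have hl3 : ∀ {l : ℕ}, l.Prime → l ∣ nq K → 3 < l := by
    intro l hl hd
    obtain ⟨h2, h3, -⟩ := C.nq_prime hl hd
    have := hl.two_le
    omega
  exact ⟨{ C with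
    hCy := fun {y} hy hyn => cent_y f hf3 hΓ hsq hG hq hmod hsimple hy (hl3 hy hyn) (hz hyn) rfl
    hNy := fun {y} hy hyn g j hg => hNy_conc f hf3 hΓ hsimple hy (hl3 hy hyn) (hz hyn) rfl g j hg }⟩

end Cfsg.Agent.Lib.Ree
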