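import Cfsg.Agent.Lib.Ree.CntT2

/-! Final forms of the counting in the small Ree groups. -/

set_option autoImplicit false
set_option linter.unusedSimpArgs false
set_option linter.unusedVariables false
set_option linter.unusedSectionVars false

namespace Cfsg.Agent.Lib.Ree

theorem ar_roots {m₁ m₂ Q r : ℕ} (h1 : m₁ + m₂ = 2 * Q) (h2 : m₁ * m₂ + r * r = Q * Q) :
    (m₁ + r = Q ∧ m₂ = Q + r) ∨ (m₁ = Q + r ∧ m₂ + r = Q) := by
  rcases le_total m₁ m₂ with h | h
  · left
    obtain ⟨t, rfl⟩ : ∃ t, m₂ = Q + t := ⟨m₂ - Q, by omega⟩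
    have h3 : m₁ + t = Q := by omega
    have h4 : t * t = r * r := by
      rw [← h3] at h2
      nlinarith
    have h5 : t = r := by
      have := Nat.mul_self_inj.mp h4
      exact this
    subst h5
    exact ⟨h3, rfl⟩
  · right
    obtain ⟨t, rfl⟩ : ∃ t, m₁ = Q + t := ⟨m₁ - Q, by omega⟩
    have h3 : m₂ + t = Q := by omega
    have h4 : t * t = r * r := by
      rw [← h3] at h2
      nlinarith
    have h5 : t = r := Nat.mul_self_inj.mp h4
    subst h5
    exact ⟨rfl, h3⟩

namespace Ctx3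

variable {K : Type*} [Field K] [CharP K 3] [Fintype K] {f : K ≃+* K} {G : Type*} [Group G] [Finite G] {R : RD K f G} (D : Ctx3 R)

include D

/-- The two classes with their orders. -/
theorem T3_r {x₀ : G} (hx : (orderOf x₀).Prime) (hd : orderOf x₀ ∣ wq K) (hxa : x₀ * R.h (-1) = R.h (-1) * x₀)
    {r : ℕ} (hr : r * r = 3 * Fintype.card K) :
    ∃ y₁ y₂ : G, (orderOf y₁).Prime ∧ orderOf y₁ ∣ nq K ∧ (orderOf y₂).Prime ∧ orderOf y₂ ∣ nq K ∧
      Nat.card (Subgroup.normalizer (Subgroup.centralizer {y₁} : Set G)) = 6 * Nat.card ↥(Subgroup.centralizer {y₁}) ∧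
      Nat.card (Subgroup.normalizer (Subgroup.centralizer {y₂} : Set G)) = 6 * Nat.card ↥(Subgroup.centralizer {y₂}) ∧
      Nat.card ↥(Subgroup.centralizer {y₁}) + r = Fintype.card K + 1 ∧
      Nat.card ↥(Subgroup.centralizer {y₂}) = Fintype.card K + 1 + r ∧
      (∀ x, orderOf x ∈ Dn K → x ∈ conjU (Sy y₁) ∨ x ∈ conjU (Sy y₂)) ∧
      Nat.card ↥(Subgroup.centralizer {y₁}) * Nat.card ↥(Subgroup.centralizer {y₂}) = nq K ∧
      Nat.card ↥(Subgroup.centralizer {y₁}) + Nat.card ↥(Subgroup.centralizer {y₂}) = 2 * (Fintype.card K + 1) := by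
  obtain ⟨y₁, y₂, h1, h2, h3, h4, h5, h6, h7, h8, h9⟩ := D.T3_main hx hd hxa
  have hn : nq K + r * r = (Fintype.card K + 1) * (Fintype.card K + 1) := by
    rw [hr, D.toCtx.nq_eq]
    obtain ⟨s, hs⟩ : ∃ s, Fintype.card K = s + 1 := ⟨Fintype.card K - 1, by have := D.toCtx.hq; omega⟩
    rw [hs, Nat.add_sub_cancel]
    ring
  rcases ar_roots h8 (by rw [h7]; exact hn) with ⟨e1, e2⟩ | ⟨e1, e2⟩
  · exact ⟨y₁, y₂, h1, h2, h3, h4, h5, h6, e1, e2, h9, h7, h8⟩
  · exact ⟨y₂, y₁, h3, h4, h1, h2, h6, h5, e2, e1, fun x hx => (h9 x hx).symm, by rw [mul_comm]; exact h7, by rw [add_comm]; exact h8⟩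

/-- The normaliser of a torus of the third kind and of its subgroups. -/
theorem tor_part {y : G} (hy : (orderOf y).Prime) (hyn : orderOf y ∣ nq K)
    (hN : Nat.card (Subgroup.normalizer (Subgroup.centralizer {y} : Set G)) = 6 * Nat.card ↥(Subgroup.centralizer {y})) :
    ∃ A : Subgroup G, IsCyclic A ∧ Nat.card A = Nat.card ↥(Subgroup.centralizer {y}) ∧
      Nat.card (Subgroup.normalizer (A : Set G)) = 6 * Nat.card ↥(Subgroup.centralizer {y}) ∧
      ∀ A₀ : Subgroup G, A₀ ≤ A → A₀ ≠ ⊥ → Subgroup.normalizer (A₀ : Set G) = Subgroup.normalizer (A : Set G) := by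
  refine ⟨Subgroup.centralizer {y}, D.M_cyc hy hyn, rfl, hN, ?_⟩
  intro A₀ hA₀ hb
  apply le_antisymm
  · intro g hg
    obtain ⟨⟨z, hz⟩, hz1'⟩ := Subgroup.ne_bot_iff_exists_ne_one.mp hb
    have hz1 : z ≠ 1 := fun h => hz1' (Subtype.ext h)
    exact D.M_TI hy hyn (hA₀ hz) hz1 (hA₀ ((Subgroup.mem_normalizer_iff.mp hg _).mp hz))
  · intro g hg
    apply mem_normalizer_of_forall
    intro z hz
    apply mem_of_pow_card (D.M_cyc hy hyn) hA₀
    · exact (Subgroup.mem_normalizer_iff.mp hg _).mp (hA₀ hz)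
    · have : (⟨z, hz⟩ : A₀) ^ Nat.card A₀ = 1 := pow_card_eq_one'
      have e : z ^ Nat.card A₀ = 1 := by
        have h2 := congrArg Subtype.val this
        rw [SubmonoidClass.coe_pow] at h2
        exact h2
      rw [conj_pow, e]
      group

/-- Counting the elements in a torus of the third kind. -/
theorem count_tor {y y' : G} (hy : (orderOf y).Prime) (hyn : orderOf y ∣ nq K) (hy' : (orderOf y').Prime) (hyn' : orderOf y' ∣ nq K)
    (hN : Nat.card (Subgroup.normalizer (Subgroup.centralizer {y} : Set G)) = 6 * Nat.card ↥(Subgroup.centralizer {y}))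
    (hmm : Nat.card ↥(Subgroup.centralizer {y}) * Nat.card ↥(Subgroup.centralizer {y'}) = nq K)
    (hadd : Nat.card ↥(Subgroup.centralizer {y}) + Nat.card ↥(Subgroup.centralizer {y'}) = 2 * (Fintype.card K + 1))
    (hall : ∀ x, orderOf x ∈ Dn K → x ∈ conjU (Sy y) ∨ x ∈ conjU (Sy y'))
    {i : ℕ} (h1 : 1 < i) (hi : i ∣ Nat.card ↥(Subgroup.centralizer {y})) :
    6 * {g : G | orderOf g = i}.ncard = Nat.totient i * (Fintype.card K ^ 3 * ((Fintype.card K ^ 2 - 1) * Nat.card ↥(Subgroup.centralizer {y'}))) := by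
  have C := D.toCtx
  set M := Subgroup.centralizer {y} with hM
  set M' := Subgroup.centralizer {y'} with hM'
  have hin : i ∣ nq K := by
    rw [← hmm]
    exact hi.trans (dvd_mul_right _ _)
  have hcop : Nat.Coprime (Nat.card M) (Nat.card M') := by
    apply Nat.coprime_of_dvd
    intro p hp hp1 hp2
    have h3 : p ∣ nq K := by
      rw [← hmm]
      exact hp1.trans (dvd_mul_right _ _)
    have h4 : p ∣ 2 * (Fintype.card K + 1) := by
      rw [← hadd]
      exact dvd_add hp1 hp2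
    obtain ⟨h5, -, -, -, h6⟩ := C.nq_prime hp h3
    rcases (Nat.Prime.dvd_mul hp).mp h4 with h7 | h7
    · exact h5 ((Nat.prime_dvd_prime_iff_eq hp Nat.prime_two).mp h7)
    · exact h6 h7
  have h := count_by_order (M : Set G) (Subgroup.normalizer (M : Set G)) {i}
    (fun g hg x hx _ => (Subgroup.mem_normalizer_iff.mp hg _).mp hx)
    (fun x hx hxi g hg => D.M_TI hy hyn hx (by
      rintro rfl
      simp at hxi
      omega) hg)
    (fun z hz => by
      have hz' : orderOf z = i := hz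
      have hzD : orderOf z ∈ Dn K := by
        refine ⟨by omega, fun p hp hpz => ?_⟩
        rw [hz'] at hpz
        exact hpz.trans hin
      rcases hall z hzD with ⟨g, hg, -⟩ | ⟨g, hg, -⟩
      · exact ⟨g, hg⟩
      · exfalso
        have h2 : orderOf (g * z * g⁻¹) ∣ Nat.card M' := by
          have := orderOf_dvd_natCard (⟨_, hg⟩ : M')
          rwa [Subgroup.orderOf_mk] at this
        rw [ord_conj, hz'] at h2
        have := Nat.eq_one_of_dvd_coprimes hcop hi h2
        omega)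
  simp only [Set.mem_singleton_iff, SetLike.mem_coe] at h
  rw [hN] at h
  have e1 : {x | x ∈ M ∧ orderOf x = i}.ncard = Nat.totient i := by
    have := ncard_sub_order M {i}
    simp only [Set.mem_singleton_iff] at this
    rw [this]
    haveI := D.M_cyc hy hyn
    exact ncard_order_cyclic hi
  rw [e1, C.hGn, ← hmm] at h
  have hpos : 0 < Nat.card M := Nat.card_pos
  apply Nat.eq_of_mul_eq_mul_left hpos
  have e2 : Fintype.card K ^ 2 - 1 = (Fintype.card K + 1) * (Fintype.card K - 1) := by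
    obtain ⟨s, hs⟩ : ∃ s, Fintype.card K = s + 1 := ⟨Fintype.card K - 1, by have := C.hq; omega⟩
    rw [hs, Nat.add_sub_cancel]
    apply Nat.sub_eq_of_eq_add
    ring
  rw [e2]
  calc Nat.card M * (6 * {g : G | orderOf g = i}.ncard) = 6 * Nat.card M * {g : G | orderOf g = i}.ncard := by ring
    _ = _ := by rw [h]; ring

/-- Orders of elements. -/
theorem orders_iff {x₀ : G} (hx : (orderOf x₀).Prime) (hd : orderOf x₀ ∣ wq K) (hxa : x₀ * R.h (-1) = R.h (-1) * x₀)
    {y₁ y₂ : G} (hy₁ : (orderOf y₁).Prime) (hn₁ : orderOf y₁ ∣ nq K) (hy₂ : (orderOf y₂).Prime) (hn₂ : orderOf y₂ ∣ nq K)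
    (hall : ∀ x, orderOf x ∈ Dn K → x ∈ conjU (Sy y₁) ∨ x ∈ conjU (Sy y₂)) (d : ℕ) :
    (∃ g : G, orderOf g = d) ↔ (d ∣ 6 ∨ d ∣ 9 ∨ d ∣ Fintype.card K - 1 ∨ d ∣ 2 * wq K ∨
      d ∣ Nat.card ↥(Subgroup.centralizer {y₁}) ∨ d ∣ Nat.card ↥(Subgroup.centralizer {y₂})) := by
  have C := D.toCtx
  constructor
  · rintro ⟨g, rfl⟩
    rcases C.classify hx hd g with h | h | h | h | h | h | h | h | h
    · rw [h]
      exact Or.inl (one_dvd _)
    · rw [h]
      exact Or.inl (by norm_num)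
    · rw [h]
      exact Or.inl (by norm_num)
    · rw [h]
      exact Or.inl (dvd_refl _)
    · rw [h]
      exact Or.inr (Or.inl (dvd_refl _))
    · exact Or.inr (Or.inr (Or.inl h.2))
    · exact Or.inr (Or.inr (Or.inr (Or.inl (h.2.trans (dvd_mul_left _ _)))))
    · obtain ⟨i, ⟨-, hi⟩, e⟩ := h
      rw [e]
      exact Or.inr (Or.inr (Or.inr (Or.inl (Nat.mul_dvd_mul_left 2 hi))))
    · rcases hall g h with ⟨c, hc, -⟩ | ⟨c, hc, -⟩
      · right; right; right; right; left
        have := orderOf_dvd_natCard (⟨_, hc⟩ : Subgroup.centralizer {y₁})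
        rwa [Subgroup.orderOf_mk, ord_conj] at this
      · right; right; right; right; right
        have := orderOf_dvd_natCard (⟨_, hc⟩ : Subgroup.centralizer {y₂})
        rwa [Subgroup.orderOf_mk, ord_conj] at this
  · rintro (h | h | h | h | h | h)
    · have hpos : 0 < {x | x ∈ R.B ∧ orderOf x = 6}.ncard := by
        rw [R.ncard_B6 C.hq]
        have := C.hq
        have h1 : 0 < Fintype.card K - 1 := by omega
        positivity
      obtain ⟨x, -, hx6⟩ := (Set.ncard_pos (Set.toFinite _)).mp hpos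
      exact exists_pow_order x (by rw [hx6]; exact h)
    · have hpos : 0 < {x | x ∈ R.B ∧ orderOf x = 9}.ncard := by
        rw [R.ncard_B9 C.hq]
        have := C.hq
        have h1 : 0 < Fintype.card K - 1 := by omega
        positivity
      obtain ⟨x, -, hx6⟩ := (Set.ncard_pos (Set.toFinite _)).mp hpos
      exact exists_pow_order x (by rw [hx6]; exact h)
    · exact R.exists_order_sp h
    · exact C.exists_order_w2 hx hd hxa h
    · haveI := D.M_cyc hy₁ hn₁
      obtain ⟨a, ha⟩ := exists_order_cyclic h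
      exact ⟨a.1, by rw [Subgroup.orderOf_coe, ha]⟩
    · haveI := D.M_cyc hy₂ hn₂
      obtain ⟨a, ha⟩ := exists_order_cyclic h
      exact ⟨a.1, by rw [Subgroup.orderOf_coe, ha]⟩

end Ctx3

end Cfsg.Agent.Lib.Ree
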