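import Cfsg.Agent.Lib.Ree.Cnt

/-! The normaliser of the split torus and the elements of order dividing `q - 1`. -/

set_option autoImplicit false
set_option linter.unusedSimpArgs false
set_option linter.unusedVariables false
set_option linter.unusedSectionVars false

namespace Cfsg.Agent.Lib.Ree

theorem ncard_order_cyclic {H : Type*} [Group H] [Finite H] [IsCyclic H] {d : ℕ} (hd : d ∣ Nat.card H) :
    {a : H | orderOf a = d}.ncard = Nat.totient d := by
  classical
  letI : Fintype H := Fintype.ofFinite H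
  have h := IsCyclic.card_orderOf_eq_totient (α := H) (d := d) (by rwa [← Nat.card_eq_fintype_card])
  rw [← h, ← Set.ncard_coe_finset]
  congr 1
  ext x
  simp

theorem exists_order_cyclic {H : Type*} [Group H] [Finite H] [IsCyclic H] {d : ℕ} (hd : d ∣ Nat.card H) :
    ∃ a : H, orderOf a = d := by
  have h := ncard_order_cyclic hd
  have hpos : 0 < d := Nat.pos_of_dvd_of_pos hd Nat.card_pos
  have h2 : 0 < {a : H | orderOf a = d}.ncard := by
    rw [h]
    exact Nat.totient_pos.mpr hpos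
  obtain ⟨a, ha⟩ := (Set.ncard_pos (Set.toFinite _)).mp h2
  exact ⟨a, ha⟩

theorem odd_prime_of {i m : ℕ} (hi : 2 < i) (hd : i ∣ m) (hm : m % 4 = 2) : ∃ p : ℕ, p.Prime ∧ p ≠ 2 ∧ p ∣ i := by
  by_contra hne
  push_neg at hne
  have h1 : i = 2 ^ i.primeFactorsList.length := by
    apply Nat.eq_prime_pow_of_unique_prime_dvd (by omega)
    intro d hd1 hd2
    by_contra h3
    exact hne d hd1 h3 hd2
  set k := i.primeFactorsList.length with hk
  have hk2 : 2 ≤ k := by
    by_contra h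
    have : k = 0 ∨ k = 1 := by omega
    rcases this with h | h <;> rw [h] at h1 <;> omega
  have h4 : 4 ∣ i := by
    rw [h1]
    exact pow_dvd_pow 2 hk2
  have h5 : 4 ∣ m := h4.trans hd
  omega

namespace RD

variable {K : Type*} [Field K] [CharP K 3] {f : K ≃+* K} {G : Type*} [Group G] (R : RD K f G)

theorem H_norm_B {g : G} (hg : g ∈ R.B) {s s' : Kˣ} (hs : (s : K) ^ 2 ≠ 1) (h : g * R.h s * g⁻¹ = R.h s') :
    (∃ r, g = R.h r) ∧ s' = s := by
  obtain ⟨a, b, c, e⟩ := R.B_conj_h hg s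
  have h1 : R.t 0 0 0 * R.h s' = R.t a b c * R.h s := by rw [R.t_zero, one_mul, ← h, e]
  obtain ⟨-, rfl⟩ := R.tB_inj h1
  exact ⟨R.cent_h hs (mul_inv_eq_iff_eq_mul.mp h), rfl⟩

theorem H_norm {g : G} {s s' : Kˣ} (hs : (s : K) ^ 2 ≠ 1) (h : g * R.h s * g⁻¹ = R.h s') :
    ∃ r, (g = R.h r ∧ s' = s) ∨ (g = R.n * R.h r ∧ s' = s⁻¹) := by
  by_cases hg : g ∈ R.B
  · obtain ⟨⟨r, hr⟩, e⟩ := R.H_norm_B hg hs h
    exact ⟨r, Or.inl ⟨hr, e⟩⟩
  · obtain ⟨a, b, c, k, hk, rfl⟩ := R.not_B_form hg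
    set T := R.t a b c with hT
    set y := k * R.h s * k⁻¹ with hy
    have hyB : y ∈ R.B := mul_mem (mul_mem hk (R.h_mem_B s)) (inv_mem hk)
    have e1 : R.n * y * R.n⁻¹ = T⁻¹ * R.h s' * T := by
      rw [← h, hy]
      group
    have hn : R.n⁻¹ * y * R.n ∈ R.B := by
      have e2 : R.n⁻¹ * y * R.n = R.n * y * R.n⁻¹ := by rw [R.n_inv]
      rw [e2, e1]
      exact mul_mem (mul_mem (inv_mem (R.t_mem_B _ _ _)) (R.h_mem_B _)) (R.t_mem_B _ _ _)
    obtain ⟨s₁, hs₁⟩ := R.B_cap_nB hyB hn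
    obtain ⟨⟨r, hr⟩, e2⟩ := R.H_norm_B hk hs (hy.symm.trans hs₁)
    subst e2
    have e3 : T * R.h s₁⁻¹ * T⁻¹ = R.h s' := by
      rw [← R.n_h s₁, ← hs₁, e1]
      group
    have hs' : ((s₁⁻¹ : Kˣ) : K) ^ 2 ≠ 1 := by
      intro h5
      apply hs
      have h6 : ((s₁ : K)⁻¹) ^ 2 = 1 := by simpa using h5
      rw [inv_pow] at h6
      exact inv_eq_one.mp h6
    obtain ⟨⟨r', hr'⟩, e4⟩ := R.H_norm_B (R.t_mem_B a b c) hs' e3
    have hT1 : r' = 1 := R.h_in_U (by rw [← hr']; exact R.t_mem _ _ _)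
    have hT2 : T = 1 := by rw [hT, hr', hT1, map_one]
    refine ⟨r, Or.inr ⟨?_, e4⟩⟩
    rw [hT2, one_mul, hr]

/-- The normaliser of the torus. -/
def NH : Subgroup G where
  carrier := {g | ∃ r, g = R.h r ∨ g = R.n * R.h r}
  mul_mem' := by
    rintro _ _ ⟨r, rfl | rfl⟩ ⟨r', rfl | rfl⟩
    · exact ⟨r * r', Or.inl (map_mul _ _ _).symm⟩
    · exact ⟨r⁻¹ * r', Or.inr (by rw [← mul_assoc, R.h_mul_n, mul_assoc, map_mul])⟩
    · exact ⟨r * r', Or.inr (by rw [mul_assoc, map_mul])⟩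
    · exact ⟨r⁻¹ * r', Or.inl (by
        calc R.n * R.h r * (R.n * R.h r') = R.n * (R.h r * R.n) * R.h r' := by group
          _ = R.n * (R.n * R.h r⁻¹) * R.h r' := by rw [R.h_mul_n]
          _ = (R.n * R.n) * (R.h r⁻¹ * R.h r') := by group
          _ = _ := by rw [R.n_sq, one_mul, map_mul])⟩
  one_mem' := ⟨1, Or.inl (map_one _).symm⟩
  inv_mem' := by
    rintro _ ⟨r, rfl | rfl⟩
    · exact ⟨r⁻¹, Or.inl (map_inv _ _).symm⟩
    · exact ⟨r, Or.inr (by rw [mul_inv_rev, R.n_inv, ← map_inv, R.h_mul_n, inv_inv])⟩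

theorem NH_conj {g : G} (hg : g ∈ R.NH) (s : Kˣ) : g * R.h s * g⁻¹ = R.h s ∨ g * R.h s * g⁻¹ = R.h s⁻¹ := by
  obtain ⟨r, rfl | rfl⟩ := hg
  · left
    rw [RD.RL.h_comm, mul_assoc, mul_inv_cancel, mul_one]
  · right
    have e : R.n * R.h r * R.h s * (R.n * R.h r)⁻¹ = R.n * (R.h r * R.h s * (R.h r)⁻¹) * R.n⁻¹ := by group
    rw [e, RD.RL.h_comm, mul_assoc (R.h s), mul_inv_cancel, mul_one, R.n_h]

theorem card_NH [Fintype K] : Nat.card R.NH = 2 * (Fintype.card K - 1) := by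
  classical
  let F : Bool × Kˣ → R.NH := fun p => if p.1 then ⟨R.n * R.h p.2, p.2, Or.inr rfl⟩ else ⟨R.h p.2, p.2, Or.inl rfl⟩
  have hF : Function.Bijective F := by
    constructor
    · rintro ⟨b, r⟩ ⟨b', r'⟩ h
      cases b <;> cases b' <;> simp only [F, if_true, if_false, Bool.false_eq_true] at h
      · have h1 : R.h r = R.h r' := congrArg Subtype.val h
        rw [R.h_inj h1]
      · exfalso
        have h1 : R.h r = R.n * R.h r' := congrArg Subtype.val h
        apply R.n_not_B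
        have e : R.n = R.h r * (R.h r')⁻¹ := by rw [h1]; group
        rw [e]
        exact mul_mem (R.h_mem_B _) (inv_mem (R.h_mem_B _))
      · exfalso
        have h1 : R.n * R.h r = R.h r' := congrArg Subtype.val h
        apply R.n_not_B
        have e : R.n = R.h r' * (R.h r)⁻¹ := by rw [← h1]; group
        rw [e]
        exact mul_mem (R.h_mem_B _) (inv_mem (R.h_mem_B _))
      · have h1 : R.n * R.h r = R.n * R.h r' := congrArg Subtype.val h
        rw [R.h_inj (mul_left_cancel h1)]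
    · rintro ⟨g, r, rfl | rfl⟩
      · exact ⟨(false, r), rfl⟩
      · exact ⟨(true, r), rfl⟩
  rw [← Nat.card_congr (Equiv.ofBijective F hF), Nat.card_prod, Nat.card_units, Nat.card_eq_fintype_card, Nat.card_eq_fintype_card]
  rfl

variable [Fintype K] [Finite G]

theorem ord_h (s : Kˣ) : orderOf (R.h s) = orderOf s := orderOf_injective R.h R.h_inj s

/-- Elements whose order has an odd prime divisor dividing `q - 1` lie in a conjugate of the torus. -/
theorem conj_torus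
    (hG : Nat.card G = (1 + Fintype.card K ^ 3) * (Fintype.card K ^ 3 * (Fintype.card K - 1)))
    (hq : 2 ≤ Fintype.card K) {y : G} {p : ℕ} (hp : p.Prime) (hp2 : p ≠ 2) (hd : p ∣ Fintype.card K - 1)
    (hpy : p ∣ orderOf y) : ∃ g s, g * y * g⁻¹ = R.h s := by
  have hx : orderOf (y ^ (orderOf y / p)) = p := orderOf_pow_orderOf_div (orderOf_pos y).ne' hpy
  set x := y ^ (orderOf y / p) with hxdef
  obtain ⟨c, s, hs⟩ := R.conj_H hG hq hp hp2 hd hx
  have hs2 : (s : K) ^ 2 ≠ 1 := by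
    intro h
    have h1 : s ^ 2 = 1 := Units.ext (by simpa using h)
    have h2 : orderOf (R.h s) ∣ 2 := by
      rw [ord_h]
      exact orderOf_dvd_of_pow_eq_one h1
    rw [← hs] at h2
    have e : c⁻¹ * x * c = c⁻¹ * x * c⁻¹⁻¹ := by simp
    rw [e, ord_conj, hx] at h2
    exact hp2 ((Nat.prime_dvd_prime_iff_eq hp Nat.prime_two).mp h2)
  have hc : (c⁻¹ * y * c) * R.h s = R.h s * (c⁻¹ * y * c) := by
    rw [← hs]
    have hcomm : y * x = x * y := by
      rw [hxdef]
      exact (Commute.pow_right (Commute.refl y) _)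
    calc c⁻¹ * y * c * (c⁻¹ * x * c) = c⁻¹ * (y * x) * c := by group
      _ = c⁻¹ * (x * y) * c := by rw [hcomm]
      _ = _ := by group
  obtain ⟨s', hs'⟩ := R.cent_h hs2 hc
  exact ⟨c⁻¹, s', by rw [inv_inv]; exact hs'⟩

include R in
theorem count_sp
    (hG : Nat.card G = (1 + Fintype.card K ^ 3) * (Fintype.card K ^ 3 * (Fintype.card K - 1)))
    (hq : 2 ≤ Fintype.card K) (hq8 : Fintype.card K % 8 = 3) (D : Set ℕ) (hD : ∀ i ∈ D, 2 < i ∧ i ∣ Fintype.card K - 1) :
    2 * {y : G | orderOf y ∈ D}.ncard = (1 + Fintype.card K ^ 3) * (Fintype.card K ^ 3 * {s : Kˣ | orderOf s ∈ D}.ncard) := by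
  have hne : ∀ s : Kˣ, orderOf s ∈ D → (s : K) ^ 2 ≠ 1 := by
    intro s hs h
    have h1 : s ^ 2 = 1 := Units.ext (by simpa using h)
    have h2 := Nat.le_of_dvd (by norm_num) (orderOf_dvd_of_pow_eq_one h1)
    have := (hD _ hs).1
    omega
  have h := count_by_order (Set.range R.h) R.NH D
    (by
      rintro g hg _ ⟨s, rfl⟩ hs
      rcases R.NH_conj hg s with h | h <;> rw [h]
      · exact ⟨_, rfl⟩
      · exact ⟨_, rfl⟩)
    (by
      rintro _ ⟨s, rfl⟩ hs g ⟨s', hs'⟩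
      rw [ord_h] at hs
      obtain ⟨r, ⟨h1, -⟩ | ⟨h1, -⟩⟩ := R.H_norm (hne s hs) hs'.symm
      · exact ⟨r, Or.inl h1⟩
      · exact ⟨r, Or.inr h1⟩)
    (by
      intro y hy
      obtain ⟨h1, h2⟩ := hD _ hy
      obtain ⟨p, hp, hp2, hpd⟩ := odd_prime_of h1 h2 (by omega)
      obtain ⟨g, s, hs⟩ := R.conj_torus hG hq hp hp2 (hpd.trans h2) hpd
      exact ⟨g, s, hs.symm⟩)
  have e : {x | x ∈ Set.range R.h ∧ orderOf x ∈ D} = R.h '' {s : Kˣ | orderOf s ∈ D} := by
    ext x
    constructor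
    · rintro ⟨⟨s, rfl⟩, hs⟩
      exact ⟨s, by rwa [ord_h] at hs, rfl⟩
    · rintro ⟨s, hs, rfl⟩
      exact ⟨⟨s, rfl⟩, by rwa [ord_h]⟩
  rw [e, Set.ncard_image_of_injective _ R.h_inj, R.card_NH, hG] at h
  have hpos : 0 < Fintype.card K - 1 := by omega
  apply Nat.eq_of_mul_eq_mul_left hpos
  calc (Fintype.card K - 1) * (2 * {y : G | orderOf y ∈ D}.ncard) = 2 * (Fintype.card K - 1) * {y : G | orderOf y ∈ D}.ncard := by ring
    _ = _ := by rw [h]; ring

include R in
/-- The number of elements of order `i`, `i > 2` dividing `q - 1`. -/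
theorem count_sp_one
    (hG : Nat.card G = (1 + Fintype.card K ^ 3) * (Fintype.card K ^ 3 * (Fintype.card K - 1)))
    (hq : 2 ≤ Fintype.card K) (hq8 : Fintype.card K % 8 = 3) {i : ℕ} (hi : 2 < i) (hd : i ∣ Fintype.card K - 1) :
    2 * {y : G | orderOf y = i}.ncard = Nat.totient i * Fintype.card K ^ 3 * (Fintype.card K ^ 3 + 1) := by
  have h := R.count_sp hG hq hq8 {i} (by
    rintro j rfl
    exact ⟨hi, hd⟩)
  simp only [Set.mem_singleton_iff] at h
  rw [h, ncard_order_cyclic (by rw [Nat.card_units, Nat.card_eq_fintype_card]; exact hd)]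
  ring

include R in
/-- The total number of elements of order `> 2` dividing `q - 1`. -/
theorem count_sp_all
    (hG : Nat.card G = (1 + Fintype.card K ^ 3) * (Fintype.card K ^ 3 * (Fintype.card K - 1)))
    (hq : 2 ≤ Fintype.card K) (hq8 : Fintype.card K % 8 = 3) :
    2 * {y : G | 2 < orderOf y ∧ orderOf y ∣ Fintype.card K - 1}.ncard =
      (Fintype.card K - 3) * Fintype.card K ^ 3 * (Fintype.card K ^ 3 + 1) := by
  classical
  have h := R.count_sp hG hq hq8 {i | 2 < i ∧ i ∣ Fintype.card K - 1} (fun i hi => hi)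
  simp only [Set.mem_setOf_eq] at h
  have hcard : Nat.card Kˣ = Fintype.card K - 1 := by rw [Nat.card_units, Nat.card_eq_fintype_card]
  have e : {s : Kˣ | 2 < orderOf s ∧ orderOf s ∣ Fintype.card K - 1} = ({1, -1} : Set Kˣ)ᶜ := by
    ext s
    simp only [Set.mem_setOf_eq, Set.mem_compl_iff, Set.mem_insert_iff, Set.mem_singleton_iff]
    constructor
    · rintro ⟨h2, -⟩ (rfl | rfl)
      · simp at h2
      · have : (-1 : Kˣ) ^ 2 = 1 := by simp
        have h3 := Nat.le_of_dvd (by norm_num) (orderOf_dvd_of_pow_eq_one this)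
        omega
    · intro hs
      constructor
      · by_contra hle
        have h0 := orderOf_pos s
        have h1 : s ^ 2 = 1 := by
          have : orderOf s = 1 ∨ orderOf s = 2 := by omega
          rcases this with h1 | h1
          · rw [orderOf_eq_one_iff.mp h1]
            simp
          · rw [← h1]
            exact pow_orderOf_eq_one s
        have h2 : (s : K) ^ 2 = 1 := by
          have := congrArg (fun u : Kˣ => (u : K)) h1
          simpa using this
        exact hs (units_sq h2)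
      · rw [← hcard]
        exact orderOf_dvd_natCard s
  rw [e] at h
  have h1 := Set.ncard_add_ncard_compl ({1, -1} : Set Kˣ) (Set.toFinite _) (Set.toFinite _)
  rw [Set.ncard_pair unit_neg_one_ne_one.symm, hcard] at h1
  have h2 : ({1, -1} : Set Kˣ)ᶜ.ncard = Fintype.card K - 3 := by omega
  rw [h, h2]
  ring

include R in
/-- Orders of elements of the split torus. -/
theorem exists_order_sp {d : ℕ} (hd : d ∣ Fintype.card K - 1) : ∃ y : G, orderOf y = d := by
  have hd' : d ∣ Nat.card Kˣ := by rwa [Nat.card_units, Nat.card_eq_fintype_card]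
  obtain ⟨s, hs⟩ := exists_order_cyclic hd'
  exact ⟨R.h s, by rw [ord_h, hs]⟩

include R in
/-- The cyclic subgroup of order `(q - 1)/2`, its normaliser. -/
theorem sp_part (hq8 : Fintype.card K % 8 = 3) (hq : 4 ≤ Fintype.card K) :
    ∃ A : Subgroup G, IsCyclic A ∧ Nat.card A = (Fintype.card K - 1) / 2 ∧
      Nat.card (Subgroup.normalizer (A : Set G)) = 2 * (Fintype.card K - 1) ∧
      ∀ A₀ : Subgroup G, A₀ ≤ A → A₀ ≠ ⊥ → Subgroup.normalizer (A₀ : Set G) = Subgroup.normalizer (A : Set G) := by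
  have hd' : (Fintype.card K - 1) / 2 ∣ Nat.card Kˣ := by
    rw [Nat.card_units, Nat.card_eq_fintype_card]
    exact Nat.div_dvd_of_dvd (by rw [Nat.dvd_iff_mod_eq_zero]; omega)
  obtain ⟨s₀, hs₀⟩ := exists_order_cyclic hd'
  have hodd : Odd ((Fintype.card K - 1) / 2) := by
    rw [Nat.odd_iff]
    omega
  have hN : ∀ A₀ : Subgroup G, A₀ ≤ Subgroup.zpowers (R.h s₀) → A₀ ≠ ⊥ → Subgroup.normalizer (A₀ : Set G) = R.NH := by
    intro A₀ hA₀ hb
    have hform : ∀ x ∈ A₀, ∃ s : Kˣ, x = R.h s := by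
      intro x hx
      obtain ⟨k, rfl⟩ := Subgroup.mem_zpowers_iff.mp (hA₀ hx)
      exact ⟨s₀ ^ k, by rw [map_zpow]⟩
    apply le_antisymm
    · intro g hg
      obtain ⟨⟨x, hx⟩, hx1'⟩ := Subgroup.ne_bot_iff_exists_ne_one.mp hb
      have hx1 : x ≠ 1 := fun h => hx1' (Subtype.ext h)
      obtain ⟨s, rfl⟩ := hform x hx
      have hgx := (Subgroup.mem_normalizer_iff.mp hg _).mp hx
      obtain ⟨s', hs'⟩ := hform _ hgx
      have hs2 : (s : K) ^ 2 ≠ 1 := by
        intro h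
        have h1 : s ^ 2 = 1 := Units.ext (by simpa using h)
        have h2 : R.h s ^ 2 = 1 := by rw [← map_pow, h1, map_one]
        have h3 : R.h s ^ ((Fintype.card K - 1) / 2) = 1 := by
          obtain ⟨k, hk⟩ := Subgroup.mem_zpowers_iff.mp (hA₀ hx)
          rw [← hk, ← zpow_natCast, ← _root_.zpow_mul, mul_comm, _root_.zpow_mul, zpow_natCast, ← map_pow, ← hs₀, pow_orderOf_eq_one, map_one, _root_.one_zpow]
        have h4 := pow_gcd_eq_one.mpr ⟨h2, h3⟩
        have h5 : Nat.gcd 2 ((Fintype.card K - 1) / 2) = 1 := Nat.Coprime.symm (hodd.coprime_two_right)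
        rw [h5, pow_one] at h4
        exact hx1 h4
      obtain ⟨r, ⟨h1, -⟩ | ⟨h1, -⟩⟩ := R.H_norm hs2 hs'
      · exact ⟨r, Or.inl h1⟩
      · exact ⟨r, Or.inr h1⟩
    · intro g hg
      apply mem_normalizer_of_forall
      intro x hx
      obtain ⟨s, rfl⟩ := hform x hx
      rcases R.NH_conj hg s with h | h
      · rw [h]
        exact hx
      · rw [h, map_inv]
        exact inv_mem hx
  refine ⟨Subgroup.zpowers (R.h s₀), inferInstance, ?_, ?_, ?_⟩
  · rw [Nat.card_zpowers, ord_h, hs₀]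
  · have hb : Subgroup.zpowers (R.h s₀) ≠ ⊥ := by
      intro h
      have h1 := Nat.card_zpowers (R.h s₀)
      rw [h, ord_h, hs₀] at h1
      simp only [Subgroup.card_bot] at h1
      omega
    rw [hN _ le_rfl hb, R.card_NH]
  · intro A₀ h1 h2
    have hb : Subgroup.zpowers (R.h s₀) ≠ ⊥ := by
      rintro h
      rw [h] at h1
      exact h2 (le_bot_iff.mp h1)
    rw [hN _ h1 h2, hN _ le_rfl hb]

end RD

end Cfsg.Agent.Lib.Ree
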