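import Cfsg.Agent.Lib.Ree.Tors

/-! The torus of order `q + 1` of the small Ree groups, its normaliser, and the counting of its elements. -/

set_option autoImplicit false
set_option linter.unusedSimpArgs false
set_option linter.unusedVariables false
set_option linter.unusedSectionVars false

namespace Cfsg.Agent.Lib.Ree

open Matrix Cfsg.Agent.Lib.Chev

/-- The hypotheses used in the counting. -/
structure Ctx {K : Type*} [Field K] [CharP K 3] [Fintype K] {f : K ≃+* K} {G : Type*} [Group G] [Finite G] (R : RD K f G) where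
  L : RD.RL R
  hsq : ∀ u : Kˣ, (∃ v, u = v * v) ∨ (∃ v, u = -1 * (v * v))
  hG : Nat.card G = (1 + Fintype.card K ^ 3) * (Fintype.card K ^ 3 * (Fintype.card K - 1))
  hq27 : 27 ≤ Fintype.card K
  hmod : Nat.card G % 16 = 8
  hq8 : Fintype.card K % 8 = 3
  hcyc : ∀ r : ℕ, r.Prime → 3 < r → ∀ P : Subgroup G, IsPGroup r P → IsCyclic P

/-- The quarter of `q + 1`. -/
def wq (K : Type*) [Fintype K] : ℕ := (Fintype.card K + 1) / 4

theorem mem_cent_conj {G : Type*} [Group G] (g x z : G) :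
    z ∈ Subgroup.centralizer {g * x * g⁻¹} ↔ g⁻¹ * z * g ∈ Subgroup.centralizer {x} := by
  rw [Subgroup.mem_centralizer_singleton_iff, Subgroup.mem_centralizer_singleton_iff]
  constructor
  · intro h
    calc g⁻¹ * z * g * x = g⁻¹ * (z * (g * x * g⁻¹)) * g := by group
      _ = g⁻¹ * ((g * x * g⁻¹) * z) * g := by rw [h]
      _ = x * (g⁻¹ * z * g) := by group
  · intro h
    calc z * (g * x * g⁻¹) = g * ((g⁻¹ * z * g) * x) * g⁻¹ := by group
      _ = g * (x * (g⁻¹ * z * g)) * g⁻¹ := by rw [h]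
      _ = g * x * g⁻¹ * z := by group

/-- Subgroups of cyclic groups are determined by their order. -/
theorem mem_of_pow_card {G : Type*} [Group G] [Finite G] {O A : Subgroup G} (hO : IsCyclic O) (hA : A ≤ O) {z : G} (hz : z ∈ O)
    (h : z ^ Nat.card A = 1) : z ∈ A := by
  classical
  have hcard : Nat.card (A.subgroupOf O) = Nat.card A := by
    rw [Nat.card_congr (Subgroup.subgroupOfEquivOfLe hA).toEquiv]
  set m := Nat.card A with hm
  have hmpos : 0 < m := Nat.card_pos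
  letI : Fintype O := Fintype.ofFinite O
  have hle := IsCyclic.card_pow_eq_one_le (α := O) (n := m) hmpos
  have hsub : ((A.subgroupOf O : Subgroup O) : Set O) = {x : O | x ^ m = 1} := by
    refine Set.eq_of_subset_of_ncard_le ?_ ?_ (Set.toFinite _)
    · intro x hx
      have := pow_card_eq_one' (x := (⟨x, hx⟩ : A.subgroupOf O))
      rw [hcard] at this
      exact congrArg Subtype.val this
    · have e1 : ((A.subgroupOf O : Subgroup O) : Set O).ncard = m := by
        rw [← Nat.card_coe_set_eq]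
        exact hcard
      rw [e1]
      have e2 : {x : O | x ^ m = 1}.ncard = (Finset.univ.filter fun x : O => x ^ m = 1).card := by
        rw [← Set.ncard_coe_finset]
        congr 1
        ext x
        simp
      rw [e2]
      exact hle
  have h2 : (⟨z, hz⟩ : O) ∈ {x : O | x ^ m = 1} := Subtype.ext (by simpa using h)
  rw [← hsub] at h2
  exact h2

namespace Ctx

variable {K : Type*} [Field K] [CharP K 3] [Fintype K] {f : K ≃+* K} {G : Type*} [Group G] [Finite G] {R : RD K f G} (C : Ctx R)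

include C

theorem hq : 2 ≤ Fintype.card K := by
  have := C.hq27
  omega

theorem hw : Fintype.card K + 1 = 4 * wq K := by
  unfold wq
  have := C.hq8
  omega

theorem hw_odd : Odd (wq K) := by
  rw [Nat.odd_iff]
  unfold wq
  have := C.hq8
  omega

theorem hw3 : ¬ 3 ∣ wq K := by
  have h3 := RD.RL.three_dvd_card (K := K)
  have h4 := C.hw
  omega

theorem hw7 : 7 ≤ wq K := by
  unfold wq
  have := C.hq27
  omega

theorem prime_dvd {p : ℕ} (hp : p.Prime) (hd : p ∣ wq K) : 3 < p ∧ p ∣ Fintype.card K + 1 := by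
  constructor
  · by_contra h
    have h2 := hp.two_le
    have : p = 2 ∨ p = 3 := by omega
    rcases this with rfl | rfl
    · obtain ⟨k, hk⟩ := C.hw_odd
      omega
    · exact C.hw3 hd
  · rw [C.hw]
    exact hd.trans (dvd_mul_left _ _)

theorem x_cent {x : G} (hp : (orderOf x).Prime) (hd : orderOf x ∣ wq K) :
    Nat.card ↥(Subgroup.centralizer {x}) = Fintype.card K + 1 ∧
      ∀ u ∈ Subgroup.centralizer {x}, ∀ v ∈ Subgroup.centralizer {x}, u * v = v * u := by
  obtain ⟨h3, h1⟩ := C.prime_dvd hp hd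
  exact C.L.cent_x C.hsq C.hG C.hq C.hmod (by have := C.hq8; omega) C.hcyc hp (by omega) (by omega) h1 rfl

theorem cent_eq {x y : G} (hx : (orderOf x).Prime) (hdx : orderOf x ∣ wq K) (hy : (orderOf y).Prime) (hdy : orderOf y ∣ wq K)
    (hyx : y ∈ Subgroup.centralizer {x}) : Subgroup.centralizer {y} = Subgroup.centralizer {x} := by
  obtain ⟨h1, h2⟩ := C.x_cent hx hdx
  obtain ⟨h3, h4⟩ := C.x_cent hy hdy
  symm
  apply Subgroup.eq_of_le_of_card_ge
  · intro z hz
    rw [Subgroup.mem_centralizer_singleton_iff]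
    exact h2 z hz y hyx
  · rw [h1, h3]

theorem h4 {z : G} (hz : z ^ 4 = 1) : z ^ 2 = 1 := by
  have := C.L.two_elt_sq C.hmod (k := 2) (z := z) (by simpa using hz)
  rw [pow_two, this]

theorem card_4w {x : G} (hx : (orderOf x).Prime) (hd : orderOf x ∣ wq K) :
    Nat.card ↥(Subgroup.centralizer {x}) = 4 * wq K := by
  rw [(C.x_cent hx hd).1, C.hw]

theorem O_cyc {x : G} (hx : (orderOf x).Prime) (hd : orderOf x ∣ wq K) :
    IsCyclic (tors (Subgroup.centralizer {x}) (C.x_cent hx hd).2 (wq K)) := by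
  have hc := (tors_card _ (C.x_cent hx hd).2 C.hw_odd (C.card_4w hx hd) (fun z _ hz => C.h4 hz)).1
  apply cyc_sub C.hcyc
  · intro u hu v hv
    exact (C.x_cent hx hd).2 u hu.1 v hv.1
  · rw [hc]
    obtain ⟨k, hk⟩ := C.hw_odd
    omega
  · rw [hc]
    exact C.hw3

theorem conj_cent {x x' : G} (hx : (orderOf x).Prime) (hd : orderOf x ∣ wq K) (hx' : (orderOf x').Prime) (hd' : orderOf x' ∣ wq K) :
    ∃ g, ∀ z, z ∈ Subgroup.centralizer {x'} ↔ g⁻¹ * z * g ∈ Subgroup.centralizer {x} := by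
  have hc := (tors_card _ (C.x_cent hx hd).2 C.hw_odd (C.card_4w hx hd) (fun z _ hz => C.h4 hz)).1
  have hc' := (tors_card _ (C.x_cent hx' hd').2 C.hw_odd (C.card_4w hx' hd') (fun z _ hz => C.h4 hz)).1
  obtain ⟨g, hg⟩ := conj_of_comm C.hcyc (d := wq K) (fun r hr hrd => (C.prime_dvd hr hrd).1)
    (fun y hy hyd => (C.x_cent hy hyd).2) _ _ (C.O_cyc hx hd) (C.O_cyc hx' hd') hc hc'
  have h1 : x' ∈ tors (Subgroup.centralizer {x'}) (C.x_cent hx' hd').2 (wq K) :=
    ⟨Subgroup.mem_centralizer_singleton_iff.mpr rfl, orderOf_dvd_iff_pow_eq_one.mp hd'⟩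
  rw [hg] at h1
  obtain ⟨u, hu, e⟩ := Subgroup.mem_map.mp h1
  have e' : x' = g * u * g⁻¹ := e.symm
  have hou : orderOf u = orderOf x' := by rw [e', ord_conj]
  have hu1 : (orderOf u).Prime := by rwa [hou]
  have hu2 : orderOf u ∣ wq K := by rwa [hou]
  refine ⟨g, fun z => ?_⟩
  rw [e', mem_cent_conj, C.cent_eq hx hd hu1 hu2 hu.1]

theorem conj_into {x₀ y : G} (hx : (orderOf x₀).Prime) (hd : orderOf x₀ ∣ wq K) {l : ℕ} (hl : l.Prime) (hlw : l ∣ wq K)
    (hly : l ∣ orderOf y) : ∃ g, g * y * g⁻¹ ∈ Subgroup.centralizer {x₀} := by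
  have ho : orderOf (y ^ (orderOf y / l)) = l := orderOf_pow_orderOf_div (orderOf_pos y).ne' hly
  obtain ⟨g, hg⟩ := C.conj_cent hx hd (x' := y ^ (orderOf y / l)) (by rwa [ho]) (by rwa [ho])
  refine ⟨g⁻¹, ?_⟩
  rw [inv_inv]
  rw [← hg]
  rw [Subgroup.mem_centralizer_singleton_iff]
  exact (Commute.pow_right (Commute.refl y) _)

theorem TI_x {x₀ u g : G} (hx : (orderOf x₀).Prime) (hd : orderOf x₀ ∣ wq K) (hu : u ∈ Subgroup.centralizer {x₀}) {l : ℕ} (hl : l.Prime)
    (hlw : l ∣ wq K) (hlu : l ∣ orderOf u) (hg : g * u * g⁻¹ ∈ Subgroup.centralizer {x₀}) :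
    g ∈ Subgroup.normalizer (Subgroup.centralizer {x₀} : Set G) := by
  have ho : orderOf (u ^ (orderOf u / l)) = l := orderOf_pow_orderOf_div (orderOf_pos u).ne' hlu
  set u' := u ^ (orderOf u / l) with hu'
  have hu'm : u' ∈ Subgroup.centralizer {x₀} := pow_mem hu _
  have e1 := C.cent_eq hx hd (y := u') (by rwa [ho]) (by rwa [ho]) hu'm
  have hv : g * u' * g⁻¹ = (g * u * g⁻¹) ^ (orderOf u / l) := by
    rw [hu', conj_pow]
  have hvm : g * u' * g⁻¹ ∈ Subgroup.centralizer {x₀} := by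
    rw [hv]
    exact pow_mem hg _
  have hvo : orderOf (g * u' * g⁻¹) = l := by rw [ord_conj, ho]
  have e2 := C.cent_eq hx hd (y := g * u' * g⁻¹) (by rwa [hvo]) (by rwa [hvo]) hvm
  apply mem_normalizer_of_forall
  intro z hz
  have h1 : z ∈ Subgroup.centralizer {u'} := by rwa [e1]
  show g * z * g⁻¹ ∈ Subgroup.centralizer {x₀}
  rw [← e2, mem_cent_conj]
  have e3 : g⁻¹ * (g * z * g⁻¹) * g = z := by group
  rwa [e3]

/-- An element of odd prime order dividing `q + 1` centralising `a` comes from `SL₂`. -/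
theorem x_lift {x : G} {l : ℕ} (hl : l.Prime) (hl2 : l ≠ 2) (hl3 : l ≠ 3) (hd : l ∣ Fintype.card K + 1) (hx : orderOf x = l)
    (hc : x * R.h (-1) = R.h (-1) * x) :
    ∃ g : SpecialLinearGroup (Fin 2) K, x = C.L.φ g ∧ g ^ l = 1 ∧ g ≠ 1 ∧ ∀ u : K, u ^ 2 + (g.1 0 0 + g.1 1 1) * u + 1 ≠ 0 := by
  have hodd : Odd l := hl.odd_of_ne_two hl2
  obtain ⟨⟨e, p⟩, hep⟩ := C.L.Phi_surj C.hsq hc
  have hpow : ((e, p) : Multiplicative (ZMod 2) × ProjectiveSpecialLinearGroup (Fin 2) K) ^ l = 1 := by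
    apply C.L.Phi_inj
    rw [map_pow, hep, ← hx, pow_orderOf_eq_one, map_one]
  have he : e = 1 := RD.RL.mp2_odd e hodd (congrArg Prod.fst hpow)
  subst he
  have hp : p ^ l = 1 := congrArg Prod.snd hpow
  have hp1 : p ≠ 1 := by
    rintro rfl
    have : x = 1 := by
      rw [← hep]
      exact map_one _
    rw [this, orderOf_one] at hx
    exact hl.one_lt.ne hx
  obtain ⟨g, rfl, hgl⟩ := RD.RL.ex_g hodd hp
  have hg1 : g ≠ 1 := by
    rintro rfl
    exact hp1 rfl
  refine ⟨g, ?_, hgl, hg1, RD.RL.no_eig hl hl2 hl3 hd hgl hg1 C.hq⟩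
  rw [← hep, RD.RL.Phi_apply, chiHom_one, one_mul]

theorem conj_two {x g : G} {l : ℕ} (hl : l.Prime) (hl2 : l ≠ 2) (hl3 : l ≠ 3) (hd : l ∣ Fintype.card K + 1) (hx : orderOf x = l)
    (hc : x * R.h (-1) = R.h (-1) * x) (hg : g * R.h (-1) = R.h (-1) * g) (hgx : (g * x * g⁻¹) * x = x * (g * x * g⁻¹)) :
    g * x * g⁻¹ = x ∨ g * x * g⁻¹ = x⁻¹ := by
  obtain ⟨g₀, rfl, h1, h2, h3⟩ := C.x_lift hl hl2 hl3 hd hx hc
  obtain ⟨⟨e, p⟩, rfl⟩ := C.L.Phi_surj C.hsq hg
  obtain ⟨b, rfl⟩ := QuotientGroup.mk_surjective p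
  rw [RD.RL.Phi_apply, C.L.conj_chi] at hgx ⊢
  have h4 : QuotientGroup.mk ((b * g₀ * b⁻¹) * g₀) = (QuotientGroup.mk (g₀ * (b * g₀ * b⁻¹)) : ProjectiveSpecialLinearGroup (Fin 2) K) := by
    apply C.L.phiBar_inj
    rw [RD.RL.phiBar_mk, RD.RL.phiBar_mk, map_mul C.L.φ (b * g₀ * b⁻¹) g₀, map_mul C.L.φ g₀ (b * g₀ * b⁻¹)]
    exact hgx
  have h5 := lift_comm (RD.two_ne (K := K)) g₀ (b * g₀ * b⁻¹) (hl.odd_of_ne_two hl2) h1 h4
  rcases conj_cases (RD.two_ne (K := K)) g₀ b h3 h5 with h6 | h6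
  · left
    rw [h6]
  · right
    rw [h6, map_inv]

theorem exists_inv {x : G} {l : ℕ} (hl : l.Prime) (hl2 : l ≠ 2) (hl3 : l ≠ 3) (hd : l ∣ Fintype.card K + 1) (hx : orderOf x = l)
    (hc : x * R.h (-1) = R.h (-1) * x) : ∃ g, g * R.h (-1) = R.h (-1) * g ∧ g * x * g⁻¹ = x⁻¹ := by
  obtain ⟨g₀, rfl, h1, h2, h3⟩ := C.x_lift hl hl2 hl3 hd hx hc
  have hodd : Fintype.card K % 2 = 1 := by
    have := C.hq8
    omega
  obtain ⟨i, hi⟩ := exists_invert hodd (RD.two_ne (K := K)) g₀ h3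
  refine ⟨C.L.φ i, (C.L.a_φ i).symm, ?_⟩
  rw [← map_inv, ← map_inv, ← hi, map_mul, map_mul, map_inv]

/-- The order of the normaliser. -/
theorem card_N {x₀ : G} (hx : (orderOf x₀).Prime) (hd : orderOf x₀ ∣ wq K) (hxa : x₀ * R.h (-1) = R.h (-1) * x₀) :
    Nat.card (Subgroup.normalizer (Subgroup.centralizer {x₀} : Set G)) = 6 * (Fintype.card K + 1) := by
  classical
  set l := orderOf x₀ with hl
  obtain ⟨hl3, hld⟩ := C.prime_dvd hx hd
  obtain ⟨hc, hA⟩ := C.x_cent hx hd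
  set A₀ := Subgroup.centralizer {x₀} with hA₀
  set N := Subgroup.normalizer (A₀ : Set G) with hN
  have haA : R.h (-1) ∈ A₀ := Subgroup.mem_centralizer_singleton_iff.mpr hxa.symm
  have ha1 : R.h (-1) ≠ 1 := by
    intro h
    exact RD.unit_neg_one_ne_one (R.h_inj (by rw [h, map_one]))
  have ha2 : R.h (-1) * R.h (-1) = 1 := RD.RL.a_sq R
  have hV := (tors_card A₀ hA C.hw_odd (C.card_4w hx hd) (fun z _ hz => C.h4 hz)).2
  -- the first orbit
  set X : Set G := {v | v ∈ tors A₀ hA 2 ∧ v ≠ 1} with hX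
  have hXc : X.ncard = 3 := by
    have h3 : X = (tors A₀ hA 2 : Set G) \ {1} := by
      ext v
      simp [hX]
    rw [h3, Set.ncard_sdiff_singleton_of_mem (one_mem (tors A₀ hA 2)), ← Nat.card_coe_set_eq]
    simp only [SetLike.coe_sort_coe]
    omega
  have hcardN : Nat.card N = X.ncard * Nat.card ↥(N ⊓ Subgroup.centralizer {R.h (-1)}) := by
    apply card_orbit_form
    · intro g hg
      refine ⟨⟨(Subgroup.mem_normalizer_iff.mp hg _).mp haA, ?_⟩, ?_⟩
      · rw [conj_pow, pow_two, ha2]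
        group
      · intro h
        apply ha1
        have e : R.h (-1) = g⁻¹ * (g * R.h (-1) * g⁻¹) * g := by group
        rw [e, h]
        group
    · rintro y ⟨hy, hy1⟩
      have hy2 : y * y = 1 := by
        have := hy.2
        rwa [pow_two] at this
      have hconj := (C.L.inv_conj C.hG C.hq C.hmod hy2 hy1).symm
      obtain ⟨c, hcy⟩ := isConj_iff.mp hconj
      -- two elements of order `l` in the centraliser of `y`
      have hu : c * x₀ * c⁻¹ ∈ Subgroup.centralizer {y} := by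
        rw [Subgroup.mem_centralizer_singleton_iff, ← hcy]
        have := RD.RL.conj_comm c hxa
        exact this
      have hv : x₀ ∈ Subgroup.centralizer {y} := by
        rw [Subgroup.mem_centralizer_singleton_iff]
        exact (Subgroup.mem_centralizer_singleton_iff.mp hy.1).symm
      obtain ⟨e, he, hem⟩ := conj_in_sub C.hcyc (Subgroup.centralizer {y}) hu hv hx hl3 (by rw [ord_conj]) rfl
        (fun z hz => (C.x_cent (by rw [hz]; exact hx) (by rw [hz]; exact hd)).2)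
      set g := e * c with hg
      have hgx : g * x₀ * g⁻¹ ∈ Subgroup.zpowers x₀ := by
        have : g * x₀ * g⁻¹ = e * (c * x₀ * c⁻¹) * e⁻¹ := by rw [hg]; group
        rw [this]
        exact hem
      have hgA : g * x₀ * g⁻¹ ∈ A₀ := by
        obtain ⟨k, hk⟩ := Subgroup.mem_zpowers_iff.mp hgx
        rw [← hk]
        exact zpow_mem (Subgroup.mem_centralizer_singleton_iff.mpr rfl) _
      refine ⟨g, C.TI_x hx hd (Subgroup.mem_centralizer_singleton_iff.mpr rfl) hx hd (dvd_refl _) hgA, ?_⟩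
      have e1 : g * R.h (-1) * g⁻¹ = e * (c * R.h (-1) * c⁻¹) * e⁻¹ := by rw [hg]; group
      rw [e1, hcy, Subgroup.mem_centralizer_singleton_iff.mp he]
      group
  have hcard2 : Nat.card ↥(N ⊓ Subgroup.centralizer {R.h (-1)}) = 2 * (Fintype.card K + 1) := by
    have hne : x₀ ≠ x₀⁻¹ := by
      intro h
      have h1 : x₀ ^ 2 = 1 := by
        rw [pow_two]
        nth_rewrite 1 [h]
        exact inv_mul_cancel x₀
      have h2 := Nat.le_of_dvd (by norm_num) (orderOf_dvd_of_pow_eq_one h1)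
      omega
    have hself : x₀ ∈ A₀ := Subgroup.mem_centralizer_singleton_iff.mpr rfl
    have h5 : Nat.card ↥(N ⊓ Subgroup.centralizer {R.h (-1)}) =
        ({x₀, x₀⁻¹} : Set G).ncard * Nat.card ↥((N ⊓ Subgroup.centralizer {R.h (-1)}) ⊓ Subgroup.centralizer {x₀}) := by
      apply card_orbit_form
      · rintro g ⟨hg1, hg2⟩
        have hgm := (Subgroup.mem_normalizer_iff.mp hg1 _).mp hself
        have hcomm : (g * x₀ * g⁻¹) * x₀ = x₀ * (g * x₀ * g⁻¹) := by
          exact (Subgroup.mem_centralizer_singleton_iff.mp hgm)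
        rcases C.conj_two hx (by omega) (by omega) hld rfl hxa (Subgroup.mem_centralizer_singleton_iff.mp hg2) hcomm with h | h
        · left
          exact h
        · right
          exact h
      · rintro y (rfl | rfl)
        · exact ⟨1, one_mem _, by group⟩
        · obtain ⟨g, hg1, hg2⟩ := C.exists_inv hx (by omega) (by omega) hld rfl hxa
          refine ⟨g, ⟨?_, Subgroup.mem_centralizer_singleton_iff.mpr hg1⟩, hg2⟩
          apply C.TI_x hx hd hself hx hd (dvd_refl _)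
          rw [hg2]
          exact inv_mem hself
    have e : (N ⊓ Subgroup.centralizer {R.h (-1)}) ⊓ Subgroup.centralizer {x₀} = A₀ := by
      apply le_antisymm
      · exact inf_le_right
      · intro z hz
        exact ⟨⟨Subgroup.le_normalizer hz, Subgroup.mem_centralizer_singleton_iff.mpr (hA z hz _ haA)⟩, hz⟩
    rw [h5, e, hc, Set.ncard_pair hne]
  rw [hcardN, hXc, hcard2]
  ring

/-- An element of prime order dividing `wq` centralising `a`. -/
theorem exists_x₀ : ∃ x₀ : G, (orderOf x₀).Prime ∧ orderOf x₀ ∣ wq K ∧ x₀ * R.h (-1) = R.h (-1) * x₀ := by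
  have hw1 : wq K ≠ 1 := by
    have := C.hw7
    omega
  obtain ⟨p, hp, hpw⟩ := Nat.exists_prime_and_dvd hw1
  haveI : Fact p.Prime := ⟨hp⟩
  obtain ⟨hp3, hpd⟩ := C.prime_dvd hp hpw
  have hpG : p ∣ Nat.card G := by
    rw [C.hG]
    have h1 : Fintype.card K + 1 ∣ 1 + Fintype.card K ^ 3 := by
      have := Odd.nat_add_dvd_pow_add_pow (Fintype.card K) 1 (n := 3) (by decide)
      simpa [add_comm] using this
    exact Dvd.dvd.mul_right (hpd.trans h1) _
  obtain ⟨x, hx⟩ := exists_prime_orderOf_dvd_card' (G := G) p hpG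
  have hPx : IsPGroup p ↥(Subgroup.zpowers x) := by
    rintro ⟨w, i, rfl⟩
    refine ⟨1, Subtype.ext ?_⟩
    show (x ^ i) ^ (p ^ 1) = 1
    rw [pow_one, ← zpow_natCast, ← _root_.zpow_mul, mul_comm, _root_.zpow_mul, zpow_natCast, ← hx, pow_orderOf_eq_one, _root_.one_zpow]
  have hz : ((Fintype.card K : ℕ) : ZMod p) = -1 := by
    have := (ZMod.natCast_eq_zero_iff _ _).mpr hpd
    push_cast at this
    exact eq_neg_of_add_eq_zero_left this
  obtain ⟨t, ht, htc⟩ := C.L.fix_Cl C.hG C.hq (by omega) hz _ hPx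
  obtain ⟨c, hc⟩ := isConj_iff.mp ht
  refine ⟨c * x * c⁻¹, ?_, ?_, ?_⟩
  · rw [ord_conj, hx]
    exact hp
  · rw [ord_conj, hx]
    exact hpw
  · rw [← hc]
    exact RD.RL.conj_comm c (htc x (Subgroup.mem_zpowers x))

/-- The basic count. -/
theorem count_gen {x₀ : G} (hx : (orderOf x₀).Prime) (hd : orderOf x₀ ∣ wq K) (hxa : x₀ * R.h (-1) = R.h (-1) * x₀)
    (D : Set ℕ) (hD : ∀ i ∈ D, ∃ l : ℕ, l.Prime ∧ l ∣ wq K ∧ l ∣ i) :
    6 * (Fintype.card K + 1) * {y : G | orderOf y ∈ D}.ncard =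
      Nat.card G * {z | z ∈ Subgroup.centralizer {x₀} ∧ orderOf z ∈ D}.ncard := by
  rw [← C.card_N hx hd hxa]
  apply count_by_order
  · intro g hg z hz _
    exact (Subgroup.mem_normalizer_iff.mp hg _).mp hz
  · intro z hz hzD g hg
    obtain ⟨l, hl, hlw, hli⟩ := hD _ hzD
    exact C.TI_x hx hd hz hl hlw hli hg
  · intro y hy
    obtain ⟨l, hl, hlw, hli⟩ := hD _ hy
    exact C.conj_into hx hd hl hlw hli

end Ctx

end Cfsg.Agent.Lib.Ree
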