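import Cfsg.Agent.Lib.Ree.CntQ

/-! Counting the elements of the torus of order `q + 1`. -/

set_option autoImplicit false
set_option linter.unusedSimpArgs false
set_option linter.unusedVariables false
set_option linter.unusedSectionVars false

namespace Cfsg.Agent.Lib.Ree

/-- `q² - q + 1`. -/
def nq (K : Type*) [Fintype K] : ℕ := Fintype.card K ^ 2 - Fintype.card K + 1

theorem ncard_sub_order {G : Type*} [Group G] (H : Subgroup G) (D : Set ℕ) :
    {x | x ∈ H ∧ orderOf x ∈ D}.ncard = {a : H | orderOf a ∈ D}.ncard := by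
  have e : {x | x ∈ H ∧ orderOf x ∈ D} = H.subtype '' {a : H | orderOf a ∈ D} := by
    ext x
    constructor
    · rintro ⟨hx, hD⟩
      exact ⟨⟨x, hx⟩, by simpa using hD, rfl⟩
    · rintro ⟨a, ha, rfl⟩
      exact ⟨a.2, by simpa using ha⟩
  rw [e, Set.ncard_image_of_injective _ H.subtype_injective]

theorem exists_pow_order {G : Type*} [Group G] [Finite G] (x : G) {d : ℕ} (hd : d ∣ orderOf x) : ∃ y : G, orderOf y = d :=
  ⟨x ^ (orderOf x / d), orderOf_pow_orderOf_div (orderOf_pos x).ne' hd⟩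

namespace Ctx

variable {K : Type*} [Field K] [CharP K 3] [Fintype K] {f : K ≃+* K} {G : Type*} [Group G] [Finite G] {R : RD K f G} (C : Ctx R)

include C

theorem hnq : 1 + Fintype.card K ^ 3 = (Fintype.card K + 1) * nq K := by
  have h := C.hq
  unfold nq
  obtain ⟨r, hr⟩ : ∃ r, Fintype.card K = r + 2 := ⟨Fintype.card K - 2, by omega⟩
  rw [hr]
  have e : (r + 2) ^ 2 - (r + 2) = r ^ 2 + 3 * r + 2 := by
    apply Nat.sub_eq_of_eq_add
    ring
  rw [e]
  ring

theorem hGn : Nat.card G = (Fintype.card K + 1) * (nq K * (Fintype.card K ^ 3 * (Fintype.card K - 1))) := by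
  rw [C.hG, C.hnq]
  ring

section

variable {x₀ : G} (hx : (orderOf x₀).Prime) (hd : orderOf x₀ ∣ wq K) (hxa : x₀ * R.h (-1) = R.h (-1) * x₀)

include hx hd hxa

/-- The count for odd orders. -/
theorem count_D (D : Set ℕ) (hD : ∀ i ∈ D, 1 < i ∧ i ∣ wq K) :
    6 * {y : G | orderOf y ∈ D}.ncard =
      {z | z ∈ tors (Subgroup.centralizer {x₀}) (C.x_cent hx hd).2 (wq K) ∧ orderOf z ∈ D}.ncard *
        (nq K * (Fintype.card K ^ 3 * (Fintype.card K - 1))) := by
  have h := C.count_gen hx hd hxa D (fun i hi => ⟨i.minFac, Nat.minFac_prime (by have := (hD i hi).1; omega), (Nat.minFac_dvd i).trans (hD i hi).2, Nat.minFac_dvd i⟩)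
  have e : {z | z ∈ Subgroup.centralizer {x₀} ∧ orderOf z ∈ D} =
      {z | z ∈ tors (Subgroup.centralizer {x₀}) (C.x_cent hx hd).2 (wq K) ∧ orderOf z ∈ D} := by
    ext z
    constructor
    · rintro ⟨h1, h2⟩
      exact ⟨⟨h1, orderOf_dvd_iff_pow_eq_one.mp (hD _ h2).2⟩, h2⟩
    · rintro ⟨h1, h2⟩
      exact ⟨h1.1, h2⟩
  rw [e, C.hGn] at h
  have hpos : 0 < Fintype.card K + 1 := by omega
  apply Nat.eq_of_mul_eq_mul_left hpos
  calc (Fintype.card K + 1) * (6 * {y : G | orderOf y ∈ D}.ncard) = 6 * (Fintype.card K + 1) * {y : G | orderOf y ∈ D}.ncard := by ring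
    _ = _ := by rw [h]; ring

/-- The count for twice odd orders. -/
theorem count_2D (D : Set ℕ) (hD : ∀ i ∈ D, 1 < i ∧ i ∣ wq K) :
    2 * {y : G | ∃ i ∈ D, orderOf y = 2 * i}.ncard =
      {z | z ∈ tors (Subgroup.centralizer {x₀}) (C.x_cent hx hd).2 (wq K) ∧ orderOf z ∈ D}.ncard *
        (nq K * (Fintype.card K ^ 3 * (Fintype.card K - 1))) := by
  have h := C.count_gen hx hd hxa {j | ∃ i ∈ D, j = 2 * i} (by
    rintro _ ⟨i, hi, rfl⟩
    exact ⟨i.minFac, Nat.minFac_prime (by have := (hD i hi).1; omega), (Nat.minFac_dvd i).trans (hD i hi).2, (Nat.minFac_dvd i).trans (dvd_mul_left _ _)⟩)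
  simp only [Set.mem_setOf_eq] at h
  have e := ncard_even_set (C.x_cent hx hd).2 C.hw_odd (C.card_4w hx hd) (fun z _ hz => C.h4 hz) D (fun i hi => (hD i hi).2)
  rw [e, C.hGn] at h
  have hpos : 0 < 3 * (Fintype.card K + 1) := by omega
  apply Nat.eq_of_mul_eq_mul_left hpos
  calc 3 * (Fintype.card K + 1) * (2 * {y : G | ∃ i ∈ D, orderOf y = 2 * i}.ncard) = 6 * (Fintype.card K + 1) * {y : G | ∃ i ∈ D, orderOf y = 2 * i}.ncard := by ring
    _ = _ := by rw [h]; ring

theorem card_tors_one {i : ℕ} (h1 : 1 < i) (hi : i ∣ wq K) :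
    {z | z ∈ tors (Subgroup.centralizer {x₀}) (C.x_cent hx hd).2 (wq K) ∧ orderOf z ∈ ({i} : Set ℕ)}.ncard = Nat.totient i := by
  have hc := (tors_card _ (C.x_cent hx hd).2 C.hw_odd (C.card_4w hx hd) (fun z _ hz => C.h4 hz)).1
  rw [ncard_sub_order]
  haveI := C.O_cyc hx hd
  simp only [Set.mem_singleton_iff]
  exact ncard_order_cyclic (by rw [hc]; exact hi)

theorem card_tors_all :
    {z | z ∈ tors (Subgroup.centralizer {x₀}) (C.x_cent hx hd).2 (wq K) ∧ orderOf z ∈ {i | 1 < i ∧ i ∣ wq K}}.ncard = wq K - 1 := by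
  have hc := (tors_card _ (C.x_cent hx hd).2 C.hw_odd (C.card_4w hx hd) (fun z _ hz => C.h4 hz)).1
  have e : {z | z ∈ tors (Subgroup.centralizer {x₀}) (C.x_cent hx hd).2 (wq K) ∧ orderOf z ∈ {i | 1 < i ∧ i ∣ wq K}} =
      (tors (Subgroup.centralizer {x₀}) (C.x_cent hx hd).2 (wq K) : Set G) \ {1} := by
    ext z
    simp only [Set.mem_setOf_eq, Set.mem_diff, SetLike.mem_coe, Set.mem_singleton_iff]
    constructor
    · rintro ⟨h1, h2, h3⟩
      refine ⟨h1, ?_⟩
      rintro rfl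
      simp at h2
    · rintro ⟨h1, h2⟩
      refine ⟨h1, ?_, orderOf_dvd_of_pow_eq_one h1.2⟩
      have h3 := orderOf_pos z
      have h4 : orderOf z ≠ 1 := fun h => h2 (orderOf_eq_one_iff.mp h)
      omega
  rw [e, Set.ncard_sdiff_singleton_of_mem (one_mem _), ← Nat.card_coe_set_eq]
  simp only [SetLike.coe_sort_coe]
  rw [hc]

/-- Orders dividing `(q + 1) / 4`. -/
theorem count_one {i : ℕ} (h1 : 1 < i) (hi : i ∣ wq K) :
    6 * {y : G | orderOf y = i}.ncard = Nat.totient i * (nq K * (Fintype.card K ^ 3 * (Fintype.card K - 1))) := by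
  have h := C.count_D hx hd hxa {i} (by
    rintro j rfl
    exact ⟨h1, hi⟩)
  rw [C.card_tors_one hx hd hxa h1 hi] at h
  exact h

theorem count_two {i : ℕ} (h1 : 1 < i) (hi : i ∣ wq K) :
    2 * {y : G | orderOf y = 2 * i}.ncard = Nat.totient i * (nq K * (Fintype.card K ^ 3 * (Fintype.card K - 1))) := by
  have h := C.count_2D hx hd hxa {i} (by
    rintro j rfl
    exact ⟨h1, hi⟩)
  rw [C.card_tors_one hx hd hxa h1 hi] at h
  simpa using h

theorem count_all :
    6 * {y : G | 1 < orderOf y ∧ orderOf y ∣ wq K}.ncard = (wq K - 1) * (nq K * (Fintype.card K ^ 3 * (Fintype.card K - 1))) := by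
  have h := C.count_D hx hd hxa {i | 1 < i ∧ i ∣ wq K} (fun i hi => hi)
  rw [C.card_tors_all hx hd hxa] at h
  exact h

theorem count_two_all :
    2 * {y : G | ∃ i, (1 < i ∧ i ∣ wq K) ∧ orderOf y = 2 * i}.ncard = (wq K - 1) * (nq K * (Fintype.card K ^ 3 * (Fintype.card K - 1))) := by
  have h := C.count_2D hx hd hxa {i | 1 < i ∧ i ∣ wq K} (fun i hi => hi)
  rw [C.card_tors_all hx hd hxa] at h
  exact h

/-- The cyclic subgroup of order `(q + 1)/4`, its normaliser. -/
theorem w_part :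
    ∃ A : Subgroup G, IsCyclic A ∧ Nat.card A = wq K ∧
      Nat.card (Subgroup.normalizer (A : Set G)) = 6 * (Fintype.card K + 1) ∧
      ∀ A₀ : Subgroup G, A₀ ≤ A → A₀ ≠ ⊥ → Subgroup.normalizer (A₀ : Set G) = Subgroup.normalizer (A : Set G) := by
  have hc := (tors_card _ (C.x_cent hx hd).2 C.hw_odd (C.card_4w hx hd) (fun z _ hz => C.h4 hz)).1
  have hcy := C.O_cyc hx hd
  set O := tors (Subgroup.centralizer {x₀}) (C.x_cent hx hd).2 (wq K) with hO
  have hN : ∀ A₀ : Subgroup G, A₀ ≤ O → A₀ ≠ ⊥ → Subgroup.normalizer (A₀ : Set G) = Subgroup.normalizer (Subgroup.centralizer {x₀} : Set G) := by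
    intro A₀ hA₀ hb
    apply le_antisymm
    · intro g hg
      obtain ⟨⟨z, hz⟩, hz1'⟩ := Subgroup.ne_bot_iff_exists_ne_one.mp hb
      have hz1 : z ≠ 1 := fun h => hz1' (Subtype.ext h)
      have h2 : orderOf z ≠ 1 := fun h => hz1 (orderOf_eq_one_iff.mp h)
      obtain ⟨l, hl, hlz⟩ := Nat.exists_prime_and_dvd h2
      have h3 : z ∈ O := hA₀ hz
      have h4 : g * z * g⁻¹ ∈ O := hA₀ ((Subgroup.mem_normalizer_iff.mp hg _).mp hz)
      exact C.TI_x hx hd h3.1 hl (hlz.trans (orderOf_dvd_of_pow_eq_one h3.2)) hlz h4.1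
    · intro g hg
      apply mem_normalizer_of_forall
      intro z hz
      apply mem_of_pow_card hcy hA₀
      · refine ⟨(Subgroup.mem_normalizer_iff.mp hg _).mp (hA₀ hz).1, ?_⟩
        rw [conj_pow, (hA₀ hz).2]
        group
      · have : (⟨z, hz⟩ : A₀) ^ Nat.card A₀ = 1 := pow_card_eq_one'
        have e : z ^ Nat.card A₀ = 1 := by
          have h2 := congrArg Subtype.val this
          rw [SubmonoidClass.coe_pow] at h2
          exact h2
        rw [conj_pow, e]
        group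
  have hOb : O ≠ ⊥ := by
    intro h
    rw [h] at hc
    simp only [Subgroup.card_bot] at hc
    have := C.hw7
    omega
  refine ⟨O, hcy, hc, ?_, ?_⟩
  · rw [hN O le_rfl hOb, C.card_N hx hd hxa]
  · intro A₀ h1 h2
    rw [hN A₀ h1 h2, hN O le_rfl hOb]

/-- Existence of elements of order dividing `(q + 1) / 2`. -/
theorem exists_order_w2 {d : ℕ} (hdv : d ∣ 2 * wq K) : ∃ y : G, orderOf y = d := by
  have hc := (tors_card _ (C.x_cent hx hd).2 C.hw_odd (C.card_4w hx hd) (fun z _ hz => C.h4 hz)).1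
  haveI := C.O_cyc hx hd
  obtain ⟨u, hu⟩ := exists_order_cyclic (H := tors (Subgroup.centralizer {x₀}) (C.x_cent hx hd).2 (wq K)) (d := wq K) (by rw [hc])
  obtain ⟨z, hz, hz2⟩ := exists_two_mul (C.x_cent hx hd).2 C.hw_odd (C.card_4w hx hd) (fun z _ hz => C.h4 hz) u.2
  rw [Subgroup.orderOf_coe, hu] at hz2
  exact exists_pow_order z (by rw [hz2]; exact hdv)

end

end Ctx

end Cfsg.Agent.Lib.Ree
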