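import Cfsg.Agent.Lib.Ree.Cls

/-! The tori of order dividing `q² - q + 1`. -/

set_option autoImplicit false
set_option linter.unusedSimpArgs false
set_option linter.unusedVariables false
set_option linter.unusedSectionVars false

namespace Cfsg.Agent.Lib.Ree

/-- The further hypotheses needed for the third kind of tori. -/
structure Ctx3 {K : Type*} [Field K] [CharP K 3] [Fintype K] {f : K ≃+* K} {G : Type*} [Group G] [Finite G] (R : RD K f G)
    extends Ctx R where
  hCy : ∀ {y : G}, (orderOf y).Prime → orderOf y ∣ nq K →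
    ∀ u ∈ Subgroup.centralizer {y}, ∀ v ∈ Subgroup.centralizer {y}, u * v = v * u
  hNy : ∀ {y : G}, (orderOf y).Prime → orderOf y ∣ nq K → ∀ (g : G) (j : ℕ), g * y * g⁻¹ = y ^ j →
    ∃ i : ℕ, (j : ZMod (orderOf y)) = (Fintype.card K : ZMod (orderOf y)) ^ i

namespace Ctx3

variable {K : Type*} [Field K] [CharP K 3] [Fintype K] {f : K ≃+* K} {G : Type*} [Group G] [Finite G] {R : RD K f G} (D : Ctx3 R)

include D

/-- Primes dividing `q² - q + 1` are at least seven. -/
theorem prime_ge7 {l : ℕ} (hl : l.Prime) (h : l ∣ nq K) : 7 ≤ l := by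
  obtain ⟨h2, h3, -⟩ := D.toCtx.nq_prime hl h
  haveI : Fact l.Prime := ⟨hl⟩
  have h4 : 3 < l := by
    have := hl.two_le
    omega
  have hq1 : 1 ≤ Fintype.card K := by
    have := D.toCtx.hq
    omega
  have hz : ((Fintype.card K : ℕ) : ZMod l) ^ 2 - ((Fintype.card K : ℕ) : ZMod l) + 1 = 0 := by
    have h5 := (ZMod.natCast_eq_zero_iff (nq K) l).mpr h
    unfold nq at h5
    rw [Nat.cast_add, Nat.cast_sub (Nat.le_self_pow (by norm_num) _)] at h5
    simpa using h5
  have hne : ((Fintype.card K : ℕ) : ZMod l) ≠ 0 := by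
    intro h5
    rw [ZMod.natCast_eq_zero_iff] at h5
    exact (D.toCtx.nq_prime hl h).2.2.1 h5
  have h6 := ZMod.pow_card_sub_one_eq_one hne
  have h7 := ord6 h4 hz (by have := hl.two_le; omega) h6
  omega

/-- All elements of `C(y)` have orders divisible by primes of `q² - q + 1` only. -/
theorem M_prime {y : G} (hy : (orderOf y).Prime) (hyn : orderOf y ∣ nq K) {z : G} (hz : z ∈ Subgroup.centralizer {y}) {p : ℕ}
    (hp : p.Prime) (hpz : p ∣ orderOf z) : p ∣ nq K := by
  have C := D.toCtx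
  obtain ⟨hy2, hy3, hy4, hy5, hy6⟩ := C.nq_prime hy hyn
  have ho : orderOf (z ^ (orderOf z / p)) = p := orderOf_pow_orderOf_div (orderOf_pos z).ne' hpz
  set z' := z ^ (orderOf z / p) with hz'
  have hz'm : z' ∈ Subgroup.centralizer {y} := pow_mem hz _
  have hc : y ∈ Subgroup.centralizer {z'} := by
    rw [Subgroup.mem_centralizer_singleton_iff]
    exact (Subgroup.mem_centralizer_singleton_iff.mp hz'm).symm
  have hdvd : orderOf y ∣ Nat.card ↥(Subgroup.centralizer {z'}) := by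
    have := orderOf_dvd_natCard (⟨y, hc⟩ : Subgroup.centralizer {z'})
    rwa [Subgroup.orderOf_mk] at this
  have htwo : p ≠ 2 := by
    rintro rfl
    rw [C.cent_inv_card ho] at hdvd
    rcases (Nat.Prime.dvd_mul hy).mp hdvd with h | h
    · exact hy4 h
    rcases (Nat.Prime.dvd_mul hy).mp h with h | h
    · exact hy5 h
    · exact hy6 h
  have hG' : p ∣ Nat.card G := hpz.trans (orderOf_dvd_natCard z)
  rcases C.prime_G hp hG' with h | h | h | h
  · exfalso
    have e := Ctx.prime_dvd_q hp h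
    subst e
    exact RD.RL.no3' R C.hG C.hq hy hy4 hy5 rfl ho (Subgroup.mem_centralizer_singleton_iff.mp hz'm).symm
  · exfalso
    obtain ⟨h1, -, -⟩ := R.cent_sp C.hG C.hq hp htwo h ho
    rw [h1] at hdvd
    exact hy5 hdvd
  · exfalso
    rw [C.hw] at h
    rcases (Nat.Prime.dvd_mul hp).mp h with h | h
    · exact htwo ((Nat.prime_dvd_prime_iff_eq hp Nat.prime_two).mp (hp.dvd_of_dvd_pow (show p ∣ 2 ^ 2 from h)))
    · obtain ⟨h1, -⟩ := C.x_cent (x := z') (by rw [ho]; exact hp) (by rw [ho]; exact h)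
      rw [h1] at hdvd
      exact hy6 hdvd
  · exact h

theorem M_dvd {y : G} (hy : (orderOf y).Prime) (hyn : orderOf y ∣ nq K) :
    Nat.card ↥(Subgroup.centralizer {y}) ∣ nq K := by
  have C := D.toCtx
  have h1 := Subgroup.card_subgroup_dvd_card (Subgroup.centralizer {y})
  rw [C.hGn] at h1
  have hprime : ∀ p : ℕ, p.Prime → p ∣ Nat.card ↥(Subgroup.centralizer {y}) → p ∣ nq K := by
    intro p hp hd
    haveI : Fact p.Prime := ⟨hp⟩
    obtain ⟨z, hz⟩ := exists_prime_orderOf_dvd_card' p hd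
    have hz' : orderOf z.1 = p := by rw [Subgroup.orderOf_coe, hz]
    exact D.M_prime hy hyn z.2 hp (by rw [hz'])
  have hc1 : Nat.Coprime (Nat.card ↥(Subgroup.centralizer {y})) (Fintype.card K + 1) := by
    apply Nat.Coprime.symm
    apply Nat.coprime_of_dvd
    intro p hp h2 h3
    exact (C.nq_prime hp (hprime p hp h3)).2.2.2.2 h2
  have hc2 : Nat.Coprime (Nat.card ↥(Subgroup.centralizer {y})) (Fintype.card K ^ 3 * (Fintype.card K - 1)) := by
    apply Nat.Coprime.symm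
    apply Nat.coprime_of_dvd
    intro p hp h2 h3
    rcases (Nat.Prime.dvd_mul hp).mp h2 with h | h
    · exact (C.nq_prime hp (hprime p hp h3)).2.2.1 (hp.dvd_of_dvd_pow h)
    · exact (C.nq_prime hp (hprime p hp h3)).2.2.2.1 h
  have h2 := hc1.dvd_of_dvd_mul_left h1
  rw [mul_comm] at h2
  exact hc2.dvd_of_dvd_mul_left h2

theorem M_cyc {y : G} (hy : (orderOf y).Prime) (hyn : orderOf y ∣ nq K) : IsCyclic ↥(Subgroup.centralizer {y}) := by
  have C := D.toCtx
  have h1 := D.M_dvd hy hyn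
  have hn2 : ¬ 2 ∣ nq K := fun h => (C.nq_prime Nat.prime_two h).1 rfl
  have hn3 : ¬ 3 ∣ nq K := fun h => (C.nq_prime Nat.prime_three h).2.1 rfl
  exact cyc_sub C.hcyc _ (D.hCy hy hyn) (fun h => hn2 (h.trans h1)) (fun h => hn3 (h.trans h1))

theorem M_cent {y u : G} (hy : (orderOf y).Prime) (hyn : orderOf y ∣ nq K) (hu : u ∈ Subgroup.centralizer {y})
    (huo : (orderOf u).Prime) : Subgroup.centralizer {u} = Subgroup.centralizer {y} := by
  have hun : orderOf u ∣ nq K := D.M_prime hy hyn hu huo (dvd_refl _)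
  apply le_antisymm
  · intro z hz
    have hyu : y ∈ Subgroup.centralizer {u} := by
      rw [Subgroup.mem_centralizer_singleton_iff]
      exact (Subgroup.mem_centralizer_singleton_iff.mp hu).symm
    rw [Subgroup.mem_centralizer_singleton_iff]
    exact D.hCy huo hun z hz y hyu
  · intro z hz
    rw [Subgroup.mem_centralizer_singleton_iff]
    exact D.hCy hy hyn z hz u hu

/-- Passing to a power of prime order. -/
theorem exists_prime_pow {u : G} (hu : u ≠ 1) : ∃ k : ℕ, (orderOf (u ^ k)).Prime := by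
  have h1 : orderOf u ≠ 1 := fun h => hu (orderOf_eq_one_iff.mp h)
  obtain ⟨p, hp, hpu⟩ := Nat.exists_prime_and_dvd h1
  refine ⟨orderOf u / p, ?_⟩
  rw [orderOf_pow_orderOf_div (orderOf_pos u).ne' hpu]
  exact hp

theorem M_TI {y u g : G} (hy : (orderOf y).Prime) (hyn : orderOf y ∣ nq K) (hu : u ∈ Subgroup.centralizer {y}) (hu1 : u ≠ 1)
    (hg : g * u * g⁻¹ ∈ Subgroup.centralizer {y}) : g ∈ Subgroup.normalizer (Subgroup.centralizer {y} : Set G) := by
  obtain ⟨k, hk⟩ := D.exists_prime_pow hu1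
  have e1 := D.M_cent hy hyn (pow_mem hu k) hk
  have hv : g * u ^ k * g⁻¹ = (g * u * g⁻¹) ^ k := by rw [conj_pow]
  have hvm : g * u ^ k * g⁻¹ ∈ Subgroup.centralizer {y} := by
    rw [hv]
    exact pow_mem hg _
  have e2 := D.M_cent hy hyn hvm (by rw [ord_conj]; exact hk)
  apply mem_normalizer_of_forall
  intro z hz
  rw [← e1] at hz
  show g * z * g⁻¹ ∈ Subgroup.centralizer {y}
  rw [← e2, mem_cent_conj]
  have e3 : g⁻¹ * (g * z * g⁻¹) * g = z := by group
  rwa [e3]

theorem N_conj {y g : G} (hy : (orderOf y).Prime) (hyn : orderOf y ∣ nq K)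
    (hg : g ∈ Subgroup.normalizer (Subgroup.centralizer {y} : Set G)) : ∃ j : ℕ, g * y * g⁻¹ = y ^ j := by
  haveI := D.M_cyc hy hyn
  have hself : y ∈ Subgroup.centralizer {y} := Subgroup.mem_centralizer_singleton_iff.mpr rfl
  have hm : g * y * g⁻¹ ∈ Subgroup.centralizer {y} := (Subgroup.mem_normalizer_iff.mp hg _).mp hself
  have h1 := cyc_uniq (Subgroup.zpowers (⟨_, hm⟩ : Subgroup.centralizer {y})) (Subgroup.zpowers (⟨y, hself⟩ : Subgroup.centralizer {y})) (by
    rw [Nat.card_zpowers, Nat.card_zpowers, Subgroup.orderOf_mk, Subgroup.orderOf_mk, ord_conj])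
  have h2 : (⟨_, hm⟩ : Subgroup.centralizer {y}) ∈ Subgroup.zpowers (⟨y, hself⟩ : Subgroup.centralizer {y}) := by
    rw [← h1]
    exact Subgroup.mem_zpowers _
  rw [← mem_powers_iff_mem_zpowers] at h2
  obtain ⟨j, hj⟩ := h2
  exact ⟨j, (congrArg Subtype.val hj).symm⟩

theorem e_part {y : G} (hy : (orderOf y).Prime) (hyn : orderOf y ∣ nq K) :
    ∃ e : ℕ, e ∣ 6 ∧ Nat.card (Subgroup.normalizer (Subgroup.centralizer {y} : Set G)) = e * Nat.card ↥(Subgroup.centralizer {y}) := by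
  classical
  have C := D.toCtx
  set l := orderOf y with hl
  haveI : Fact l.Prime := ⟨hy⟩
  set N := Subgroup.normalizer (Subgroup.centralizer {y} : Set G) with hN
  have hj : ∀ g : N, ∃ j : ℕ, g.1 * y * g.1⁻¹ = y ^ j := fun g => D.N_conj hy hyn g.2
  choose J hJ using hj
  have hcast : ∀ a b : ℕ, y ^ a = y ^ b → (a : ZMod l) = (b : ZMod l) := by
    intro a b h
    rw [ZMod.natCast_eq_natCast_iff]
    exact pow_eq_pow_iff_modEq.mp h
  let χ : N →* ZMod l :=
    { toFun := fun g => (J g : ZMod l)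
      map_one' := by
        have := hJ 1
        simp only [OneMemClass.coe_one, one_mul, inv_one, mul_one] at this
        have h2 := hcast (J 1) 1 (by rw [← this, pow_one])
        simpa using h2
      map_mul' := by
        intro g h
        have h1 := hJ (g * h)
        have h2 : (g * h).1 * y * (g * h).1⁻¹ = g.1 * (h.1 * y * h.1⁻¹) * g.1⁻¹ := by
          rw [Subgroup.coe_mul]
          group
        rw [h2, hJ h, ← conj_pow, hJ g, ← pow_mul] at h1
        have h3 := hcast _ _ h1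
        push_cast at h3
        exact h3.symm }
  let ψ : N →* (ZMod l)ˣ := MonoidHom.toHomUnits χ
  have hψ : ∀ g, ((ψ g : (ZMod l)ˣ) : ZMod l) = (J g : ZMod l) := fun g => rfl
  -- the unit `q`
  have hcop : Nat.Coprime (Fintype.card K) l := by
    apply Nat.Coprime.symm
    rw [Nat.Prime.coprime_iff_not_dvd hy]
    exact (C.nq_prime hy hyn).2.2.1
  set u := ZMod.unitOfCoprime (Fintype.card K) hcop with hu
  have hq1 : 1 ≤ Fintype.card K := by
    have := C.hq
    omega
  have hz : ((Fintype.card K : ℕ) : ZMod l) ^ 2 - ((Fintype.card K : ℕ) : ZMod l) + 1 = 0 := by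
    have h5 := (ZMod.natCast_eq_zero_iff (nq K) l).mpr hyn
    unfold nq at h5
    rw [Nat.cast_add, Nat.cast_sub (Nat.le_self_pow (by norm_num) _)] at h5
    simpa using h5
  have hu6 : u ^ 6 = 1 := by
    apply Units.ext
    rw [Units.val_pow_eq_pow_val, Units.val_one, hu, ZMod.coe_unitOfCoprime]
    set z := ((Fintype.card K : ℕ) : ZMod l) with hzd
    linear_combination (z ^ 4 + z ^ 3 - z - 1) * hz
  have hrange : ψ.range ≤ Subgroup.zpowers u := by
    rintro _ ⟨g, rfl⟩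
    obtain ⟨i, hi⟩ := D.hNy hy hyn g.1 (J g) (hJ g)
    have e : ψ g = u ^ i := by
      apply Units.ext
      rw [hψ, Units.val_pow_eq_pow_val, hu, ZMod.coe_unitOfCoprime]
      exact hi
    rw [e]
    exact Subgroup.npow_mem_zpowers u i
  have hdvd : Nat.card ψ.range ∣ 6 := by
    have h1 := Subgroup.card_dvd_of_le hrange
    rw [Nat.card_zpowers] at h1
    exact h1.trans (orderOf_dvd_of_pow_eq_one hu6)
  have hker : Nat.card ψ.ker = Nat.card ↥(Subgroup.centralizer {y}) := by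
    apply Nat.card_congr
    refine ⟨fun g => ⟨g.1.1, ?_⟩, fun z => ⟨⟨z.1, Subgroup.le_normalizer z.2⟩, ?_⟩, ?_, ?_⟩
    · have h1 := g.2
      rw [MonoidHom.mem_ker] at h1
      have h2 : (J g.1 : ZMod l) = 1 := by
        rw [← hψ, h1, Units.val_one]
      have h3 : (J g.1 : ZMod l) = ((1 : ℕ) : ZMod l) := by simpa using h2
      rw [ZMod.natCast_eq_natCast_iff] at h3
      have h4 : y ^ J g.1 = y ^ 1 := pow_eq_pow_iff_modEq.mpr h3
      have h5 := hJ g.1
      rw [h4, pow_one] at h5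
      rw [Subgroup.mem_centralizer_singleton_iff]
      exact mul_inv_eq_iff_eq_mul.mp h5
    · rw [MonoidHom.mem_ker]
      apply Units.ext
      rw [hψ, Units.val_one]
      have h5 := hJ ⟨z.1, Subgroup.le_normalizer z.2⟩
      have h6 : z.1 * y * z.1⁻¹ = y := by
        rw [Subgroup.mem_centralizer_singleton_iff.mp z.2]
        group
      simp only at h5
      rw [h6] at h5
      have h7 := hcast (J ⟨z.1, Subgroup.le_normalizer z.2⟩) 1 (by rw [← h5, pow_one])
      simpa using h7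
    · intro g
      rfl
    · intro z
      rfl
  refine ⟨Nat.card ψ.range, hdvd, ?_⟩
  have h1 := Subgroup.card_mul_index ψ.ker
  rw [Subgroup.index_ker, hker] at h1
  rw [← h1, mul_comm]

end Ctx3

/-- Non-trivial elements of a centraliser. -/
def Sy {G : Type*} [Group G] (y : G) : Set G := {z | z ∈ Subgroup.centralizer {y} ∧ z ≠ 1}

namespace Ctx3

variable {K : Type*} [Field K] [CharP K 3] [Fintype K] {f : K ≃+* K} {G : Type*} [Group G] [Finite G] {R : RD K f G} (D : Ctx3 R)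

include D

theorem Sy_count {y : G} (hy : (orderOf y).Prime) (hyn : orderOf y ∣ nq K) :
    Nat.card (Subgroup.normalizer (Subgroup.centralizer {y} : Set G)) * (conjU (Sy y)).ncard =
      Nat.card G * (Nat.card ↥(Subgroup.centralizer {y}) - 1) := by
  have h := TI_count (Sy y) (Subgroup.normalizer (Subgroup.centralizer {y} : Set G))
    (by
      rintro g hg x ⟨hx, hx1⟩
      refine ⟨(Subgroup.mem_normalizer_iff.mp hg _).mp hx, ?_⟩
      intro h
      apply hx1
      have e : x = g⁻¹ * (g * x * g⁻¹) * g := by group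
      rw [e, h]
      group)
    (by
      rintro x ⟨hx, hx1⟩ g ⟨hg, -⟩
      exact D.M_TI hy hyn hx hx1 hg)
  have e : (Sy y).ncard = Nat.card ↥(Subgroup.centralizer {y}) - 1 := by
    have h3 : Sy y = (Subgroup.centralizer {y} : Set G) \ {1} := by
      ext v
      simp [Sy]
    rw [h3, Set.ncard_sdiff_singleton_of_mem (one_mem (Subgroup.centralizer {y})), ← Nat.card_coe_set_eq]
    rfl
  rw [h, e]

theorem Sy_sub_T {y : G} (hy : (orderOf y).Prime) (hyn : orderOf y ∣ nq K) {x : G} (hx : x ∈ conjU (Sy y)) :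
    orderOf x ∈ Dn K := by
  obtain ⟨g, hg, hg1⟩ := hx
  have e : orderOf x = orderOf (g * x * g⁻¹) := (ord_conj g x).symm
  rw [e]
  constructor
  · intro h
    exact hg1 (orderOf_eq_one_iff.mp h)
  · intro p hp hd
    exact D.M_prime hy hyn hg hp hd

/-- Every element of the third kind lies in its own class. -/
theorem T_own {x : G} (hx : orderOf x ∈ Dn K) : ∃ y : G, (orderOf y).Prime ∧ orderOf y ∣ nq K ∧ x ∈ conjU (Sy y) := by
  obtain ⟨h1, h2⟩ := hx
  obtain ⟨p, hp, hpx⟩ := Nat.exists_prime_and_dvd h1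
  have ho : orderOf (x ^ (orderOf x / p)) = p := orderOf_pow_orderOf_div (orderOf_pos x).ne' hpx
  refine ⟨x ^ (orderOf x / p), by rw [ho]; exact hp, by rw [ho]; exact h2 p hp hpx, 1, ?_⟩
  have e : 1 * x * (1 : G)⁻¹ = x := by group
  rw [e]
  refine ⟨?_, fun h => h1 (orderOf_eq_one_iff.mpr h)⟩
  rw [Subgroup.mem_centralizer_singleton_iff]
  exact ((Commute.refl x).pow_right _)

/-- Two classes meeting are equal. -/
theorem sep {y₁ y₂ z : G} (hy₁ : (orderOf y₁).Prime) (hn₁ : orderOf y₁ ∣ nq K) (hy₂ : (orderOf y₂).Prime) (hn₂ : orderOf y₂ ∣ nq K)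
    (h1 : z ∈ conjU (Sy y₁)) (h2 : z ∈ conjU (Sy y₂)) {x : G} (hx : x ∈ conjU (Sy y₂)) : x ∈ conjU (Sy y₁) := by
  obtain ⟨g₁, ⟨hg₁, hg₁'⟩⟩ := h1
  obtain ⟨g₂, ⟨hg₂, hg₂'⟩⟩ := h2
  obtain ⟨g₃, ⟨hg₃, hg₃'⟩⟩ := hx
  obtain ⟨g, hg⟩ : ∃ g, g = g₁ * g₂⁻¹ := ⟨_, rfl⟩
  obtain ⟨u₂, hu₂⟩ : ∃ u₂, u₂ = g₂ * z * g₂⁻¹ := ⟨_, rfl⟩
  rw [← hu₂] at hg₂ hg₂'
  have hu₁ : g * u₂ * g⁻¹ = g₁ * z * g₁⁻¹ := by
    rw [hg, hu₂]
    group
  obtain ⟨k, hk⟩ := D.exists_prime_pow hg₂'
  have e2 := D.M_cent hy₂ hn₂ (pow_mem hg₂ k) hk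
  have hv : g * u₂ ^ k * g⁻¹ = (g₁ * z * g₁⁻¹) ^ k := by
    rw [← hu₁, conj_pow]
  have hvm : g * u₂ ^ k * g⁻¹ ∈ Subgroup.centralizer {y₁} := by
    rw [hv]
    exact pow_mem hg₁ _
  have e1 := D.M_cent hy₁ hn₁ hvm (by rw [ord_conj]; exact hk)
  refine ⟨g * g₃, ?_, ?_⟩
  · rw [← e1, mem_cent_conj]
    have e3 : g⁻¹ * (g * g₃ * x * (g * g₃)⁻¹) * g = g₃ * x * g₃⁻¹ := by group
    rw [e3, e2]
    exact hg₃
  · intro h
    apply hg₃'
    have e3 : g₃ * x * g₃⁻¹ = g⁻¹ * (g * g₃ * x * (g * g₃)⁻¹) * g := by group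
    rw [e3, h]
    group

end Ctx3

end Cfsg.Agent.Lib.Ree
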