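import Cfsg.Agent.Lib.Ree.CntT

/-! The tori of order dividing `q² - q + 1`: the two classes. -/

set_option autoImplicit false
set_option linter.unusedSimpArgs false
set_option linter.unusedVariables false
set_option linter.unusedSectionVars false

namespace Cfsg.Agent.Lib.Ree

section Arith

theorem ar_E2 {n T s K₀ : ℕ} (hn : n = s ^ 2 + 3 * s + 3) (hK : 0 < K₀) (h : 3 * n * T = (s + 2) * s * K₀) : 3 * T < K₀ := by
  by_contra hle
  push_neg at hle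
  have h1 : n * K₀ ≤ n * (3 * T) := Nat.mul_le_mul_left n hle
  have h2 : n * (3 * T) = (s + 2) * s * K₀ := by rw [← h]; ring
  rw [h2, hn] at h1
  have h3 : 0 ≤ s * K₀ := Nat.zero_le _
  nlinarith

theorem ar_one {n T s K₀ e m' k : ℕ} (hs : 2 ≤ s) (hn : n = s ^ 2 + 3 * s + 3) (hK : 0 < K₀) (h : 3 * n * T = (s + 2) * s * K₀)
    (he : e ∣ 6) (h1 : 6 * K₀ ≤ 7 * e * T) (h2 : e * (m' + 1) * T = K₀ * m') (hm : n = (m' + 1) * k) : False := by
  have hE2 := ar_E2 hn hK h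
  have he6 : e = 1 ∨ e = 2 ∨ e = 3 ∨ e = 6 := by
    have := Nat.le_of_dvd (by norm_num) he
    interval_cases e <;> omega
  rcases he6 with rfl | rfl | rfl | rfl
  · omega
  · omega
  · -- `e = 3`
    have e1 : K₀ * ((m' + 1) * ((s + 2) * s)) = K₀ * (m' * n) := by
      calc K₀ * ((m' + 1) * ((s + 2) * s)) = (m' + 1) * ((s + 2) * s * K₀) := by ring
        _ = (m' + 1) * (3 * n * T) := by rw [h]
        _ = n * (3 * (m' + 1) * T) := by ring
        _ = n * (K₀ * m') := by rw [h2]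
        _ = _ := by ring
    have e2 := Nat.eq_of_mul_eq_mul_left hK e1
    rw [hm] at e2
    have e3 : (m' + 1) * ((s + 2) * s) = (m' + 1) * (m' * k) := by rw [e2]; ring
    have e4 := Nat.eq_of_mul_eq_mul_left (by omega) e3
    have e5 : n = m' * k + k := by rw [hm]; ring
    rw [← e4, hn] at e5
    have e6 : k = s + 3 := by nlinarith
    rw [e6, hn] at hm
    have e7 : s + 3 ∣ 3 := by
      have h5 : s + 3 ∣ s ^ 2 + 3 * s + 3 := ⟨m' + 1, by rw [hm]; ring⟩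
      have h6 : s ^ 2 + 3 * s + 3 = (s + 3) * s + 3 := by ring
      rw [h6] at h5
      exact (Nat.dvd_add_right (dvd_mul_right _ _)).mp h5
    have := Nat.le_of_dvd (by norm_num) e7
    omega
  · -- `e = 6`
    have e1 : K₀ * (2 * (m' + 1) * ((s + 2) * s)) = K₀ * (m' * n) := by
      calc K₀ * (2 * (m' + 1) * ((s + 2) * s)) = 2 * (m' + 1) * ((s + 2) * s * K₀) := by ring
        _ = 2 * (m' + 1) * (3 * n * T) := by rw [h]
        _ = n * (6 * (m' + 1) * T) := by ring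
        _ = n * (K₀ * m') := by rw [h2]
        _ = _ := by ring
    have e2 := Nat.eq_of_mul_eq_mul_left hK e1
    rw [hn] at e2
    have h3 : 0 ≤ m' * s := Nat.zero_le _
    have h4 : 0 ≤ m' * s ^ 2 := Nat.zero_le _
    have h5 : 2 * m' ≤ m' * s := by nlinarith
    nlinarith

theorem ar_two {n T s K₀ a b c₁ c₂ k : ℕ} (hn : n = s ^ 2 + 3 * s + 3) (hK : 0 < K₀) (h : 3 * n * T = (s + 2) * s * K₀)
    (h1 : 6 * (a + 1) * c₁ = K₀ * a) (h2 : 6 * (b + 1) * c₂ = K₀ * b) (hT : T = c₁ + c₂) (hk : n = (a + 1) * (b + 1) * k) :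
    k * ((a + 1) + (b + 1)) = 2 * (s + 3) := by
  zify at *
  set P : ℤ := ((a : ℤ) + 1) * ((b : ℤ) + 1) with hP
  have e1 : (K₀ : ℤ) * (2 * P * (((s : ℤ) + 2) * s)) = K₀ * ((n : ℤ) * (2 * a * b + a + b)) := by
    rw [hP]
    linear_combination (-2 * ((a : ℤ) + 1) * ((b : ℤ) + 1)) * h + 6 * ((a : ℤ) + 1) * ((b : ℤ) + 1) * n * hT + n * ((b : ℤ) + 1) * h1 + n * ((a : ℤ) + 1) * h2
  have e2 := mul_left_cancel₀ (ne_of_gt hK) e1
  rw [hk] at e2
  have hP0 : P ≠ 0 := by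
    rw [hP]
    positivity
  have e3 : P * (2 * (((s : ℤ) + 2) * s)) = P * ((k : ℤ) * (2 * a * b + a + b)) := by
    linear_combination e2
  have e4 := mul_left_cancel₀ hP0 e3
  have e5 : (s : ℤ) ^ 2 + 3 * s + 3 = P * k := by
    rw [← hn, hk]
  rw [hP] at e5
  linear_combination (-2) * e5 + e4

end Arith

namespace Ctx3

variable {K : Type*} [Field K] [CharP K 3] [Fintype K] {f : K ≃+* K} {G : Type*} [Group G] [Finite G] {R : RD K f G} (D : Ctx3 R)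

include D

theorem pack {y : G} (hy : (orderOf y).Prime) (hyn : orderOf y ∣ nq K) :
    ∃ e : ℕ, e ∣ 6 ∧ Nat.card (Subgroup.normalizer (Subgroup.centralizer {y} : Set G)) = e * Nat.card ↥(Subgroup.centralizer {y}) ∧
      ∃ a : ℕ, Nat.card ↥(Subgroup.centralizer {y}) = a + 1 ∧ e * (a + 1) * (conjU (Sy y)).ncard = Nat.card G * a ∧
        6 * Nat.card G ≤ 7 * e * (conjU (Sy y)).ncard ∧ (a + 1) ∣ nq K ∧ {x | x ∈ conjU (Sy y)} ⊆ {x : G | orderOf x ∈ Dn K} := by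
  obtain ⟨e, he, hN⟩ := D.e_part hy hyn
  refine ⟨e, he, hN, ?_⟩
  have hc := D.Sy_count hy hyn
  rw [hN] at hc
  have hm7 : 7 ≤ Nat.card ↥(Subgroup.centralizer {y}) := by
    have h1 := D.prime_ge7 hy hyn
    have h2 : orderOf y ∣ Nat.card ↥(Subgroup.centralizer {y}) := by
      have := orderOf_dvd_natCard (⟨y, Subgroup.mem_centralizer_singleton_iff.mpr rfl⟩ : Subgroup.centralizer {y})
      rwa [Subgroup.orderOf_mk] at this
    have h3 := Nat.le_of_dvd Nat.card_pos h2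
    omega
  obtain ⟨a, ha⟩ : ∃ a, Nat.card ↥(Subgroup.centralizer {y}) = a + 1 := ⟨_, (Nat.sub_add_cancel (by omega)).symm⟩
  rw [ha, Nat.add_sub_cancel] at hc
  refine ⟨a, ha, hc, ?_, by rw [← ha]; exact D.M_dvd hy hyn, fun x hx => D.Sy_sub_T hy hyn hx⟩
  have h6 : 6 ≤ a := by omega
  set c := (conjU (Sy y)).ncard with hcd
  have h7 : (a + 1) * (6 * Nat.card G) ≤ (a + 1) * (7 * e * c) := by
    have h8 : (a + 1) * (7 * e * c) = 7 * (e * (a + 1) * c) := by ring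
    rw [h8, hc]
    have : 0 ≤ Nat.card G * (a - 6) := Nat.zero_le _
    nlinarith
  exact Nat.le_of_mul_le_mul_left h7 (by omega)

/-- The two classes of tori. -/
theorem T3_main {x₀ : G} (hx : (orderOf x₀).Prime) (hd : orderOf x₀ ∣ wq K) (hxa : x₀ * R.h (-1) = R.h (-1) * x₀) :
    ∃ y₁ y₂ : G, (orderOf y₁).Prime ∧ orderOf y₁ ∣ nq K ∧ (orderOf y₂).Prime ∧ orderOf y₂ ∣ nq K ∧
      Nat.card (Subgroup.normalizer (Subgroup.centralizer {y₁} : Set G)) = 6 * Nat.card ↥(Subgroup.centralizer {y₁}) ∧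
      Nat.card (Subgroup.normalizer (Subgroup.centralizer {y₂} : Set G)) = 6 * Nat.card ↥(Subgroup.centralizer {y₂}) ∧
      Nat.card ↥(Subgroup.centralizer {y₁}) * Nat.card ↥(Subgroup.centralizer {y₂}) = nq K ∧
      Nat.card ↥(Subgroup.centralizer {y₁}) + Nat.card ↥(Subgroup.centralizer {y₂}) = 2 * (Fintype.card K + 1) ∧
      ∀ x, orderOf x ∈ Dn K → x ∈ conjU (Sy y₁) ∨ x ∈ conjU (Sy y₂) := by
  classical
  have C := D.toCtx
  set T := {y : G | orderOf y ∈ Dn K}.ncard with hT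
  have hE3 := C.card_T3 hx hd hxa
  rw [← hT] at hE3
  obtain ⟨s, hs⟩ : ∃ s, Fintype.card K = s + 2 := ⟨Fintype.card K - 2, by have := C.hq; omega⟩
  have hs25 : 25 ≤ s := by
    have := C.hq27
    omega
  have hn : nq K = s ^ 2 + 3 * s + 3 := by
    rw [C.nq_eq, hs]
    have e : s + 2 - 1 = s + 1 := by omega
    rw [e]
    ring
  have hK₀ : Nat.card G = (s + 3) * ((s ^ 2 + 3 * s + 3) * ((s + 2) ^ 3 * (s + 1))) := by
    rw [C.hGn, hn, hs]
    have e : s + 2 - 1 = s + 1 := by omega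
    rw [e]
  have hKpos : 0 < Nat.card G := Nat.card_pos
  set K₀ := Nat.card G with hK₀d
  have hE0 : 3 * nq K * T = (s + 2) * s * K₀ := by
    rw [hn, hK₀]
    have e1 : 3 * (s ^ 2 + 3 * s + 3) * T = (s ^ 2 + 3 * s + 3) * (3 * T) := by ring
    rw [e1, hE3, hs]
    have e2 : (s + 2) ^ 2 - 1 = s ^ 2 + 4 * s + 3 := by
      apply Nat.sub_eq_of_eq_add
      ring
    have e3 : s + 2 - 2 = s := by omega
    rw [e2, e3]
    ring
  have hE2 := ar_E2 hn hKpos hE0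
  have hsub : ∀ {A : Set G}, A ⊆ {x : G | orderOf x ∈ Dn K} → A.ncard ≤ T := fun h => Set.ncard_le_ncard h (Set.toFinite _)
  -- the first class
  have hn1 : nq K ≠ 1 := by
    rw [hn]
    nlinarith
  obtain ⟨l, hl, hln⟩ := Nat.exists_prime_and_dvd hn1
  haveI : Fact l.Prime := ⟨hl⟩
  have hlG : l ∣ Nat.card G := by
    rw [C.hGn]
    exact Dvd.dvd.mul_left (Dvd.dvd.mul_right hln _) _
  obtain ⟨y₁, hy₁o⟩ := exists_prime_orderOf_dvd_card' (G := G) l hlG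
  have hy₁ : (orderOf y₁).Prime := by rw [hy₁o]; exact hl
  have hn₁ : orderOf y₁ ∣ nq K := by rw [hy₁o]; exact hln
  obtain ⟨e₁, he₁, hN₁, a, ha, hc₁, hb₁, hd₁, hS₁⟩ := D.pack hy₁ hn₁
  set c₁ := (conjU (Sy y₁)).ncard with hc₁d
  have hc₁T : c₁ ≤ T := hsub hS₁
  by_cases h₁ : ∀ x, orderOf x ∈ Dn K → x ∈ conjU (Sy y₁)
  · exfalso
    have e1 : c₁ = T := le_antisymm hc₁T (Set.ncard_le_ncard (fun x hx => h₁ x hx) (Set.toFinite _))
    rw [e1] at hc₁ hb₁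
    obtain ⟨k, hk⟩ := hd₁
    exact ar_one (by omega) hn hKpos hE0 he₁ hb₁ hc₁ hk
  push_neg at h₁
  obtain ⟨x₂, hx₂, hx₂'⟩ := h₁
  obtain ⟨y₂, hy₂, hn₂, hxy₂⟩ := D.T_own hx₂
  obtain ⟨e₂, he₂, hN₂, b, hb, hc₂, hb₂, hd₂, hS₂⟩ := D.pack hy₂ hn₂
  set c₂ := (conjU (Sy y₂)).ncard with hc₂d
  have hdisj : Disjoint (conjU (Sy y₁)) (conjU (Sy y₂)) := by
    rw [Set.disjoint_left]
    intro z hz1 hz2
    exact hx₂' (D.sep hy₁ hn₁ hy₂ hn₂ hz1 hz2 hxy₂)
  have hsum : c₁ + c₂ ≤ T := by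
    rw [← Set.ncard_union_eq hdisj (Set.toFinite _) (Set.toFinite _)]
    exact hsub (Set.union_subset hS₁ hS₂)
  have hsixes : ∀ e : ℕ, e ∣ 6 → e = 1 ∨ e = 2 ∨ e = 3 ∨ e = 6 := by
    intro e he
    have := Nat.le_of_dvd (by norm_num) he
    interval_cases e <;> omega
  have he₁6 : e₁ = 6 := by
    rcases hsixes e₁ he₁ with h | h | h | h
    all_goals first | exact h | skip
    all_goals
      exfalso
      rw [h] at hb₁
      rcases hsixes e₂ he₂ with h' | h' | h' | h' <;> rw [h'] at hb₂ <;> omega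
  have he₂6 : e₂ = 6 := by
    rw [he₁6] at hb₁
    rcases hsixes e₂ he₂ with h | h | h | h
    all_goals first | exact h | skip
    all_goals
      exfalso
      rw [h] at hb₂
      omega
  subst he₁6
  subst he₂6
  have hall : ∀ x, orderOf x ∈ Dn K → x ∈ conjU (Sy y₁) ∨ x ∈ conjU (Sy y₂) := by
    by_contra h₂
    push_neg at h₂
    obtain ⟨x₃, hx₃, hx₃', hx₃''⟩ := h₂
    obtain ⟨y₃, hy₃, hn₃, hxy₃⟩ := D.T_own hx₃
    obtain ⟨e₃, he₃, hN₃, b', hb', hc₃, hb₃, hd₃, hS₃⟩ := D.pack hy₃ hn₃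
    set c₃ := (conjU (Sy y₃)).ncard with hc₃d
    have hdisj2 : Disjoint (conjU (Sy y₁) ∪ conjU (Sy y₂)) (conjU (Sy y₃)) := by
      rw [Set.disjoint_left]
      rintro z (hz1 | hz1) hz2
      · exact hx₃' (D.sep hy₁ hn₁ hy₃ hn₃ hz1 hz2 hxy₃)
      · exact hx₃'' (D.sep hy₂ hn₂ hy₃ hn₃ hz1 hz2 hxy₃)
    have hsum2 : c₁ + c₂ + c₃ ≤ T := by
      have h5 := Set.ncard_union_eq hdisj (Set.toFinite _) (Set.toFinite _)
      have h6 := Set.ncard_union_eq hdisj2 (Set.toFinite _) (Set.toFinite _)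
      rw [h5] at h6
      rw [← h6]
      exact hsub (Set.union_subset (Set.union_subset hS₁ hS₂) hS₃)
    rcases hsixes e₃ he₃ with h' | h' | h' | h' <;> rw [h'] at hb₃ <;> omega
  have hTeq : T = c₁ + c₂ := by
    apply le_antisymm _ hsum
    rw [← Set.ncard_union_eq hdisj (Set.toFinite _) (Set.toFinite _)]
    exact Set.ncard_le_ncard (fun x hx => hall x hx) (Set.toFinite _)
  -- the two orders are coprime
  have hcop : Nat.Coprime (a + 1) (b + 1) := by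
    apply Nat.coprime_of_dvd
    intro p hp hp1 hp2
    haveI : Fact p.Prime := ⟨hp⟩
    obtain ⟨u₁, hu₁⟩ := exists_prime_orderOf_dvd_card' (G := Subgroup.centralizer {y₁}) p (by rw [ha]; exact hp1)
    obtain ⟨u₂, hu₂⟩ := exists_prime_orderOf_dvd_card' (G := Subgroup.centralizer {y₂}) p (by rw [hb]; exact hp2)
    have hu₁' : orderOf u₁.1 = p := by rw [Subgroup.orderOf_coe, hu₁]
    have hu₂' : orderOf u₂.1 = p := by rw [Subgroup.orderOf_coe, hu₂]
    have hpn : p ∣ nq K := hp1.trans hd₁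
    have hp7 := D.prime_ge7 hp hpn
    obtain ⟨e, -, hem⟩ := conj_in_sub C.hcyc ⊤ (Subgroup.mem_top u₁.1) (Subgroup.mem_top u₂.1) hp (by omega) hu₁' hu₂'
      (fun z hz => D.hCy (by rw [hz]; exact hp) (by rw [hz]; exact hpn))
    have h1 : e * u₁.1 * e⁻¹ ∈ Subgroup.centralizer {y₂} := (Subgroup.zpowers_le.mpr u₂.2) hem
    have hne : u₁.1 ≠ 1 := by
      intro h
      rw [h, orderOf_one] at hu₁'
      have := hp.one_lt
      omega
    have hz1 : u₁.1 ∈ conjU (Sy y₁) := ⟨1, by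
      have e0 : 1 * u₁.1 * (1 : G)⁻¹ = u₁.1 := by group
      rw [e0]
      exact ⟨u₁.2, hne⟩⟩
    have hz2 : u₁.1 ∈ conjU (Sy y₂) := ⟨e, h1, by
      intro h
      apply hne
      have e0 : u₁.1 = e⁻¹ * (e * u₁.1 * e⁻¹) * e := by group
      rw [e0, h]
      group⟩
    exact hx₂' (D.sep hy₁ hn₁ hy₂ hn₂ hz1 hz2 hxy₂)
  obtain ⟨k, hk⟩ := Nat.Coprime.mul_dvd_of_dvd_of_dvd hcop hd₁ hd₂
  have hkey := ar_two hn hKpos hE0 hc₁ hc₂ hTeq hk
  have hk1 : k = 1 := by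
    by_contra hne
    obtain ⟨p, hp, hpk⟩ := Nat.exists_prime_and_dvd hne
    have h1 : p ∣ nq K := by
      rw [hk]
      exact hpk.trans (dvd_mul_left _ _)
    have h2 : p ∣ 2 * (s + 3) := by
      rw [← hkey]
      exact hpk.trans (dvd_mul_right _ _)
    obtain ⟨h3, -, -, -, h4⟩ := C.nq_prime hp h1
    rcases (Nat.Prime.dvd_mul hp).mp h2 with h5 | h5
    · exact h3 ((Nat.prime_dvd_prime_iff_eq hp Nat.prime_two).mp h5)
    · apply h4
      rw [hs]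
      exact h5
  subst hk1
  refine ⟨y₁, y₂, hy₁, hn₁, hy₂, hn₂, hN₁, hN₂, ?_, ?_, hall⟩
  · rw [ha, hb, hk]
    ring
  · rw [ha, hb, hs]
    omega

end Ctx3

end Cfsg.Agent.Lib.Ree
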