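import Cfsg.Agent.Lib.Ree.V7

/-! The seven-dimensional module is faithful. -/

set_option autoImplicit false
set_option maxRecDepth 100000
set_option linter.unusedSimpArgs false
set_option linter.unusedVariables false
set_option linter.unusedSectionVars false

namespace Cfsg.Agent.Lib.Ree

open Cfsg Cfsg.Lie Matrix Cfsg.Agent.Lib.Chev Cfsg.Agent.Lib.Chev.TwG2 Cfsg.Agent.Lib.Chev.TabG2

variable {K : Type*} [Field K] [CharP K 3]

/-- The first coordinate. -/
def r0 : Fin chevG2.rank := ⟨0, by decide⟩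

theorem x10_col (t : K) (k : chevG2.Idx) : chevG2.x K 10 t k (Sum.inl r0) = if k = Sum.inl r0 then 1 else 0 := by
  have h10' : 10 < chevG2.nroots := by decide
  unfold ChevalleyDatum.x
  rw [dif_pos h10']
  unfold ChevalleyDatum.xMat
  rw [Matrix.of_apply]
  rcases k with i | u
  · simp only [Sum.inl.injEq]
  · simp only [reduceCtorEq, if_false]
    split_ifs with h
    · have e : (chevG2.cartanSR.getD r0.val #[]).getD 10 0 = 3 := by decide +kernel
      have h3 : ((3 : ℤ) : K) = 0 := by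
        rw [Int.cast_ofNat]
        exact_mod_cast CharP.cast_eq_zero K 3
      rw [e, h3]
      simp
    · rfl

theorem x8_entry (t : K) : chevG2.x K 8 t (Sum.inr ⟨8, by decide⟩) (Sum.inl r0) = t := by
  have h8' : 8 < chevG2.nroots := by decide
  unfold ChevalleyDatum.x
  rw [dif_pos h8']
  unfold ChevalleyDatum.xMat
  rw [Matrix.of_apply]
  simp only [if_true]
  have e : (chevG2.cartanSR.getD r0.val #[]).getD 8 0 = -1 := by decide +kernel
  rw [e]
  simp

theorem x8x10_entry (t u : K) : (chevG2.x K 8 t * chevG2.x K 10 u) (Sum.inr ⟨8, by decide⟩) (Sum.inl r0) = t := by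
  rw [Matrix.mul_apply, Finset.sum_eq_single (Sum.inl r0)]
  · rw [x10_col, if_pos rfl, mul_one, x8_entry]
  · intro k _ hk
    rw [x10_col, if_neg hk, mul_zero]
  · intro h
    exact absurd (Finset.mem_univ _) h

/-- The unit vector. -/
def e7 : S7 → K := fun i => if i.1 = Sum.inl r0 then 1 else 0

theorem ext7_e7 : ext7 (e7 (K := K)) = Pi.single (Sum.inl r0) 1 := by
  ext i
  by_cases h : i = Sum.inl r0
  · subst h
    simp [ext7, e7, isS, r0]
  · rw [Pi.single_eq_of_ne h]
    unfold ext7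
    split_ifs with h2
    · simp [e7, h]
    · rfl

variable (f : K ≃+* K)

theorem WW_entry : ((WW f (0 : K) 1 0 : GL chevG2.Idx K) : Matrix chevG2.Idx chevG2.Idx K) (Sum.inr ⟨8, by decide⟩) (Sum.inl r0) = 1 := by
  have e : WW f (0 : K) 1 0 = xc 1 * xe 1 := by
    unfold WW Om
    simp [good3.xg_zero]
  rw [e, Units.val_mul, good3.xg_val, good3.xg_val]
  exact x8x10_entry 1 1

/-- `WW` acts nontrivially on the module. -/
theorem rho0_WW_ne : rho0 (((WW f (0 : K) 1 0 : GL chevG2.Idx K) : Matrix chevG2.Idx chevG2.Idx K)) ≠ 1 := by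
  intro h
  have h1 := congrFun (congrArg (fun F : Module.End K (S7 → K) => F e7) h) ⟨Sum.inr ⟨8, by decide⟩, by decide +kernel⟩
  simp only [Module.End.one_apply] at h1
  rw [rho0_apply, ext7_e7, Matrix.mulVec_single_one] at h1
  have e2 := WW_entry f
  simp only [Matrix.col_apply] at h1
  rw [e2] at h1
  simp [e7] at h1

section Rep

variable [Fintype K] (hf3 : ∀ t, f (f t) ^ 3 = t)
  (hsq : ∀ u : Kˣ, (∃ v, u = v * v) ∨ (∃ v, u = -1 * (v * v)))
  (hΓ : ∀ g ∈ (TT f).AA JJ, inv7 ((g : GL chevG2.Idx K) : Matrix chevG2.Idx chevG2.Idx K))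

include hf3 in
/-- Faithfulness. -/
theorem rho_inj (hs : IsSimpleGroup ↥((TT f).AA JJ)) {g : ↥((TT f).AA JJ)}
    (hg : rhoG _ hΓ g = 1) : g = 1 := by
  have hk := hs.eq_bot_or_eq_top_of_normal (rhoG _ hΓ).ker inferInstance
  rcases hk with hk | hk
  · have : g ∈ (rhoG _ hΓ).ker := hg
    rw [hk] at this
    exact Subgroup.mem_bot.mp this
  · exfalso
    have h1 : (⟨WW f 0 1 0, X1_mem f hf3 0 1 0⟩ : ↥((TT f).AA JJ)) ∈ (rhoG _ hΓ).ker := by
      rw [hk]
      exact Subgroup.mem_top _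
    exact rho0_WW_ne f h1

end Rep

end Cfsg.Agent.Lib.Ree
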