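import Cfsg.Agent.Lib.Ree.NE
import Cfsg.Agent.Lib.Ree.V7b

/-! Cyclicity of `p`-subgroups of the small Ree groups lying in a Borel subgroup or an involution centraliser. -/

set_option autoImplicit false
set_option linter.unusedSimpArgs false
set_option linter.unusedVariables false
set_option linter.unusedSectionVars false

namespace Cfsg.Agent.Lib.Ree

open Matrix Cfsg.Agent.Lib.Chev
open scoped Pointwise

namespace RD

variable {K : Type*} [Field K] {f : K ≃+* K} {G : Type*} [Group G] (R : RD K f G)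

theorem B_exists {g : G} (hg : g ∈ R.B) : ∃ s, ∃ a b c, g = R.t a b c * R.h s := by
  obtain ⟨a, b, c, s, e⟩ := hg
  exact ⟨s, a, b, c, e⟩

/-- The projection of the Borel subgroup onto the torus. -/
noncomputable def projH [CharP K 3] : ↥R.B →* Kˣ where
  toFun b := (R.B_exists b.2).choose
  map_one' := by
    obtain ⟨a, b, c, e⟩ := (R.B_exists (Subgroup.one_mem _)).choose_spec
    have e0 : R.t 0 0 0 * R.h 1 = R.t a b c * R.h (R.B_exists (Subgroup.one_mem R.B)).choose := by
      rw [R.t_zero, map_one, one_mul, ← e]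
    exact (R.tB_inj e0).2.symm
  map_mul' x y := by
    obtain ⟨a, b, c, e1⟩ := (R.B_exists x.2).choose_spec
    obtain ⟨a', b', c', e2⟩ := (R.B_exists y.2).choose_spec
    obtain ⟨a'', b'', c'', e3⟩ := (R.B_exists (x * y).2).choose_spec
    set s1 := (R.B_exists x.2).choose
    set s2 := (R.B_exists y.2).choose
    set s3 := (R.B_exists (x * y).2).choose
    have e4 : ((x * y : ↥R.B) : G) = x.1 * y.1 := rfl
    rw [e4, e1, e2] at e3
    have e5 : R.t a b c * R.h s1 * (R.t a' b' c' * R.h s2) = R.t a b c * (R.h s1 * R.t a' b' c') * R.h s2 := by group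
    rw [e5, R.h_mul_t, ← mul_assoc, R.t_mul, mul_assoc, ← map_mul] at e3
    exact (R.tB_inj e3).2.symm

theorem projH_eq [CharP K 3] {x : ↥R.B} {a b c : K} {s : Kˣ} (h : x.1 = R.t a b c * R.h s) : R.projH x = s := by
  obtain ⟨a', b', c', e⟩ := (R.B_exists x.2).choose_spec
  exact (R.tB_inj (h.symm.trans e)).2.symm

theorem ker_projH [CharP K 3] {x : ↥R.B} (h : R.projH x = 1) : x.1 ∈ R.U := by
  obtain ⟨a, b, c, s, e⟩ := x.2
  have := R.projH_eq e
  rw [h] at this
  rw [e, ← this, map_one, mul_one]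
  exact R.t_mem _ _ _

/-- A `p`-subgroup (`p ≠ 3`) inside a conjugate of `B` is cyclic. -/
theorem cyc_of_conj_B [CharP K 3] [Finite K] {p : ℕ} [Fact p.Prime] (hp3 : p ≠ 3) (P : Subgroup G) (hP : IsPGroup p P) (d : G)
    (hd : ∀ x ∈ P, d⁻¹ * x * d ∈ R.B) : IsCyclic P := by
  let φ : P →* Kˣ :=
    { toFun := fun x => R.projH ⟨d⁻¹ * x.1 * d, hd x.1 x.2⟩
      map_one' := by
        have : (⟨d⁻¹ * (1 : P).1 * d, hd _ (1 : P).2⟩ : ↥R.B) = 1 := Subtype.ext (by simp)
        rw [this, map_one]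
      map_mul' := fun x y => by
        rw [← map_mul]
        congr 1
        apply Subtype.ext
        show d⁻¹ * (x.1 * y.1) * d = d⁻¹ * x.1 * d * (d⁻¹ * y.1 * d)
        group }
  apply isCyclic_of_injective φ
  rw [injective_iff_map_eq_one]
  intro x hx
  have h1 : d⁻¹ * x.1 * d ∈ R.U := R.ker_projH hx
  have h3 := R.isP_U (⟨d⁻¹ * x.1 * d, h1⟩ : ↥R.U)
  obtain ⟨j, hj⟩ := h3
  obtain ⟨k, hk⟩ := hP x
  have h4 : (x.1) ^ (3 ^ j) = 1 := by
    have e := congrArg Subtype.val hj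
    simp only [Subgroup.coe_pow, Subgroup.coe_one] at e
    have e2 : (d⁻¹ * x.1 * d) ^ (3 ^ j) = d⁻¹ * x.1 ^ (3 ^ j) * d := by
      have := conj_pow (a := d⁻¹) (b := x.1) (i := 3 ^ j)
      simpa using this
    rw [e2] at e
    have e3 : x.1 ^ (3 ^ j) = d * (d⁻¹ * x.1 ^ (3 ^ j) * d) * d⁻¹ := by group
    rw [e3, e]
    group
  have h5 : x ^ (3 ^ j) = 1 := Subtype.ext (by simpa using h4)
  have hc : Nat.Coprime (3 ^ j) (p ^ k) := by
    apply Nat.Coprime.pow
    exact (Nat.coprime_primes Nat.prime_three Fact.out).mpr (Ne.symm hp3)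
  have h6 := Nat.eq_one_of_dvd_coprimes hc (orderOf_dvd_of_pow_eq_one h5) (orderOf_dvd_of_pow_eq_one hk)
  exact orderOf_eq_one_iff.mp h6


theorem card_B [CharP K 3] [Fintype K] : Nat.card ↥R.B = Fintype.card K ^ 3 * (Fintype.card K - 1) := by
  let F : K × K × K × Kˣ → ↥R.B := fun p => ⟨R.t p.1 p.2.1 p.2.2.1 * R.h p.2.2.2, p.1, p.2.1, p.2.2.1, p.2.2.2, rfl⟩
  have hF : Function.Bijective F := by
    constructor
    · rintro ⟨a, b, c, s⟩ ⟨a', b', c', s'⟩ h
      have h1 : R.t a b c * R.h s = R.t a' b' c' * R.h s' := congrArg Subtype.val h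
      obtain ⟨⟨rfl, rfl, rfl⟩, rfl⟩ := R.tB_inj h1
      rfl
    · rintro ⟨g, a, b, c, s, rfl⟩
      exact ⟨(a, b, c, s), rfl⟩
  rw [← Nat.card_congr (Equiv.ofBijective F hF)]
  rw [Nat.card_prod, Nat.card_prod, Nat.card_prod, Nat.card_units, Nat.card_eq_fintype_card]
  ring

theorem index_B [CharP K 3] [Fintype K] [Finite G]
    (hG : Nat.card G = (1 + Fintype.card K ^ 3) * (Fintype.card K ^ 3 * (Fintype.card K - 1)))
    (hq : 2 ≤ Fintype.card K) : Nat.card (G ⧸ R.B) = 1 + Fintype.card K ^ 3 := by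
  have h1 := R.B.index_mul_card
  rw [R.card_B, hG] at h1
  have h2 : 0 < Fintype.card K ^ 3 * (Fintype.card K - 1) := by
    have : 0 < Fintype.card K - 1 := by omega
    positivity
  exact Nat.eq_of_mul_eq_mul_right h2 h1

include R in
/-- A `p`-subgroup fixes a point when `p` does not divide the degree. -/
theorem cyc_of_not_dvd [CharP K 3] [Fintype K] [Finite G] {p : ℕ} [Fact p.Prime] (hp3 : p ≠ 3)
    (hG : Nat.card G = (1 + Fintype.card K ^ 3) * (Fintype.card K ^ 3 * (Fintype.card K - 1)))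
    (hq : 2 ≤ Fintype.card K) (hd : ¬ p ∣ 1 + Fintype.card K ^ 3) (P : Subgroup G) (hP : IsPGroup p P) : IsCyclic P := by
  have hidx : Nat.card (G ⧸ R.B) = 1 + Fintype.card K ^ 3 := R.index_B hG hq
  have hfix := hP.nonempty_fixed_point_of_prime_not_dvd_card (G ⧸ R.B) (by rwa [hidx])
  obtain ⟨x, hx⟩ := hfix
  obtain ⟨d, rfl⟩ := QuotientGroup.mk_surjective x
  refine R.cyc_of_conj_B hp3 P hP d (fun g hg => ?_)
  rw [← R.mem_stab]
  exact hx ⟨g, hg⟩

/-- The exact size of the class of `a`. -/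
theorem card_Cl [CharP K 3] [Fintype K] [Finite G]
    (hG : Nat.card G = (1 + Fintype.card K ^ 3) * (Fintype.card K ^ 3 * (Fintype.card K - 1)))
    (hq : 2 ≤ Fintype.card K) :
    (Cl R).ncard = Fintype.card K ^ 2 * (Fintype.card K * (Fintype.card K - 1) + 1) := by
  obtain ⟨r, hr⟩ : ∃ r, Fintype.card K = r + 1 := ⟨Fintype.card K - 1, by omega⟩
  have hr1 : 1 ≤ r := by omega
  have h1 := card_class (R := R)
  have h2 := card_cent_le (R := R)
  have h3 := ncard_S2_le (R := R)
  have h4 := ncard_ClB_le (R := R)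
  rw [hr, Nat.add_sub_cancel] at hG h2 h3 ⊢
  rw [hr] at h4
  rw [hG] at h1
  set c := (Cl R).ncard with hc
  have h5 : (r + 1) ^ 2 * ((r + 1) * r + 1) ≤ c := by
    have hD : 0 < (r + 1) * (r * (r + 2)) := by positivity
    refine Nat.le_of_mul_le_mul_right ?_ hD
    calc (r + 1) ^ 2 * ((r + 1) * r + 1) * ((r + 1) * (r * (r + 2)))
        = (1 + (r + 1) ^ 3) * ((r + 1) ^ 3 * r) := by ring
      _ = c * Nat.card ↥(Subgroup.centralizer {R.h (-1)}) := h1
      _ ≤ c * ((r + 1) * r + (r + 1) * ((r + 1) * r)) := Nat.mul_le_mul_left _ h2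
      _ = _ := by ring
  have h6 := Set.ncard_inter_add_ncard_sdiff_eq_ncard (Cl R) (R.B : Set G) (Set.toFinite _)
  have hsub : Cl R \ (R.B : Set G) ⊆ {x : G | x * x = 1 ∧ x ∉ R.B} := by
    rintro y ⟨h7, h8⟩
    refine ⟨?_, h8⟩
    obtain ⟨c, hc⟩ := isConj_iff.mp (IsConj.symm h7)
    rw [← hc]
    have e : c * R.h (-1) * c⁻¹ * (c * R.h (-1) * c⁻¹) = c * (R.h (-1) * R.h (-1)) * c⁻¹ := by group
    rw [e, RL.a_sq]
    group
  have h7 := Set.ncard_le_ncard hsub (Set.toFinite _)
  have e1 : (r + 1) * ((r + 1) * ((r + 1) * r)) + (r + 1) * (r + 1) = (r + 1) ^ 2 * ((r + 1) * r + 1) := by ring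
  have : (Cl R ∩ (R.B : Set G)).ncard + (Cl R \ (R.B : Set G)).ncard = c := h6
  omega

end RD

/-- The conjugation representation of `SL₂`. -/
noncomputable def rhoSL {K : Type*} [Field K] : SpecialLinearGroup (Fin 2) K →* Module.End K (Matrix (Fin 2) (Fin 2) K) where
  toFun g :=
    { toFun := fun X => g.1 * X * (g⁻¹).1
      map_add' := fun X Y => by rw [mul_add, add_mul]
      map_smul' := fun c X => by simp [Matrix.mul_smul, Matrix.smul_mul] }
  map_one' := by
    ext X i j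
    simp
  map_mul' g h := by
    ext X i j
    simp [mul_assoc]

theorem rhoSL_apply {K : Type*} [Field K] (g : SpecialLinearGroup (Fin 2) K) (X : Matrix (Fin 2) (Fin 2) K) :
    rhoSL g X = g.1 * X * (g⁻¹).1 := rfl

theorem rhoSL_comm {K : Type*} [Field K] (g : SpecialLinearGroup (Fin 2) K) (X : Matrix (Fin 2) (Fin 2) K)
    (h : rhoSL g X = X) : g.1 * X = X * g.1 := by
  rw [rhoSL_apply] at h
  have : g.1 * X = g.1 * X * (g⁻¹).1 * g.1 := by
    rw [mul_assoc (g.1 * X)]
    have : (g⁻¹).1 * g.1 = 1 := congrArg Subtype.val (inv_mul_cancel g)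
    rw [this, mul_one]
  rw [this, h]

/-- The representation of `PSL₂`. -/
noncomputable def rhoPSL {K : Type*} [Field K] : ProjectiveSpecialLinearGroup (Fin 2) K →* Module.End K (Matrix (Fin 2) (Fin 2) K) :=
  QuotientGroup.lift _ rhoSL (by
    intro x hx
    rw [MonoidHom.mem_ker]
    obtain ⟨r, hr, e⟩ := Matrix.SpecialLinearGroup.mem_center_iff.mp hx
    ext1 X
    rw [rhoSL_apply]
    have h1 : x.1 * (x⁻¹).1 = 1 := congrArg Subtype.val (mul_inv_cancel x)
    have h2 : Matrix.scalar (Fin 2) r * X = X * Matrix.scalar (Fin 2) r := by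
      ext i j
      simp [Matrix.scalar_apply, Matrix.mul_apply, Matrix.diagonal_apply, mul_comm]
    rw [← e] at h1 ⊢
    rw [h2, mul_assoc, h1, mul_one]
    rfl)

theorem rhoPSL_mk {K : Type*} [Field K] (g : SpecialLinearGroup (Fin 2) K) : rhoPSL (QuotientGroup.mk g) = rhoSL g := rfl

theorem rhoSL_triv {K : Type*} [Field K] (g : SpecialLinearGroup (Fin 2) K) (h : rhoSL g = 1) :
    (QuotientGroup.mk g : ProjectiveSpecialLinearGroup (Fin 2) K) = 1 := by
  rw [QuotientGroup.eq_one_iff, Matrix.SpecialLinearGroup.mem_center_iff]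
  have h1 := fun X => rhoSL_comm g X (by rw [h]; rfl)
  have h2 := h1 !![0, 1; 0, 0]
  have h3 := h1 !![0, 0; 1, 0]
  have e1 := congrFun (congrFun h2 0) 1
  have e2 := congrFun (congrFun h2 1) 1
  have e3 := congrFun (congrFun h2 0) 0
  simp [Matrix.mul_apply, Fin.sum_univ_two] at e1 e2 e3
  refine ⟨g.1 0 0, ?_, ?_⟩
  · have hd := g.2
    rw [Matrix.det_fin_two] at hd
    rw [← e1, e2] at hd
    simpa [pow_two] using hd
  · have e4 := congrFun (congrFun h3 0) 0
    simp [Matrix.mul_apply, Fin.sum_univ_two] at e4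
    ext i j
    fin_cases i <;> fin_cases j
    · simp [Matrix.scalar_apply, Matrix.diagonal_apply]
    · simp [Matrix.scalar_apply, Matrix.diagonal_apply]
      exact e4.symm
    · simp [Matrix.scalar_apply, Matrix.diagonal_apply]
      exact e2.symm
    · simp [Matrix.scalar_apply, Matrix.diagonal_apply]
      exact e1

namespace RD

namespace RL

variable {K : Type*} [Field K] [CharP K 3] {f : K ≃+* K} {G : Type*} [Group G] {R : RD K f G} (L : RL R)

include L in
/-- A `p`-subgroup with `q ≡ -1` modulo `p` is cyclic. -/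
theorem cyc_of_Ca [Fintype K] [Finite G] {p : ℕ} [Fact p.Prime]
    (hsq : ∀ u : Kˣ, (∃ v, u = v * v) ∨ (∃ v, u = -1 * (v * v))) (hp2 : p ≠ 2) (hp3 : p ≠ 3)
    (hG : Nat.card G = (1 + Fintype.card K ^ 3) * (Fintype.card K ^ 3 * (Fintype.card K - 1)))
    (hq : 2 ≤ Fintype.card K) (hz : ((Fintype.card K : ℕ) : ZMod p) = -1) (P : Subgroup G) (hP : IsPGroup p P) :
    IsCyclic P := by
  have hpp : p.Prime := Fact.out
  have h2z : (2 : ZMod p) ≠ 0 := by
    intro h
    have : ((2 : ℕ) : ZMod p) = 0 := by exact_mod_cast h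
    rw [ZMod.natCast_eq_zero_iff] at this
    exact hp2 ((Nat.prime_dvd_prime_iff_eq hpp Nat.prime_two).mp this)
  have h3z : (3 : ZMod p) ≠ 0 := by
    intro h
    have : ((3 : ℕ) : ZMod p) = 0 := by exact_mod_cast h
    rw [ZMod.natCast_eq_zero_iff] at this
    exact hp3 ((Nat.prime_dvd_prime_iff_eq hpp Nat.prime_three).mp this)
  have hpK : (p : K) ≠ 0 := by
    intro h
    rw [CharP.cast_eq_zero_iff K 3] at h
    exact hp3 ((Nat.prime_dvd_prime_iff_eq Nat.prime_three hpp).mp h).symm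
  -- `p` does not divide the number of involutions
  have hcard : ¬ p ∣ Nat.card ↥(Cl R) := by
    rw [Nat.card_coe_set_eq, R.card_Cl hG hq]
    obtain ⟨r, hr⟩ : ∃ r, Fintype.card K = r + 1 := ⟨Fintype.card K - 1, by omega⟩
    rw [hr] at hz ⊢
    rw [Nat.add_sub_cancel, ← ZMod.natCast_eq_zero_iff]
    push_cast at hz ⊢
    rw [hz]
    have e : (r : ZMod p) = -2 := by linear_combination hz
    rw [e]
    intro h
    apply h3z
    linear_combination h
  -- the action on the class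
  have hconj : ∀ (x : P) (y : ↥(Cl R)), x.1 * y.1 * x.1⁻¹ ∈ Cl R := by
    intro x y
    have : IsConj (x.1 * y.1 * x.1⁻¹) (R.h (-1)) := (IsConj.symm (isConj_iff.mpr ⟨x.1, rfl⟩)).trans y.2
    exact this
  letI act : MulAction P ↥(Cl R) :=
    { smul := fun x y => ⟨x.1 * y.1 * x.1⁻¹, hconj x y⟩
      one_smul := fun y => Subtype.ext (by
        show (1 : G) * y.1 * (1 : G)⁻¹ = y.1
        group)
      mul_smul := fun x z y => Subtype.ext (by
        show (x.1 * z.1) * y.1 * (x.1 * z.1)⁻¹ = x.1 * (z.1 * y.1 * z.1⁻¹) * x.1⁻¹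
        group) }
  obtain ⟨y, hy⟩ := hP.nonempty_fixed_point_of_prime_not_dvd_card ↥(Cl R) hcard
  obtain ⟨c, hc⟩ := isConj_iff.mp (IsConj.symm y.2)
  have hyfix : ∀ x ∈ P, x * y.1 * x⁻¹ = y.1 := fun x hx => congrArg Subtype.val (hy ⟨x, hx⟩)
  have hmemc : ∀ x ∈ P, c⁻¹ * x * c ∈ Subgroup.centralizer {R.h (-1)} := by
    intro x hx
    rw [Subgroup.mem_centralizer_singleton_iff]
    have h1 := hyfix x hx
    rw [← hc] at h1
    have h2 : x * (c * R.h (-1) * c⁻¹) = c * R.h (-1) * c⁻¹ * x := by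
      have e : x * (c * R.h (-1) * c⁻¹) = (x * (c * R.h (-1) * c⁻¹) * x⁻¹) * x := by group
      rw [e, h1]
    calc c⁻¹ * x * c * R.h (-1) = c⁻¹ * (x * (c * R.h (-1) * c⁻¹)) * c := by group
      _ = R.h (-1) * (c⁻¹ * x * c) := by rw [h2]; group
  let ψ : P →* ↥(Subgroup.centralizer {R.h (-1)}) :=
    { toFun := fun x => ⟨c⁻¹ * x.1 * c, hmemc x.1 x.2⟩
      map_one' := Subtype.ext (by simp)
      map_mul' := fun x z => Subtype.ext (by
        show c⁻¹ * (x.1 * z.1) * c = c⁻¹ * x.1 * c * (c⁻¹ * z.1 * c)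
        group) }
  let ρ : P →* Module.End K (Matrix (Fin 2) (Fin 2) K) :=
    rhoPSL.comp ((MonoidHom.snd _ _).comp ((L.centEquiv hsq).symm.toMonoidHom.comp ψ))
  have hfin : Module.finrank K (Matrix (Fin 2) (Fin 2) K) = 4 := by
    rw [Module.finrank_matrix]
    simp
  have hfP : Finite P := inferInstance
  refine cyc_of_rep (d := 2) hp2 hpK hP ρ (by rw [hfin]; norm_num) ?_
  intro A hA
  set D := Module.finrank K ↥(fixSp ρ A) with hD
  have hle : D ≤ 4 := by
    rw [← hfin]
    exact Submodule.finrank_le _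
  have hAp : IsPGroup p A := hP.to_subgroup A
  have hmod := card_fix_modEq ρ A hAp
  rw [hfin, ← hD, Nat.card_eq_fintype_card, ← ZMod.natCast_eq_natCast_iff] at hmod
  push_cast at hmod
  rw [hz] at hmod
  have h1ne : (1 : ZMod p) ≠ -1 := by
    intro h
    apply h2z
    linear_combination h
  have h0 : D ≠ 0 := by
    intro h0
    have h1 : fixSp ρ A = ⊥ := by
      rw [← Submodule.finrank_eq_zero]
      exact h0
    have h2 : (1 : Matrix (Fin 2) (Fin 2) K) ∈ fixSp ρ A := by
      intro g hg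
      show rhoPSL _ _ = _
      obtain ⟨m, hm⟩ := QuotientGroup.mk_surjective ((L.centEquiv hsq).symm (ψ g)).2
      show rhoPSL ((L.centEquiv hsq).symm (ψ g)).2 _ = _
      rw [← hm, rhoPSL_mk, rhoSL_apply, mul_one]
      exact congrArg Subtype.val (mul_inv_cancel m)
    rw [h1, Submodule.mem_bot] at h2
    exact one_ne_zero h2
  have h4 : D ≠ 4 := by
    intro h4
    have hT : fixSp ρ A = ⊤ := Submodule.eq_top_of_finrank_eq (by rw [hfin]; exact h4)
    apply hA
    rw [Subgroup.eq_bot_iff_forall]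
    intro x hx
    have h5 : ρ x = 1 := by
      ext1 X
      have : X ∈ fixSp ρ A := by rw [hT]; exact Submodule.mem_top
      exact this x hx
    -- decompose
    obtain ⟨e, p', hep⟩ : ∃ e p', (L.centEquiv hsq).symm (ψ x) = (e, p') := ⟨_, _, rfl⟩
    obtain ⟨m, rfl⟩ := QuotientGroup.mk_surjective p'
    have h6 : rhoSL m = 1 := by
      have : ρ x = rhoPSL ((L.centEquiv hsq).symm (ψ x)).2 := rfl
      rw [this, hep] at h5
      exact h5
    have h7 := rhoSL_triv m h6
    rw [h7] at hep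
    have h8 : ψ x = L.centEquiv hsq (e, 1) := by
      rw [← hep, MulEquiv.apply_symm_apply]
    have h9 : c⁻¹ * x.1 * c = L.Phi (e, 1) := congrArg Subtype.val h8
    have h10 : L.Phi (e, 1) * L.Phi (e, 1) = 1 := by
      rw [← map_mul]
      have he : e * e = 1 := by
        rcases mp2_cases e with rfl | rfl
        · simp
        · rfl
      have : (e, (1 : ProjectiveSpecialLinearGroup (Fin 2) K)) * (e, 1) = 1 := Prod.ext he (mul_one 1)
      rw [this, map_one]
    have h11 : x.1 * x.1 = 1 := by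
      rw [← h9] at h10
      have e3 : x.1 * x.1 = c * (c⁻¹ * x.1 * c * (c⁻¹ * x.1 * c)) * c⁻¹ := by group
      rw [e3, h10]
      group
    have h12 : x ^ 2 = 1 := Subtype.ext (by simpa [pow_two] using h11)
    obtain ⟨k, hk⟩ := hP x
    have hcp : Nat.Coprime 2 (p ^ k) := by
      apply Nat.Coprime.pow_right
      exact (Nat.coprime_primes Nat.prime_two hpp).mpr (Ne.symm hp2)
    have := Nat.eq_one_of_dvd_coprimes hcp (orderOf_dvd_of_pow_eq_one h12) (orderOf_dvd_of_pow_eq_one hk)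
    exact orderOf_eq_one_iff.mp this
  have h1 : D ≠ 1 := by
    intro h
    rw [h] at hmod
    norm_num at hmod
    exact h1ne hmod
  have h3 : D ≠ 3 := by
    intro h
    rw [h] at hmod
    norm_num [pow_succ] at hmod
    exact h1ne hmod
  omega

end RL

end RD

section V7

open Cfsg Cfsg.Lie Cfsg.Agent.Lib.Chev.TwG2 Cfsg.Agent.Lib.Chev.TabG2

variable {K : Type*} [Field K] [CharP K 3] [Fintype K] (f : K ≃+* K) (hf3 : ∀ t, f (f t) ^ 3 = t)
  (hΓ : ∀ g ∈ (TT f).AA JJ, inv7 ((g : GL chevG2.Idx K) : Matrix chevG2.Idx chevG2.Idx K))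

include hf3 hΓ in
/-- A `p`-subgroup with `q² - q + 1 ≡ 0` modulo `p` is cyclic. -/
theorem cyc_V7 (hs : IsSimpleGroup ↥((TT f).AA JJ)) [Finite ↥((TT f).AA JJ)] {p : ℕ} [Fact p.Prime] (hp2 : p ≠ 2) (hp3 : p ≠ 3)
    (hz : ((Fintype.card K : ℕ) : ZMod p) ^ 2 - ((Fintype.card K : ℕ) : ZMod p) + 1 = 0)
    (P : Subgroup ↥((TT f).AA JJ)) (hP : IsPGroup p P) : IsCyclic P := by
  have hpp : p.Prime := Fact.out
  have h2z : (2 : ZMod p) ≠ 0 := by
    intro h
    have : ((2 : ℕ) : ZMod p) = 0 := by exact_mod_cast h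
    rw [ZMod.natCast_eq_zero_iff] at this
    exact hp2 ((Nat.prime_dvd_prime_iff_eq hpp Nat.prime_two).mp this)
  have h3z : (3 : ZMod p) ≠ 0 := by
    intro h
    have : ((3 : ℕ) : ZMod p) = 0 := by exact_mod_cast h
    rw [ZMod.natCast_eq_zero_iff] at this
    exact hp3 ((Nat.prime_dvd_prime_iff_eq hpp Nat.prime_three).mp this)
  have hpK : (p : K) ≠ 0 := by
    intro h
    rw [CharP.cast_eq_zero_iff K 3] at h
    exact hp3 ((Nat.prime_dvd_prime_iff_eq Nat.prime_three hpp).mp h).symm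
  let ρ : P →* Module.End K (S7 → K) := (rhoG _ hΓ).comp P.subtype
  have hfin : Module.finrank K (S7 → K) = 7 := by
    rw [Module.finrank_fintype_fun_eq_card, card_S7]
  refine cyc_of_rep (d := 1) hp2 hpK hP ρ (by rw [hfin]; norm_num) ?_
  intro A hA
  set D := Module.finrank K ↥(fixSp ρ A) with hD
  have hle : D ≤ 7 := by
    rw [← hfin]
    exact Submodule.finrank_le _
  have hAp : IsPGroup p A := hP.to_subgroup A
  have hmod := card_fix_modEq ρ A hAp
  rw [hfin, ← hD, Nat.card_eq_fintype_card, ← ZMod.natCast_eq_natCast_iff] at hmod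
  push_cast at hmod
  set z := ((Fintype.card K : ℕ) : ZMod p) with hzdef
  have hz3 : z ^ 3 = -1 := by linear_combination (z + 1) * hz
  have hz7 : z ^ 7 = z := by
    have : z ^ 7 = (z ^ 3) ^ 2 * z := by ring
    rw [this, hz3]
    ring
  rw [hz7] at hmod
  have hz1 : z ≠ 1 := by
    intro h
    rw [h] at hz
    norm_num at hz
  have h7 : D ≠ 7 := by
    intro h7
    have hT : fixSp ρ A = ⊤ := Submodule.eq_top_of_finrank_eq (by rw [hfin]; exact h7)
    apply hA
    rw [Subgroup.eq_bot_iff_forall]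
    intro x hx
    have h5 : ρ x = 1 := by
      apply LinearMap.ext
      intro v
      have : v ∈ fixSp ρ A := by rw [hT]; exact Submodule.mem_top
      exact this x hx
    exact Subtype.ext (rho_inj f hf3 hΓ hs h5)
  have hD' : D = 0 ∨ D = 1 ∨ D = 2 ∨ D = 3 ∨ D = 4 ∨ D = 5 ∨ D = 6 := by omega
  rcases hD' with h | h | h | h | h | h | h
  · rw [h, pow_zero] at hmod
    exact absurd hmod hz1
  · exact h
  · exfalso
    rw [h] at hmod
    have : (1 : ZMod p) = 0 := by linear_combination hz + hmod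
    exact one_ne_zero this
  · exfalso
    rw [h, hz3] at hmod
    apply h3z
    rw [hmod] at hz
    linear_combination hz
  · exfalso
    rw [h] at hmod
    have e1 : z ^ 4 = -z := by linear_combination z * hz3
    rw [e1] at hmod
    have e2 : 2 * z = 0 := by linear_combination hmod
    have e3 : z = 0 := (mul_eq_zero.mp e2).resolve_left h2z
    rw [e3] at hz
    norm_num at hz
  · exfalso
    rw [h] at hmod
    have e1 : z ^ 5 = -z ^ 2 := by linear_combination z ^ 2 * hz3
    rw [e1] at hmod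
    have e2 : 2 * z = 1 := by linear_combination hmod - hz
    apply h3z
    linear_combination 4 * hz - (2 * z - 1) * e2
  · exfalso
    rw [h] at hmod
    have e1 : z ^ 6 = 1 := by
      have : z ^ 6 = (z ^ 3) ^ 2 := by ring
      rw [this, hz3]
      ring
    rw [e1] at hmod
    exact hz1 hmod

end V7

end Cfsg.Agent.Lib.Ree
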