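import Cfsg.Agent.Lib.Ree.AutB
import Cfsg.Agent.Lib.Chev.FieldAut

/-! Field automorphisms act on the small Ree groups. -/

set_option autoImplicit false
set_option maxRecDepth 100000
set_option linter.unusedSimpArgs false
set_option linter.unusedVariables false
set_option linter.unusedSectionVars false

namespace Cfsg.Agent.Lib.Ree

open Cfsg Cfsg.Lie Matrix Cfsg.Agent.Lib.BN Cfsg.Agent.Lib.Chev Cfsg.Agent.Lib.Chev.Tw Cfsg.Agent.Lib.Chev.TwG2 Cfsg.Agent.Lib.Chev.TabG2

variable {K : Type*} [Field K] [CharP K 3] (f : K ≃+* K)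

theorem glMap_xg (φ : K ≃+* K) {r : ℕ} (hr : r < chevG2.nroots) (t : K) :
    glMap (D := chevG2) φ (good3.xg hr t) = good3.xg hr (φ t) := by
  apply Units.ext
  rw [glMap_val, Good0.xg_val, Good0.xg_val]
  simp only [ChevalleyDatum.x, hr, dif_pos]
  exact xMat_map φ ⟨r, hr⟩ t

theorem glMap_iot_xg (φ : K ≃+* K) {r : ℕ} (hr : r < chevG2.nroots) (t : K) :
    glMap (D := chevG2) φ (TwAut.iot good5.inv K (good3.xg hr t)) = TwAut.iot good5.inv K (good3.xg hr (φ t)) := by
  rw [TwAut.iot_x (F := K) invD good3 hr t, TwAut.iot_x (F := K) invD good3 hr (φ t), glMap_xg, map_neg]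

variable (φ : K ≃+* K) (hc : ∀ x, φ (f x) = f (φ x))
include hc

theorem glMap_WW (a b c : K) : glMap (D := chevG2) φ (WW f a b c) = WW f (φ a) (φ b) (φ c) := by
  unfold WW Om
  simp only [map_mul, glMap_xg, map_add, map_pow, hc]

theorem glMap_iot_WW (a b c : K) : glMap (D := chevG2) φ (TwAut.iot good5.inv K (WW f a b c)) = TwAut.iot good5.inv K (WW f (φ a) (φ b) (φ c)) := by
  unfold WW Om
  simp only [TwAut.iot_mul, map_mul, glMap_iot_xg, map_add, map_pow, hc]

theorem glMap_nn : glMap (D := chevG2) φ (nn f) = nn f := by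
  rw [nn_coe, map_mul, map_mul, glMap_WW f φ hc, glMap_iot_WW f φ hc, map_zero, map_one]

omit hc in
theorem gc_map (hc : ∀ x, φ (f x) = f (φ x)) (u : Kˣ) (i : Fin chevG2.rank) :
    gc f (Units.map (φ : K →* K) u) i = Units.map (φ : K →* K) (gc f u i) := by
  apply Units.ext
  by_cases h : i.val = 0
  · simp [gc, h]
  · simp [gc, h, hc]

theorem glMap_tor (u : Kˣ) : glMap (D := chevG2) φ (good3.toGood2.torusHom (gc f u)) =
    good3.toGood2.torusHom (gc f (Units.map (φ : K →* K) u)) := by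
  apply Units.ext
  rw [glMap_val, Good2.torusHom_val, Good2.torusHom_val]
  unfold dgM
  rw [Matrix.diagonal_map (map_zero φ)]
  congr 1
  funext i
  rcases i with i | s
  · simp
  · simp only [Function.comp, Sum.elim_inr]
    rw [chiL_extU_simple, chiL_extU_simple]
    rw [map_prod]
    refine Finset.prod_congr rfl fun i _ => ?_
    rw [gc_map f φ hc]
    simp

variable (hf3 : ∀ t, f (f t) ^ 3 = t)
include hf3

theorem glMap_AA {g : GL chevG2.Idx K} (hg : g ∈ (TT f).AA JJ) : glMap (D := chevG2) φ g ∈ (TT f).AA JJ := by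
  unfold TwAut.AA at hg
  refine Subgroup.closure_induction (p := fun g _ => glMap (D := chevG2) φ g ∈ (TT f).AA JJ) ?_ ?_ ?_ ?_ hg
  · intro x hx
    obtain ⟨i, hx⟩ := Set.mem_iUnion.mp hx
    have hi : i = 0 := Subsingleton.elim _ _
    subst hi
    rcases hx with hx | hx
    · obtain ⟨a, b, c, rfl⟩ := (X_iff f hf3).mp hx
      rw [glMap_WW f φ hc]
      exact X1_mem f hf3 _ _ _
    · obtain ⟨c₀, hc₀, rfl⟩ := ((TT f).mem_Y_iff invD).mp hx
      obtain ⟨a, b, c, rfl⟩ := (X_iff f hf3).mp hc₀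
      rw [glMap_iot_WW f φ hc]
      exact (TT f).Y_le_AA JJ 0 ((TT f).iot_X invD ((X_iff f hf3).mpr ⟨_, _, _, rfl⟩))
  · rw [map_one]
    exact Subgroup.one_mem _
  · intro a b _ _ ha hb
    rw [map_mul]
    exact Subgroup.mul_mem _ ha hb
  · intro a _ ha
    rw [map_inv]
    exact Subgroup.inv_mem _ ha

omit hc

variable (hcc : ∀ (φ : K ≃+* K) (x : K), φ (f x) = f (φ x))
include hcc

/-- The field automorphism of the small Ree group. -/
noncomputable def Gam (φ : K ≃+* K) : MulAut ↥((TT f).AA JJ) where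
  toFun g := ⟨glMap (D := chevG2) φ g, glMap_AA f φ (hcc φ) hf3 g.2⟩
  invFun g := ⟨glMap (D := chevG2) φ.symm g, glMap_AA f φ.symm (hcc φ.symm) hf3 g.2⟩
  left_inv g := Subtype.ext (glMap_symm' φ g.1)
  right_inv g := Subtype.ext (glMap_symm φ g.1)
  map_mul' a b := Subtype.ext (map_mul (glMap (D := chevG2) φ) _ _)

variable [Fintype K] (hsq : ∀ u : Kˣ, (∃ v, u = v * v) ∨ (∃ v, u = -1 * (v * v)))

/-- The action of the field automorphisms on the coordinates. -/
noncomputable def galAct : (rd f hf3 hsq).GalAct where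
  Γ := Gam f hf3 hcc
  Γ_t φ a b c := Subtype.ext (glMap_WW f φ (hcc φ) a b c)
  Γ_h φ u := Subtype.ext (glMap_tor f φ (hcc φ) u)
  Γ_n φ := Subtype.ext (glMap_nn f φ (hcc φ))

end Cfsg.Agent.Lib.Ree
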