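import Mathlib

/-! An abstract description of the small Ree groups through their Bruhat decomposition. -/

set_option autoImplicit false
set_option linter.unusedSimpArgs false
set_option linter.unusedVariables false
set_option linter.unusedSectionVars false

namespace Cfsg.Agent.Lib.Ree

/-- Coordinates on a small Ree group. -/
structure RD (K : Type*) [Field K] (f : K ≃+* K) (G : Type*) [Group G] where
  hf3 : ∀ x, f (f x) ^ 3 = x
  t : K → K → K → G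
  h : Kˣ →* G
  n : G
  t_mul : ∀ a b c a' b' c', t a b c * t a' b' c' =
    t (a + a') (b + b' - a * f a' ^ 3) (c + c' - a ^ 2 * f a' ^ 3 - b * a' + a * a' * f a' ^ 3)
  t_inj : ∀ {a b c a' b' c'}, t a b c = t a' b' c' → a = a' ∧ b = b' ∧ c = c'
  h_inj : Function.Injective h
  h_t : ∀ (u : Kˣ) (a b c : K), h u * t a b c * (h u)⁻¹ =
    t ((u : K)⁻¹ ^ 3 * f (u : K) ^ 6 * a) ((u : K) ^ 3 * (f (u : K))⁻¹ ^ 3 * b) (f (u : K) ^ 3 * c)
  n_h : ∀ u, n * h u * n⁻¹ = h u⁻¹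
  n_sq : n * n = 1
  n_tb : ∀ a b c a' b' c' s, t a b c * n = n * (t a' b' c' * h s) → a = 0 ∧ b = 0 ∧ c = 0
  n_nb : ∀ a b c s, n ≠ t a b c * h s
  bruhat : ∀ g, (∃ a b c s, g = t a b c * h s) ∨ (∃ a b c a' b' c' s, g = t a b c * n * (t a' b' c' * h s))

namespace RD

variable {K : Type*} [Field K] {f : K ≃+* K} {G : Type*} [Group G] (R : RD K f G)

theorem t_zero : R.t 0 0 0 = 1 := by
  have := R.t_mul 0 0 0 0 0 0
  simp only [map_zero, zero_add, add_zero] at this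
  have e : (0 : K) + 0 - 0 * 0 ^ 3 = 0 := by ring
  have e2 : (0 : K) + 0 - 0 ^ 2 * 0 ^ 3 - 0 * 0 + 0 * 0 * 0 ^ 3 = 0 := by ring
  simp only [ne_eq, OfNat.ofNat_ne_zero, not_false_eq_true, zero_pow, mul_zero, sub_self, add_zero, sub_zero, zero_mul] at this
  exact mul_eq_left.mp this

theorem t_inv (a b c : K) : (R.t a b c)⁻¹ = R.t (-a) (-b - a * f a ^ 3) (-c - 2 * a ^ 2 * f a ^ 3 - a * b) := by
  apply inv_eq_of_mul_eq_one_right
  rw [R.t_mul, ← R.t_zero]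
  congr 1
  · ring
  · rw [map_neg]
    ring
  · rw [map_neg]
    ring

theorem t_eq_one {a b c : K} (h : R.t a b c = 1) : a = 0 ∧ b = 0 ∧ c = 0 := by
  rw [← R.t_zero] at h
  exact R.t_inj h

theorem n_inv : R.n⁻¹ = R.n := inv_eq_of_mul_eq_one_right R.n_sq

/-- `h` commutes past `t`. -/
theorem h_mul_t (u : Kˣ) (a b c : K) : R.h u * R.t a b c =
    R.t ((u : K)⁻¹ ^ 3 * f (u : K) ^ 6 * a) ((u : K) ^ 3 * (f (u : K))⁻¹ ^ 3 * b) (f (u : K) ^ 3 * c) * R.h u := by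
  rw [← R.h_t]
  group

theorem h_mul_n (u : Kˣ) : R.h u * R.n = R.n * R.h u⁻¹ := by
  have := R.n_h u⁻¹
  rw [inv_inv] at this
  rw [← this]
  group

theorem n_mul_h (u : Kˣ) : R.n * R.h u = R.h u⁻¹ * R.n := by
  rw [R.h_mul_n, inv_inv]

/-- The positive unipotent part. -/
def U : Subgroup G where
  carrier := {g | ∃ a b c, g = R.t a b c}
  mul_mem' := by
    rintro _ _ ⟨a, b, c, rfl⟩ ⟨a', b', c', rfl⟩
    exact ⟨_, _, _, R.t_mul a b c a' b' c'⟩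
  one_mem' := ⟨0, 0, 0, R.t_zero.symm⟩
  inv_mem' := by
    rintro _ ⟨a, b, c, rfl⟩
    exact ⟨_, _, _, R.t_inv a b c⟩

/-- The Borel part. -/
def B : Subgroup G where
  carrier := {g | ∃ a b c s, g = R.t a b c * R.h s}
  mul_mem' := by
    rintro _ _ ⟨a, b, c, s, rfl⟩ ⟨a', b', c', s', rfl⟩
    rw [mul_assoc, ← mul_assoc (R.h s), R.h_mul_t, mul_assoc _ (R.h s), ← mul_assoc (R.t a b c), R.t_mul, ← map_mul]
    exact ⟨_, _, _, _, rfl⟩
  one_mem' := ⟨0, 0, 0, 1, by rw [R.t_zero, map_one, one_mul]⟩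
  inv_mem' := by
    rintro _ ⟨a, b, c, s, rfl⟩
    rw [mul_inv_rev, R.t_inv, ← map_inv, R.h_mul_t]
    exact ⟨_, _, _, _, rfl⟩

theorem mem_U {g : G} : g ∈ R.U ↔ ∃ a b c, g = R.t a b c := Iff.rfl

theorem mem_B {g : G} : g ∈ R.B ↔ ∃ a b c s, g = R.t a b c * R.h s := Iff.rfl

theorem t_mem (a b c : K) : R.t a b c ∈ R.U := ⟨a, b, c, rfl⟩

theorem t_mem_B (a b c : K) : R.t a b c ∈ R.B := ⟨a, b, c, 1, by rw [map_one, mul_one]⟩

theorem h_mem_B (s : Kˣ) : R.h s ∈ R.B := ⟨0, 0, 0, s, by rw [R.t_zero, one_mul]⟩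

theorem U_le_B : R.U ≤ R.B := by
  rintro _ ⟨a, b, c, rfl⟩
  exact R.t_mem_B a b c

/-- `n` is not in `B`. -/
theorem n_not_B : R.n ∉ R.B := by
  rintro ⟨a, b, c, s, h⟩
  exact R.n_nb a b c s h

/-- A conjugate of `n` by an element of `t`. -/
theorem t_n_B {a b c : K} {g : G} (hg : g ∈ R.B) (h : R.t a b c * R.n = R.n * g) : a = 0 ∧ b = 0 ∧ c = 0 := by
  obtain ⟨a', b', c', s, rfl⟩ := hg
  exact R.n_tb a b c a' b' c' s h

/-- If `x n B = n B`, with `x` in `B`, then `x` is in `H`. -/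
theorem B_n_B {g k : G} (hg : g ∈ R.B) (hk : k ∈ R.B) (h : g * R.n = R.n * k) : ∃ s, g = R.h s := by
  obtain ⟨a, b, c, s, rfl⟩ := hg
  refine ⟨s, ?_⟩
  have e : R.t a b c * R.n = R.n * (k * R.h s) := by
    have e1 : R.t a b c * R.n = (R.t a b c * R.h s * R.n) * R.h s := by
      rw [mul_assoc (R.t a b c), R.h_mul_n]
      rw [mul_assoc, mul_assoc, ← map_mul]
      simp
    rw [e1, h, mul_assoc]
  obtain ⟨rfl, rfl, rfl⟩ := R.t_n_B (Subgroup.mul_mem _ hk (R.h_mem_B s)) e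
  rw [R.t_zero, one_mul]

/-- Every element outside `B` is in `t n B`. -/
theorem not_B_form {g : G} (hg : g ∉ R.B) : ∃ a b c k, k ∈ R.B ∧ g = R.t a b c * R.n * k := by
  rcases R.bruhat g with ⟨a, b, c, s, rfl⟩ | ⟨a, b, c, a', b', c', s, rfl⟩
  · exact absurd ⟨a, b, c, s, rfl⟩ hg
  · exact ⟨a, b, c, _, ⟨a', b', c', s, rfl⟩, rfl⟩

/-- The unipotent subgroup and its conjugate by `n` meet trivially. -/
theorem U_inf_n {x : G} (hx : x ∈ R.U) {y : G} (hy : y ∈ R.B) (h : x * R.n = R.n * y) : x = 1 := by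
  obtain ⟨a, b, c, rfl⟩ := hx
  obtain ⟨rfl, rfl, rfl⟩ := R.t_n_B hy h
  exact R.t_zero

/-- `h` normalises `U`. -/
theorem h_conj_U (s : Kˣ) {x : G} (hx : x ∈ R.U) : R.h s * x * (R.h s)⁻¹ ∈ R.U := by
  obtain ⟨a, b, c, rfl⟩ := hx
  rw [R.h_t]
  exact R.t_mem _ _ _

/-- `B` normalises `U`. -/
theorem B_conj_U {g x : G} (hg : g ∈ R.B) (hx : x ∈ R.U) : g * x * g⁻¹ ∈ R.U := by
  obtain ⟨a, b, c, s, rfl⟩ := hg
  have e : R.t a b c * R.h s * x * (R.t a b c * R.h s)⁻¹ =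
      R.t a b c * (R.h s * x * (R.h s)⁻¹) * (R.t a b c)⁻¹ := by group
  rw [e]
  exact Subgroup.mul_mem _ (Subgroup.mul_mem _ (R.t_mem _ _ _) (R.h_conj_U s hx)) (Subgroup.inv_mem _ (R.t_mem _ _ _))

/-- The trivial intersection property of `U`. -/
theorem U_TI {g x : G} (hg : g ∉ R.B) (hx : x ∈ R.U) (hx2 : g * x * g⁻¹ ∈ R.U) : x = 1 := by
  obtain ⟨a, b, c, k, hk, rfl⟩ := R.not_B_form hg
  -- x' = k x k⁻¹ in U with t n x' n⁻¹ t⁻¹ in U
  have h1 : k * x * k⁻¹ ∈ R.U := R.B_conj_U hk hx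
  set x' := k * x * k⁻¹ with hx'
  have e : R.t a b c * R.n * k * x * (R.t a b c * R.n * k)⁻¹ = R.t a b c * (R.n * x' * R.n⁻¹) * (R.t a b c)⁻¹ := by
    rw [hx']
    group
  rw [e] at hx2
  have h2 : R.n * x' * R.n⁻¹ ∈ R.U := by
    have e2 : R.n * x' * R.n⁻¹ = (R.t a b c)⁻¹ * (R.t a b c * (R.n * x' * R.n⁻¹) * (R.t a b c)⁻¹) * R.t a b c := by group
    rw [e2]
    exact Subgroup.mul_mem _ (Subgroup.mul_mem _ (Subgroup.inv_mem _ (R.t_mem _ _ _)) hx2) (R.t_mem _ _ _)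
  have h3 : (R.n * x' * R.n⁻¹) * R.n = R.n * x' := by group
  have h4 := R.U_inf_n h2 (R.U_le_B h1) h3
  have h5 : x' = 1 := by
    have : x' = R.n⁻¹ * (R.n * x' * R.n⁻¹) * R.n := by group
    rw [this, h4]
    group
  have h6 : x = k⁻¹ * x' * k := by
    rw [hx']
    group
  rw [h6, h5]
  group

variable [CharP K 3]

theorem three_eq : (3 : K) = 0 := by
  have := CharP.cast_eq_zero K 3
  exact_mod_cast this

/-- The cube of an element of `U`. -/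
theorem t_cube (a b c : K) : R.t a b c ^ 3 = R.t 0 0 (-(a ^ 2 * f a ^ 3)) := by
  have h3 : (3 : K) = 0 := three_eq
  rw [pow_succ, pow_succ, pow_one, R.t_mul, R.t_mul]
  congr 1
  · linear_combination a * h3
  · linear_combination (b - a * f a ^ 3) * h3
  · linear_combination (c - a * b) * h3

/-- `x ↦ f(x)³` on `h`: elementary facts. -/
theorem a_eq_zero_of {a : K} (h : a ^ 2 * f a ^ 3 = 0) : a = 0 := by
  rcases mul_eq_zero.mp h with h | h
  · exact pow_eq_zero_iff (by norm_num) |>.mp h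
  · have := pow_eq_zero_iff (by norm_num) |>.mp h
    exact (map_eq_zero_iff f f.injective).mp this

end RD

end Cfsg.Agent.Lib.Ree
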