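import Cfsg.Agent.Lib.Ree.Nw
import Cfsg.Agent.Lib.Ree.RD
import Cfsg.Agent.Lib.BN.Simple

/-! The small Ree groups carry the abstract coordinates. -/

set_option autoImplicit false
set_option maxRecDepth 100000
set_option linter.unusedSimpArgs false
set_option linter.unusedVariables false
set_option linter.unusedSectionVars false

namespace Cfsg.Agent.Lib.Ree

open Cfsg Cfsg.Lie Matrix Cfsg.Agent.Lib.BN Cfsg.Agent.Lib.Chev Cfsg.Agent.Lib.Chev.Tw Cfsg.Agent.Lib.Chev.TwG2 Cfsg.Agent.Lib.Chev.TabG2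

variable {K : Type*} [Field K] [CharP K 3] (f : K ≃+* K)

theorem WW_zero_val : WW f (0 : K) 0 0 = 1 := by
  unfold WW Om
  simp [good3.xg_zero]

theorem WW_eq_one {a b c : K} (h : WW f a b c = 1) : a = 0 ∧ b = 0 ∧ c = 0 := by
  rw [← WW_zero_val f] at h
  exact WW_inj f h

theorem nn_coe : nn f = WW f (0 : K) 1 0 * TwAut.iot good5.inv K (WW f (0 : K) 1 0) * WW f (0 : K) 1 0 := by
  simp [nn]

variable (hf3 : ∀ t, f (f t) ^ 3 = t)
  (hsq : ∀ u : Kˣ, (∃ v, u = v * v) ∨ (∃ v, u = -1 * (v * v)))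

include hf3

theorem U_A_iff {g : GL chevG2.Idx K} :
    g ∈ chevG2.posUnipotent K ⊓ (TT f).AA JJ ↔ ∃ a b c, g = WW f a b c := by
  constructor
  · rintro ⟨h1, h2⟩
    have h3 : g ∈ (TT f).XJ [0, 1] := ⟨by rwa [Sp_eq], (TT f).AA_le_Fx JJ h2⟩
    exact (X_iff f hf3).mp h3
  · rintro ⟨t, u, v, rfl⟩
    have h3 := (X_iff f hf3).mpr ⟨t, u, v, rfl⟩
    refine ⟨?_, (TT f).X_le_AA JJ 0 h3⟩
    rw [← Sp_eq]
    exact h3.1

theorem n0_not_B : (sys f hf3).nJ 0 ∉ chevG2.borelSubgroup K := by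
  intro h
  obtain ⟨b, hb, hne⟩ := (sys f hf3).input.ne 0
  exact hne (Subgroup.mul_mem _ (Subgroup.mul_mem _ h hb.1) h)

theorem iot_W_not_B : TwAut.iot good5.inv K (WW f (0 : K) 1 0) ∉ chevG2.borelSubgroup K := by
  intro h
  have hY := (TT f).iot_X invD ((X_iff f hf3).mpr ⟨(0 : K), 1, 0, rfl⟩)
  have hV := (TT f).Sm_le_V _ hY.1
  have h1 : TwAut.iot good5.inv K (WW f (0 : K) 1 0) ∈ chevG2.borelSubgroup K ⊓ chevG2.negUnipotent K := ⟨h, hV⟩
  rw [good3.B_inf_V, Subgroup.mem_bot] at h1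
  have h2 := TwAut.iot_ne h1
  have h3 := (WW_eq_one f h2).2.1
  exact one_ne_zero h3

theorem W_mem_B (a b c : K) : WW f a b c ∈ chevG2.borelSubgroup K :=
  good3.U_le_B ((U_A_iff f hf3).mpr ⟨a, b, c, rfl⟩).1

theorem nn_not_B : nn f ∉ chevG2.borelSubgroup K := by
  intro h
  apply iot_W_not_B f hf3
  rw [nn_coe] at h
  have e : TwAut.iot good5.inv K (WW f (0 : K) 1 0) = (WW f (0 : K) 1 0)⁻¹ *
      (WW f (0 : K) 1 0 * TwAut.iot good5.inv K (WW f (0 : K) 1 0) * WW f (0 : K) 1 0) * (WW f (0 : K) 1 0)⁻¹ := by group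
  rw [e]
  exact Subgroup.mul_mem _ (Subgroup.mul_mem _ (Subgroup.inv_mem _ (W_mem_B f hf3 _ _ _)) h) (Subgroup.inv_mem _ (W_mem_B f hf3 _ _ _))

/-- The element `nn` lies in the coset of `H` of the Weyl element. -/
theorem nn_form [Fintype K] : ((sys f hf3).nJ 0)⁻¹ * nn f ∈ chevG2.diagonalSubgroup K ⊓ (TT f).AA JJ := by
  obtain ⟨φ, -, hφ⟩ := N_hom f hf3
  have hn0 : (sys f hf3).nJ 0 ∈ chevG2.monomialSubgroup K ⊓ (TT f).AA JJ := ⟨(sys f hf3).nJ_N 0, (sys f hf3).nJ_A 0⟩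
  have hn1 : nn f ∈ chevG2.monomialSubgroup K ⊓ (TT f).AA JJ := ⟨nn_N f, nn_mem f hf3⟩
  have key : ∀ x (hx : x ∈ chevG2.monomialSubgroup K ⊓ (TT f).AA JJ), x ∉ chevG2.borelSubgroup K →
      φ ⟨x, hx⟩ = Multiplicative.ofAdd 1 := by
    intro x hx hB
    have h1 : φ ⟨x, hx⟩ ≠ 1 := by
      intro h
      have h2 : (⟨x, hx⟩ : ↥(chevG2.monomialSubgroup K ⊓ (TT f).AA JJ)) ∈ φ.ker := h
      rw [hφ, Subgroup.mem_subgroupOf] at h2
      exact hB (good3.H_le_B h2.1)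
    generalize φ ⟨x, hx⟩ = y at h1
    revert y
    decide
  have hk1 := key _ hn0 (n0_not_B f hf3)
  have hk2 := key _ hn1 (nn_not_B f hf3)
  have hm := Subgroup.mul_mem _ (Subgroup.inv_mem _ hn0) hn1
  have h1 : (⟨((sys f hf3).nJ 0)⁻¹ * nn f, hm⟩ : ↥(chevG2.monomialSubgroup K ⊓ (TT f).AA JJ)) ∈ φ.ker := by
    have e : (⟨((sys f hf3).nJ 0)⁻¹ * nn f, hm⟩ : ↥(chevG2.monomialSubgroup K ⊓ (TT f).AA JJ)) =
        (⟨(sys f hf3).nJ 0, hn0⟩ : ↥(chevG2.monomialSubgroup K ⊓ (TT f).AA JJ))⁻¹ * ⟨nn f, hn1⟩ := rfl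
    rw [e, MonoidHom.mem_ker, map_mul, map_inv, hk1, hk2]
    simp
  rw [hφ, Subgroup.mem_subgroupOf] at h1
  exact h1

include hsq

theorem tor_mem (u : Kˣ) : good3.toGood2.torusHom (gc f u) ∈ (TT f).AA JJ := by
  have : good3.toGood2.torusHom (gc f u) ∈ chevG2.diagonalSubgroup K ⊓ (TT f).AA JJ := by
    rw [H1_eq f hf3 hsq]
    exact ⟨u, rfl⟩
  exact this.2

theorem nn_k [Fintype K] : ∃ v : Kˣ, nn f = (sys f hf3).nJ 0 * good3.toGood2.torusHom (gc f v) := by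
  have h := nn_form f hf3
  rw [H1_eq f hf3 hsq] at h
  obtain ⟨v, hv⟩ := h
  refine ⟨v, ?_⟩
  have hv' : good3.toGood2.torusHom (gc f v) = ((sys f hf3).nJ 0)⁻¹ * nn f := hv
  rw [hv']
  group

theorem tor_comm (u v : Kˣ) : good3.toGood2.torusHom (gc f u) * good3.toGood2.torusHom (gc f v) =
    good3.toGood2.torusHom (gc f v) * good3.toGood2.torusHom (gc f u) := by
  rw [← map_mul, ← map_mul, ← map_mul, ← map_mul, mul_comm]

theorem n0_tor (u : Kˣ) : (sys f hf3).nJ 0 * good3.toGood2.torusHom (gc f u) * ((sys f hf3).nJ 0)⁻¹ =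
    good3.toGood2.torusHom (gc f u⁻¹) := by
  have := good3.toGood2.conj_torus_inv ((sys f hf3).nJ_N0 0) ((sys f hf3).nJ_mono 0) (gc f u)
    (fun i => Or.inr (fun s => neg_cart i s))
  rw [this, map_inv, map_inv]

theorem nn_tor [Fintype K] (u : Kˣ) : nn f * good3.toGood2.torusHom (gc f u) * (nn f)⁻¹ =
    good3.toGood2.torusHom (gc f u⁻¹) := by
  obtain ⟨v, hv⟩ := nn_k f hf3 hsq
  rw [hv, ← n0_tor f hf3 hsq u]
  have e := tor_comm f hf3 hsq v u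
  have e2 : (sys f hf3).nJ 0 * good3.toGood2.torusHom (gc f v) * good3.toGood2.torusHom (gc f u) *
      ((sys f hf3).nJ 0 * good3.toGood2.torusHom (gc f v))⁻¹ =
      (sys f hf3).nJ 0 * (good3.toGood2.torusHom (gc f v) * good3.toGood2.torusHom (gc f u)) *
      (good3.toGood2.torusHom (gc f v))⁻¹ * ((sys f hf3).nJ 0)⁻¹ := by group
  rw [e2, e]
  group

theorem tor_B (u : Kˣ) : good3.toGood2.torusHom (gc f u) ∈ chevG2.borelSubgroup K :=
  good3.H_le_B (good3.toGood2.torusHom_mem _)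

theorem nn_tb [Fintype K] {a b c a' b' c' : K} {s : Kˣ}
    (h : WW f a b c * nn f = nn f * (WW f a' b' c' * good3.toGood2.torusHom (gc f s))) : a = 0 ∧ b = 0 ∧ c = 0 := by
  obtain ⟨v, hv⟩ := nn_k f hf3 hsq
  have h1 : ((sys f hf3).nJ 0)⁻¹ * WW f a b c * (sys f hf3).nJ 0 ∈ chevG2.borelSubgroup K := by
    have e : ((sys f hf3).nJ 0)⁻¹ * WW f a b c * (sys f hf3).nJ 0 =
        good3.toGood2.torusHom (gc f v) * (WW f a' b' c' * good3.toGood2.torusHom (gc f s)) * (good3.toGood2.torusHom (gc f v))⁻¹ := by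
      rw [hv] at h
      have e2 : WW f a b c * (sys f hf3).nJ 0 = (sys f hf3).nJ 0 * good3.toGood2.torusHom (gc f v) *
          (WW f a' b' c' * good3.toGood2.torusHom (gc f s)) * (good3.toGood2.torusHom (gc f v))⁻¹ := by
        rw [← h]
        group
      rw [mul_assoc, e2]
      group
    rw [e]
    exact Subgroup.mul_mem _ (Subgroup.mul_mem _ (tor_B f hf3 hsq _)
      (Subgroup.mul_mem _ (W_mem_B f hf3 _ _ _) (tor_B f hf3 hsq _))) (Subgroup.inv_mem _ (tor_B f hf3 hsq _))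
  have hX : WW f a b c ∈ (TT f).XJ [0, 1] := (X_iff f hf3).mpr ⟨a, b, c, rfl⟩
  have h2 := (sys f hf3).nJ_inv_conj_S 0 hX.1
  have h3 := (TT f).Sm_le_V _ h2
  have h4 : ((sys f hf3).nJ 0)⁻¹ * WW f a b c * (sys f hf3).nJ 0 ∈ chevG2.borelSubgroup K ⊓ chevG2.negUnipotent K := ⟨h1, h3⟩
  rw [good3.B_inf_V, Subgroup.mem_bot] at h4
  apply WW_eq_one f
  have e : WW f a b c = (sys f hf3).nJ 0 * (((sys f hf3).nJ 0)⁻¹ * WW f a b c * (sys f hf3).nJ 0) * ((sys f hf3).nJ 0)⁻¹ := by group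
  rw [e, h4]
  group

/-- The torus as a map into the group. -/
noncomputable def hhG : Kˣ →* ↥((TT f).AA JJ) :=
  (good3.toGood2.torusHom.comp (gc f)).codRestrict _ (tor_mem f hf3 hsq)

/-- The unipotent elements in the group. -/
noncomputable def ttG (a b c : K) : ↥((TT f).AA JJ) := ⟨WW f a b c, X1_mem f hf3 a b c⟩

theorem B_form (g : ↥((TT f).AA JJ)) (hg : (g : GL chevG2.Idx K) ∈ chevG2.borelSubgroup K) :
    ∃ a b c s, g = ttG f hf3 a b c * hhG f hf3 hsq s := by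
  obtain ⟨u, hu, k, hk, e⟩ := (sys f hf3).B1_form (long f hf3) ⟨hg, g.2⟩
  obtain ⟨a, b, c, rfl⟩ := (U_A_iff f hf3).mp hu
  rw [H1_eq f hf3 hsq] at hk
  obtain ⟨s, rfl⟩ := hk
  exact ⟨a, b, c, s, Subtype.ext e⟩

theorem bruhat_aux [Fintype K] (g : ↥((TT f).AA JJ)) :
    (∃ a b c s, g = ttG f hf3 a b c * hhG f hf3 hsq s) ∨
    (∃ a b c a' b' c' s, g = ttG f hf3 a b c * ⟨nn f, nn_mem f hf3⟩ * (ttG f hf3 a' b' c' * hhG f hf3 hsq s)) := by
  have S := sys f hf3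
  have hS : (sys f hf3).PP.S = {(sys f hf3).sG 0} := by
    ext x
    constructor
    · rintro ⟨i, hi⟩
      have : i = 0 := Subsingleton.elim _ _
      subst this
      exact Subtype.ext hi
    · rintro rfl
      exact (sys f hf3).sG_mem 0
  rcases rank_one_cases hS g with hb | ⟨b₁, h₁, b₂, h₂, e⟩
  · left
    exact B_form f hf3 hsq g ((sys f hf3).mem_B.mp hb)
  · right
    obtain ⟨a, b, c, s, rfl⟩ := B_form f hf3 hsq b₁ ((sys f hf3).mem_B.mp h₁)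
    obtain ⟨v, hv⟩ := nn_k f hf3 hsq
    have hb3 : (((hhG f hf3 hsq (s⁻¹ * v⁻¹) * b₂ : ↥((TT f).AA JJ)) : GL chevG2.Idx K)) ∈ chevG2.borelSubgroup K := by
      refine Subgroup.mul_mem _ (tor_B f hf3 hsq _) ((sys f hf3).mem_B.mp h₂)
    obtain ⟨a', b', c', s', e2⟩ := B_form f hf3 hsq _ hb3
    refine ⟨a, b, c, a', b', c', s', ?_⟩
    rw [← e2, e]
    apply Subtype.ext
    have e3 : ((sys f hf3).sG 0 : GL chevG2.Idx K) = nn f * (good3.toGood2.torusHom (gc f v))⁻¹ := by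
      rw [hv]
      show (sys f hf3).nJ 0 = _
      group
    simp only [Subgroup.coe_mul, e3]
    show WW f a b c * good3.toGood2.torusHom (gc f s) * (nn f * (good3.toGood2.torusHom (gc f v))⁻¹) * (b₂ : GL chevG2.Idx K) =
      WW f a b c * nn f * (good3.toGood2.torusHom (gc f (s⁻¹ * v⁻¹)) * (b₂ : GL chevG2.Idx K))
    have e4 := nn_tor f hf3 hsq s⁻¹
    rw [inv_inv] at e4
    have e5 : good3.toGood2.torusHom (gc f s) * nn f = nn f * good3.toGood2.torusHom (gc f s⁻¹) := by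
      rw [← e4]
      group
    have e6 : good3.toGood2.torusHom (gc f (s⁻¹ * v⁻¹)) = good3.toGood2.torusHom (gc f s⁻¹) * (good3.toGood2.torusHom (gc f v))⁻¹ := by
      simp only [map_mul, map_inv]
    rw [e6]
    calc WW f a b c * good3.toGood2.torusHom (gc f s) * (nn f * (good3.toGood2.torusHom (gc f v))⁻¹) * (b₂ : GL chevG2.Idx K)
        = WW f a b c * (good3.toGood2.torusHom (gc f s) * nn f) * (good3.toGood2.torusHom (gc f v))⁻¹ * (b₂ : GL chevG2.Idx K) := by group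
      _ = _ := by rw [e5]; group

/-- The coordinates on the small Ree group. -/
noncomputable def rd [Fintype K] : RD K f ↥((TT f).AA JJ) where
  hf3 := hf3
  t := ttG f hf3
  h := hhG f hf3 hsq
  n := ⟨nn f, nn_mem f hf3⟩
  t_mul a b c a' b' c' := Subtype.ext (WW_mul f hf3 a b c a' b' c')
  t_inj h := WW_inj f (congrArg Subtype.val h)
  h_inj := fun a b h => gc_inj f (congrArg Subtype.val h)
  h_t u a b c := Subtype.ext (WW_conj f hf3 u a b c)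
  n_h u := Subtype.ext (nn_tor f hf3 hsq u)
  n_sq := Subtype.ext (nn_sq f)
  n_tb a b c a' b' c' s h := nn_tb f hf3 hsq (congrArg Subtype.val h)
  n_nb a b c s h := by
    apply nn_not_B f hf3
    have h1 := congrArg Subtype.val h
    have h2 : nn f = WW f a b c * good3.toGood2.torusHom (gc f s) := h1
    rw [h2]
    exact Subgroup.mul_mem _ (W_mem_B f hf3 _ _ _) (tor_B f hf3 hsq _)
  bruhat := bruhat_aux f hf3 hsq

variable [Fintype K]

theorem rd_mem_B (g : ↥((TT f).AA JJ)) : (g : GL chevG2.Idx K) ∈ chevG2.borelSubgroup K ↔ g ∈ (rd f hf3 hsq).B := by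
  constructor
  · intro h
    exact B_form f hf3 hsq g h
  · rintro ⟨a, b, c, s, rfl⟩
    exact Subgroup.mul_mem _ (W_mem_B f hf3 _ _ _) (tor_B f hf3 hsq _)

theorem rd_mem_U (g : ↥((TT f).AA JJ)) : (g : GL chevG2.Idx K) ∈ chevG2.posUnipotent K ↔ g ∈ (rd f hf3 hsq).U := by
  constructor
  · intro h
    obtain ⟨a, b, c, e⟩ := (U_A_iff f hf3).mp ⟨h, g.2⟩
    exact ⟨a, b, c, Subtype.ext e⟩
  · rintro ⟨a, b, c, rfl⟩
    exact ((U_A_iff f hf3).mpr ⟨a, b, c, rfl⟩).1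

theorem rd_mem_H (g : ↥((TT f).AA JJ)) : (g : GL chevG2.Idx K) ∈ chevG2.diagonalSubgroup K ↔ ∃ s, g = (rd f hf3 hsq).h s := by
  constructor
  · intro h
    have h1 : (g : GL chevG2.Idx K) ∈ chevG2.diagonalSubgroup K ⊓ (TT f).AA JJ := ⟨h, g.2⟩
    rw [H1_eq f hf3 hsq] at h1
    obtain ⟨s, hs⟩ := h1
    exact ⟨s, Subtype.ext hs.symm⟩
  · rintro ⟨s, rfl⟩
    exact good3.toGood2.torusHom_mem _

theorem rd_B_eq : (chevG2.borelSubgroup K ⊓ (TT f).AA JJ).subgroupOf ((TT f).AA JJ) = (rd f hf3 hsq).B := by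
  ext g
  rw [Subgroup.mem_subgroupOf]
  exact ⟨fun h => (rd_mem_B f hf3 hsq g).mp h.1, fun h => ⟨(rd_mem_B f hf3 hsq g).mpr h, g.2⟩⟩

theorem rd_U_eq : (chevG2.posUnipotent K ⊓ (TT f).AA JJ).subgroupOf ((TT f).AA JJ) = (rd f hf3 hsq).U := by
  ext g
  rw [Subgroup.mem_subgroupOf]
  exact ⟨fun h => (rd_mem_U f hf3 hsq g).mp h.1, fun h => ⟨(rd_mem_U f hf3 hsq g).mpr h, g.2⟩⟩

end Cfsg.Agent.Lib.Ree
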