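import Cfsg.Agent.Lib.Chev.Tw.G2g
import Cfsg.Agent.Lib.Chev.Tw.G2e
import Cfsg.Agent.Lib.Chev.Tw.G2c

/-! The group law of the unipotent subgroup of the small Ree groups. -/

set_option autoImplicit false
set_option maxRecDepth 100000
set_option linter.unusedSimpArgs false
set_option linter.unusedVariables false
set_option linter.unusedSectionVars false

namespace Cfsg.Agent.Lib.Ree

open Cfsg Cfsg.Lie Matrix Cfsg.Agent.Lib.BN Cfsg.Agent.Lib.Chev Cfsg.Agent.Lib.Chev.Tw Cfsg.Agent.Lib.Chev.TwG2 Cfsg.Agent.Lib.Chev.TabG2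

variable {K : Type*} [Field K] [CharP K 3]

theorem rel_ac (t u : K) : xa u * xc t = xc t * xa u * xd (t * u) := by
  apply Units.ext
  have := good3.Phi_all (F := K) h8 h7 (by decide) (by decide +kernel) t u
  have e : chevG2.commTerms 8 7 = [(9, 2, 1, 1), (11, 3, 2, 1), (10, -3, 1, 2)] := by decide +kernel
  simp only [ChevalleyDatum.commWord, e, ChevalleyDatum.wordMat] at this
  simp only [Units.val_mul, Good0.xg_val]
  rw [this]
  simp only [List.map_cons, List.map_nil, List.prod_cons, List.prod_nil, mul_one, mul_assoc]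
  push_cast
  have h3 := three_zero (K := K)
  have e1 : ((2 : K) * ((-t) ^ 1 * u ^ 1)) = t * u := by
    linear_combination (-t * u) * h3
  have e2 : ((3 : K) * ((-t) ^ 2 * u ^ 1)) = 0 := by rw [h3]; ring
  have e3 : ((-3 : K) * ((-t) ^ 1 * u ^ 2)) = 0 := by
    rw [neg_eq_neg_one_mul (3 : K), h3]; ring
  rw [e1, e2, e3]
  have z1 := good3.x_zero (F := K) h10
  have z2 := good3.x_zero (F := K) h11
  rw [z1, z2]
  simp

theorem rel_be (t u : K) : xb u * xe t = xe t * xb u * xh (t * u) := by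
  apply Units.ext
  have := good3.Phi_all (F := K) h10 h6 (by decide) (by decide +kernel) t u
  have e : chevG2.commTerms 10 6 = [(11, -1, 1, 1)] := by decide +kernel
  simp only [ChevalleyDatum.commWord, e, ChevalleyDatum.wordMat] at this
  simp only [Units.val_mul, Good0.xg_val]
  rw [this]
  simp only [List.map_cons, List.map_nil, List.prod_cons, List.prod_nil, mul_one, mul_assoc]
  push_cast
  have e1 : ((-1 : K) * ((-t) ^ 1 * u ^ 1)) = t * u := by ring
  rw [e1]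

theorem cm_ad (s t : K) : xa s * xd t = xd t * xa s := by
  apply Units.ext
  have := good3.Phi_all (F := K) h9 h7 (by decide) (by decide +kernel) t s
  have e : chevG2.commTerms 9 7 = [(10, -3, 1, 1)] := by decide +kernel
  simp only [ChevalleyDatum.commWord, e, ChevalleyDatum.wordMat] at this
  simp only [Units.val_mul, Good0.xg_val]
  rw [this]
  simp only [List.map_cons, List.map_nil, List.prod_cons, List.prod_nil, mul_one]
  push_cast
  have e1 : ((-3 : K) * ((-t) ^ 1 * s ^ 1)) = 0 := by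
    rw [neg_eq_neg_one_mul (3 : K), three_zero]
    ring
  simp only [mul_assoc] at *
  rw [e1, good3.x_zero h10, mul_one]

theorem cm_ae (s t : K) : xa s * xe t = xe t * xa s :=
  (good3.xg_comm_nil h10 h7 (by decide) (by decide +kernel) (by decide +kernel) t s)
theorem cm_ah (s t : K) : xa s * xh t = xh t * xa s :=
  (good3.xg_comm_nil h11 h7 (by decide) (by decide +kernel) (by decide +kernel) t s)
theorem cm_bc (s t : K) : xb s * xc t = xc t * xb s :=
  (good3.xg_comm_nil h8 h6 (by decide) (by decide +kernel) (by decide +kernel) t s)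
theorem cm_bd (s t : K) : xb s * xd t = xd t * xb s :=
  (good3.xg_comm_nil h9 h6 (by decide) (by decide +kernel) (by decide +kernel) t s)
theorem cm_bh (s t : K) : xb s * xh t = xh t * xb s :=
  (good3.xg_comm_nil h11 h6 (by decide) (by decide +kernel) (by decide +kernel) t s)

/-- Moving `xa` to the left. -/
theorem zz_a (p3 p4 p5 p6 s : K) : xc p3 * xd p4 * xe p5 * xh p6 * xa s = xa s * (xc p3 * xd (p4 - p3 * s) * xe p5 * xh p6) := by
  have e1 := cm_ah s p6
  have e2 := cm_ae s p5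
  have e3 := cm_ad s p4
  have e4 := rel_ac p3 s
  have m1 : xd p4 = xd (p3 * s) * xd (p4 - p3 * s) := by
    rw [good3.xg_mul h9]
    congr 1
    ring
  calc xc p3 * xd p4 * xe p5 * xh p6 * xa s = xc p3 * xd p4 * xe p5 * (xh p6 * xa s) := by group
    _ = xc p3 * xd p4 * (xe p5 * xa s) * xh p6 := by rw [← e1]; group
    _ = xc p3 * (xd p4 * xa s) * xe p5 * xh p6 := by rw [← e2]; group
    _ = (xc p3 * xa s) * xd p4 * xe p5 * xh p6 := by rw [← e3]; group
    _ = (xa s * xc p3 * (xd (p3 * s))⁻¹) * xd p4 * xe p5 * xh p6 := by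
        have : xc p3 * xa s = xa s * xc p3 * (xd (p3 * s))⁻¹ := by rw [e4]; group
        rw [this]
    _ = xa s * (xc p3 * xd (p4 - p3 * s) * xe p5 * xh p6) := by rw [m1]; group

/-- Moving `xb` to the left. -/
theorem zz_b (p3 p4 p5 p6 r : K) : xc p3 * xd p4 * xe p5 * xh p6 * xb r = xb r * (xc p3 * xd p4 * xe p5 * xh (p6 - p5 * r)) := by
  have e1 := cm_bh r p6
  have e2 := rel_be p5 r
  have e3 := cm_bd r p4
  have e4 := cm_bc r p3
  have m1 : xh p6 = xh (p5 * r) * xh (p6 - p5 * r) := by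
    rw [good3.xg_mul h11]
    congr 1
    ring
  have e5 := cm_eh p5 (p5 * r)
  calc xc p3 * xd p4 * xe p5 * xh p6 * xb r = xc p3 * xd p4 * xe p5 * (xh p6 * xb r) := by group
    _ = xc p3 * xd p4 * (xe p5 * xb r) * xh p6 := by rw [← e1]; group
    _ = xc p3 * xd p4 * (xb r * xe p5 * (xh (p5 * r))⁻¹) * xh p6 := by
        have : xe p5 * xb r = xb r * xe p5 * (xh (p5 * r))⁻¹ := by rw [e2]; group
        rw [this]
    _ = xc p3 * (xd p4 * xb r) * xe p5 * xh (p6 - p5 * r) := by rw [m1]; group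
    _ = (xc p3 * xb r) * xd p4 * xe p5 * xh (p6 - p5 * r) := by rw [← e3]; group
    _ = xb r * (xc p3 * xd p4 * xe p5 * xh (p6 - p5 * r)) := by rw [← e4]; group

/-- The product of two normal forms. -/
theorem Om_mul (p1 p2 p3 p4 p5 p6 s r q3 q4 q5 q6 : K) :
    Om p1 p2 p3 p4 p5 p6 * Om s r q3 q4 q5 q6 = Om (p1 + s) (p2 + r) (p3 + p2 * s + q3) (p4 - p3 * s + p2 * s ^ 2 + q4)
      (p5 - p2 * s ^ 3 + q5) (p6 - p2 ^ 2 * s ^ 3 - (p5 - p2 * s ^ 3) * r + q6) := by
  unfold Om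
  have e1 := zz_a p3 p4 p5 p6 s
  have e2 := rel_ab p2 s
  have h := zz_mul (p2 * s) (p2 * s ^ 2) (-(p2 * s ^ 3)) (-(p2 ^ 2 * s ^ 3)) p3 (p4 - p3 * s) p5 p6
  have e3 := zz_b (p3 + p2 * s) (p4 - p3 * s + p2 * s ^ 2) (p5 - p2 * s ^ 3) (p6 - p2 ^ 2 * s ^ 3) r
  have hinv : xc (-(p2 * s)) * xd (-(p2 * s ^ 2)) * xe (p2 * s ^ 3) * xh (p2 ^ 2 * s ^ 3) *
      (xc (p2 * s) * xd (p2 * s ^ 2) * xe (-(p2 * s ^ 3)) * xh (-(p2 ^ 2 * s ^ 3))) = 1 := by
    rw [zz_mul]
    simp [good3.xg_zero]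
  have e2' : xb p2 * xa s = xa s * xb p2 * (xc (p2 * s) * xd (p2 * s ^ 2) * xe (-(p2 * s ^ 3)) * xh (-(p2 ^ 2 * s ^ 3))) := by
    rw [e2]
    calc xb p2 * xa s = xb p2 * xa s * (xc (-(p2 * s)) * xd (-(p2 * s ^ 2)) * xe (p2 * s ^ 3) * xh (p2 ^ 2 * s ^ 3) *
          (xc (p2 * s) * xd (p2 * s ^ 2) * xe (-(p2 * s ^ 3)) * xh (-(p2 ^ 2 * s ^ 3)))) := by rw [hinv, mul_one]
      _ = _ := by group
  have e4 : xa p1 * xa s = xa (p1 + s) := good3.xg_mul h7 p1 s
  have e5 : xb p2 * xb r = xb (p2 + r) := good3.xg_mul h6 p2 r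
  have e6 : xc (p2 * s + p3) * xd (p2 * s ^ 2 + (p4 - p3 * s)) * xe (-(p2 * s ^ 3) + p5) * xh (-(p2 ^ 2 * s ^ 3) + p6) =
      xc (p3 + p2 * s) * xd (p4 - p3 * s + p2 * s ^ 2) * xe (p5 - p2 * s ^ 3) * xh (p6 - p2 ^ 2 * s ^ 3) := by
    congr 1
    · congr 1
      · congr 1
        · congr 1
          ring
        · congr 1
          ring
      · congr 1
        ring
    · congr 1
      ring
  have h7' := zz_mul (p3 + p2 * s) (p4 - p3 * s + p2 * s ^ 2) (p5 - p2 * s ^ 3) (p6 - p2 ^ 2 * s ^ 3 - (p5 - p2 * s ^ 3) * r) q3 q4 q5 q6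
  calc xa p1 * xb p2 * xc p3 * xd p4 * xe p5 * xh p6 * (xa s * xb r * xc q3 * xd q4 * xe q5 * xh q6)
      = xa p1 * xb p2 * ((xc p3 * xd p4 * xe p5 * xh p6) * xa s) * xb r * (xc q3 * xd q4 * xe q5 * xh q6) := by group
    _ = xa p1 * (xb p2 * xa s) * (xc p3 * xd (p4 - p3 * s) * xe p5 * xh p6) * xb r * (xc q3 * xd q4 * xe q5 * xh q6) := by
        rw [e1]; group
    _ = (xa p1 * xa s) * xb p2 * ((xc (p2 * s) * xd (p2 * s ^ 2) * xe (-(p2 * s ^ 3)) * xh (-(p2 ^ 2 * s ^ 3))) * (xc p3 * xd (p4 - p3 * s) * xe p5 * xh p6)) * xb r * (xc q3 * xd q4 * xe q5 * xh q6) := by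
        rw [e2']; group
    _ = xa (p1 + s) * xb p2 * ((xc (p3 + p2 * s) * xd (p4 - p3 * s + p2 * s ^ 2) * xe (p5 - p2 * s ^ 3) * xh (p6 - p2 ^ 2 * s ^ 3)) * xb r) * (xc q3 * xd q4 * xe q5 * xh q6) := by
        rw [h, e6, e4]; group
    _ = xa (p1 + s) * (xb p2 * xb r) * ((xc (p3 + p2 * s) * xd (p4 - p3 * s + p2 * s ^ 2) * xe (p5 - p2 * s ^ 3) * xh (p6 - p2 ^ 2 * s ^ 3 - (p5 - p2 * s ^ 3) * r)) * (xc q3 * xd q4 * xe q5 * xh q6)) := by
        rw [e3]; group
    _ = xa (p1 + s) * xb (p2 + r) * (xc (p3 + p2 * s + q3) * xd (p4 - p3 * s + p2 * s ^ 2 + q4) * xe (p5 - p2 * s ^ 3 + q5) * xh (p6 - p2 ^ 2 * s ^ 3 - (p5 - p2 * s ^ 3) * r + q6)) := by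
        rw [h7', e5]
    _ = _ := by group

variable (f : K ≃+* K) (hf3 : ∀ t, f (f t) ^ 3 = t)

include hf3 in
/-- The group law of the unipotent subgroup. -/
theorem WW_mul (t u v t' u' v' : K) : WW f t u v * WW f t' u' v' =
    WW f (t + t') (u + u' - t * f t' ^ 3) (v + v' - t ^ 2 * f t' ^ 3 - u * t' + t * t' * f t' ^ 3) := by
  unfold WW
  rw [Om_mul]
  have h3 := three_zero (K := K)
  have ht' := hf3 t'
  congr 1
  · rw [map_add]
  · rw [map_add, map_sub, map_add, map_mul, map_pow, ht']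
    ring
  · simp only [map_add, map_sub, map_mul, map_pow, ht']
    linear_combination (-(f t * f t' * t') - f t * f t' * t) * h3
  · ring
  · ring

end Cfsg.Agent.Lib.Ree
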