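import Cfsg.Agent.Lib.Ree.CJ

/-! The normaliser of a Sylow 2-subgroup of the small Ree groups. -/

set_option autoImplicit false
set_option linter.unusedSimpArgs false
set_option linter.unusedVariables false
set_option linter.unusedSectionVars false

namespace Cfsg.Agent.Lib.Ree

open Matrix Cfsg.Agent.Lib.Chev

theorem mem_normalizer_of_forall {G : Type*} [Group G] [Finite G] {E : Subgroup G} {g : G}
    (h : ∀ x ∈ E, g * x * g⁻¹ ∈ E) : g ∈ Subgroup.normalizer (E : Set G) := by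
  rw [Subgroup.mem_normalizer_iff]
  intro x
  refine ⟨h x, fun hx => ?_⟩
  let c : E → E := fun y => ⟨g * y * g⁻¹, h y y.2⟩
  have hc : Function.Injective c := by
    intro y y' e
    have e2 : g * y.1 * g⁻¹ = g * y'.1 * g⁻¹ := congrArg Subtype.val e
    exact Subtype.ext (mul_left_cancel (mul_right_cancel e2))
  obtain ⟨y, hy⟩ := (Finite.injective_iff_surjective.mp hc) ⟨_, hx⟩
  have e2 : g * y.1 * g⁻¹ = g * x * g⁻¹ := congrArg Subtype.val hy
  have e3 : y.1 = x := mul_left_cancel (mul_right_cancel e2)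
  rw [← e3]
  exact y.2

namespace RD

variable {K : Type*} [Field K] [CharP K 3] {f : K ≃+* K} {G : Type*} [Group G] {R : RD K f G}

namespace RL

variable (L : RL R)

theorem t1_eq : L.φ (SL2.Rel.upE 1) = R.t 0 1 0 := L.φ_up 1

theorem t1_inv : (L.φ (SL2.Rel.upE 1))⁻¹ = L.φ (SL2.Rel.upE (-1)) := by
  rw [← map_inv, up_inv]

theorem t1_i : L.φ (SL2.Rel.upE 1) * L.φ iE * (L.φ (SL2.Rel.upE 1))⁻¹ = L.φ jE := by
  rw [t1_inv, ← map_mul, ← map_mul, up_i, φ_neg]

theorem t1_j : L.φ (SL2.Rel.upE 1) * L.φ jE * (L.φ (SL2.Rel.upE 1))⁻¹ = L.φ kE := by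
  rw [t1_inv, ← map_mul, ← map_mul, up_j, φ_neg]

theorem t1_k : L.φ (SL2.Rel.upE 1) * L.φ kE * (L.φ (SL2.Rel.upE 1))⁻¹ = L.φ iE := by
  rw [t1_inv, ← map_mul, ← map_mul, up_k]

theorem t1_chi (e : Multiplicative (ZMod 2)) (x : G) :
    L.φ (SL2.Rel.upE 1) * (chiHom (R.h (-1)) (a_sq R) e * x) * (L.φ (SL2.Rel.upE 1))⁻¹ =
      chiHom (R.h (-1)) (a_sq R) e * (L.φ (SL2.Rel.upE 1) * x * (L.φ (SL2.Rel.upE 1))⁻¹) := by
  have := L.chi_comm e (SL2.Rel.upE 1)
  rw [← mul_assoc (L.φ (SL2.Rel.upE 1)), ← this]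
  group

theorem t1_mem_N [Finite G] : L.φ (SL2.Rel.upE 1) ∈ Subgroup.normalizer (L.E : Set G) := by
  apply mem_normalizer_of_forall
  intro x hx
  obtain ⟨e, v, hv, rfl⟩ := L.E_form hx
  rw [t1_chi]
  rcases hv with rfl | rfl | rfl | rfl
  · have := L.E_mem e (v := 1) (Or.inl rfl)
    simpa using this
  · rw [t1_i]
    exact L.E_mem e (Or.inr (Or.inr (Or.inl rfl)))
  · rw [t1_j]
    exact L.E_mem e (Or.inr (Or.inr (Or.inr rfl)))
  · rw [t1_k]
    exact L.E_mem e (Or.inr (Or.inl rfl))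

theorem t1_mem_C : L.φ (SL2.Rel.upE 1) ∈ Subgroup.centralizer {R.h (-1)} :=
  Subgroup.mem_centralizer_singleton_iff.mpr (L.a_φ _).symm

theorem φ_i_ne_j : L.φ iE ≠ L.φ jE := fun h => (L.φ_eq h).elim iE_ne_jE.1 iE_ne_jE.2
theorem φ_i_ne_k : L.φ iE ≠ L.φ kE := fun h => (L.φ_eq h).elim iE_ne_kE.1 iE_ne_kE.2
theorem φ_j_ne_k : L.φ jE ≠ L.φ kE := fun h => (L.φ_eq h).elim jE_ne_kE.1 jE_ne_kE.2
theorem φ_i_ne_one : L.φ iE ≠ 1 := fun h => (L.φ_ker h).elim iE_ne_one.1 iE_ne_one.2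
theorem φ_j_ne_one : L.φ jE ≠ 1 := fun h => (L.φ_ker h).elim jE_ne_one.1 jE_ne_one.2
theorem φ_k_ne_one : L.φ kE ≠ 1 := fun h => (L.φ_ker h).elim kE_ne_one.1 kE_ne_one.2

theorem conj_chi (e : Multiplicative (ZMod 2)) (g : SpecialLinearGroup (Fin 2) K) (x : SpecialLinearGroup (Fin 2) K) :
    (chiHom (R.h (-1)) (a_sq R) e * L.φ g) * L.φ x * (chiHom (R.h (-1)) (a_sq R) e * L.φ g)⁻¹ = L.φ (g * x * g⁻¹) := by
  have h1 : (chiHom (R.h (-1)) (a_sq R) e * L.φ g) * L.φ x * (chiHom (R.h (-1)) (a_sq R) e * L.φ g)⁻¹ =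
      chiHom (R.h (-1)) (a_sq R) e * (L.φ g * L.φ x * (L.φ g)⁻¹) * (chiHom (R.h (-1)) (a_sq R) e)⁻¹ := by group
  have e2 : L.φ g * L.φ x * (L.φ g)⁻¹ = L.φ (g * x * g⁻¹) := by rw [map_mul, map_mul, map_inv]
  rw [h1, e2, L.chi_comm, mul_inv_cancel_right]

/-- An element of the centraliser of `a` normalising `E` permutes the three involutions. -/
theorem Na_orbit [Finite K] [Finite G] (hsq : ∀ u : Kˣ, (∃ v, u = v * v) ∨ (∃ v, u = -1 * (v * v))) {z : G}
    (hN : z ∈ Subgroup.normalizer (L.E : Set G)) (hC : z ∈ Subgroup.centralizer {R.h (-1)}) {x : SpecialLinearGroup (Fin 2) K}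
    (hx : isV x) (hx1 : L.φ x ≠ 1) :
    ∃ v, (v = iE ∨ v = jE ∨ v = kE) ∧ z * L.φ x * z⁻¹ = L.φ v := by
  obtain ⟨⟨e, p⟩, rfl⟩ := L.Phi_surj hsq (Subgroup.mem_centralizer_singleton_iff.mp hC)
  obtain ⟨g, rfl⟩ := QuotientGroup.mk_surjective p
  rw [Phi_apply] at hN ⊢
  have h1 : chiHom (R.h (-1)) (a_sq R) e * L.φ g * L.φ x * (chiHom (R.h (-1)) (a_sq R) e * L.φ g)⁻¹ ∈ L.E :=
    (Subgroup.mem_normalizer_iff.mp hN _).mp (L.E_mem_v hx)
  rw [conj_chi] at h1 ⊢
  obtain ⟨v, hv, e2⟩ := L.E_range h1 rfl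
  refine ⟨v, ?_, e2⟩
  rcases hv with rfl | hv
  · exfalso
    apply hx1
    rw [map_one, map_mul, map_mul, map_inv] at e2
    have : L.φ x = (L.φ g)⁻¹ * (L.φ g * L.φ x * (L.φ g)⁻¹) * L.φ g := by group
    rw [this, e2]
    group
  · exact hv

/-- The three involutions of `E` in the image of `φ` form a single orbit under `N ⊓ C(a)`. -/
theorem card_Na [Finite K] [Finite G] (hsq : ∀ u : Kˣ, (∃ v, u = v * v) ∨ (∃ v, u = -1 * (v * v))) :
    Nat.card ↥(Subgroup.normalizer (L.E : Set G) ⊓ Subgroup.centralizer {R.h (-1)}) =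
      3 * Nat.card ↥((Subgroup.normalizer (L.E : Set G) ⊓ Subgroup.centralizer {R.h (-1)}) ⊓ Subgroup.centralizer {L.φ iE}) := by
  have h := card_orbit_form (Subgroup.normalizer (L.E : Set G) ⊓ Subgroup.centralizer {R.h (-1)}) (L.φ iE)
    {L.φ iE, L.φ jE, L.φ kE} ?_ ?_
  · rw [h]
    congr 1
    rw [Set.ncard_eq_three]
    exact ⟨_, _, _, L.φ_i_ne_j, L.φ_i_ne_k, L.φ_j_ne_k, rfl⟩
  · rintro z ⟨h1, h2⟩
    obtain ⟨v, hv, e⟩ := L.Na_orbit hsq h1 h2 (x := iE) (Or.inr (Or.inl rfl)) L.φ_i_ne_one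
    rw [e]
    rcases hv with rfl | rfl | rfl
    · exact Or.inl rfl
    · exact Or.inr (Or.inl rfl)
    · exact Or.inr (Or.inr rfl)
  · have hm : L.φ (SL2.Rel.upE 1) ∈ Subgroup.normalizer (L.E : Set G) ⊓ Subgroup.centralizer {R.h (-1)} :=
      ⟨L.t1_mem_N, L.t1_mem_C⟩
    rintro y (rfl | rfl | rfl)
    · exact ⟨1, Subgroup.one_mem _, by group⟩
    · exact ⟨_, hm, L.t1_i⟩
    · refine ⟨_, Subgroup.mul_mem _ hm hm, ?_⟩
      have : L.φ (SL2.Rel.upE 1) * L.φ (SL2.Rel.upE 1) * L.φ iE * (L.φ (SL2.Rel.upE 1) * L.φ (SL2.Rel.upE 1))⁻¹ =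
          L.φ (SL2.Rel.upE 1) * (L.φ (SL2.Rel.upE 1) * L.φ iE * (L.φ (SL2.Rel.upE 1))⁻¹) * (L.φ (SL2.Rel.upE 1))⁻¹ := by group
      rw [this, t1_i, t1_j]

/-- The point stabiliser in `N ⊓ C(a)` is `E`. -/
theorem Na_stab [Finite K] [Finite G] (hsq : ∀ u : Kˣ, (∃ v, u = v * v) ∨ (∃ v, u = -1 * (v * v)))
    (hns : ∀ x : K, x * x ≠ -1) :
    (Subgroup.normalizer (L.E : Set G) ⊓ Subgroup.centralizer {R.h (-1)}) ⊓ Subgroup.centralizer {L.φ iE} = L.E := by
  apply le_antisymm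
  · rintro z ⟨⟨h1, h2⟩, h3⟩
    have hc : z * L.φ iE = L.φ iE * z := Subgroup.mem_centralizer_singleton_iff.mp h3
    obtain ⟨v, hv, e⟩ := L.Na_orbit hsq h1 h2 (x := jE) (Or.inr (Or.inr (Or.inl rfl))) L.φ_j_ne_one
    have hzi : z * L.φ iE * z⁻¹ = L.φ iE := by rw [hc]; group
    rcases hv with rfl | rfl | rfl
    · -- impossible: `j` would go to `i`
      exfalso
      rw [← hzi] at e
      have : L.φ jE = L.φ iE := mul_left_cancel (mul_right_cancel e)
      exact L.φ_i_ne_j this.symm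
    · -- `z` centralises `E`
      have hcj : z * L.φ jE = L.φ jE * z := by
        rw [mul_inv_eq_iff_eq_mul] at e
        exact e
      apply L.cent_E hsq
      intro x hx
      obtain ⟨e', w, hw, rfl⟩ := L.E_form hx
      have hca : z * chiHom (R.h (-1)) (a_sq R) e' = chiHom (R.h (-1)) (a_sq R) e' * z := by
        rcases mp2_cases e' with rfl | rfl
        · simp
        · rw [chiHom_gen]
          exact Subgroup.mem_centralizer_singleton_iff.mp h2
      have hcw : z * L.φ w = L.φ w * z := by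
        rcases hw with rfl | rfl | rfl | rfl
        · simp
        · exact hc
        · exact hcj
        · rw [φ_k, ← mul_assoc, hc, mul_assoc, hcj, mul_assoc]
      rw [← mul_assoc, hca, mul_assoc, hcw, mul_assoc]
    · -- impossible: the swap
      exfalso
      obtain ⟨⟨e', p⟩, rfl⟩ := L.Phi_surj hsq (Subgroup.mem_centralizer_singleton_iff.mp h2)
      obtain ⟨g, rfl⟩ := QuotientGroup.mk_surjective p
      rw [Phi_apply] at hzi e
      rw [conj_chi] at hzi e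
      have k1 : L.φ (g * iE) = L.φ (iE * g) := by
        have : g * iE = (g * iE * g⁻¹) * g := by group
        rw [this, map_mul, hzi, map_mul]
      have k2 : L.φ (g * jE) = L.φ (kE * g) := by
        have : g * jE = (g * jE * g⁻¹) * g := by group
        rw [this, map_mul, e, map_mul]
      exact swap_impossible hns g (L.φ_eq k1) (L.φ_eq k2)
  · intro z hz
    refine ⟨⟨?_, ?_⟩, ?_⟩
    · apply mem_normalizer_of_forall
      intro x hx
      exact Subgroup.mul_mem _ (Subgroup.mul_mem _ hz hx) (Subgroup.inv_mem _ hz)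
    · exact Subgroup.mem_centralizer_singleton_iff.mpr (L.E_comm hz L.a_mem_E)
    · exact Subgroup.mem_centralizer_singleton_iff.mpr (L.E_comm hz (L.E_mem_v (Or.inr (Or.inl rfl))))


/-- Every nontrivial element of `E` is conjugate to `a`. -/
theorem E_conj [Fintype K] [Finite G]
    (hG : Nat.card G = (1 + Fintype.card K ^ 3) * (Fintype.card K ^ 3 * (Fintype.card K - 1)))
    (hq : 2 ≤ Fintype.card K) {y : G} (hy : y ∈ L.E) (hy1 : y ≠ 1) : IsConj y (R.h (-1)) := by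
  have h1 : IsConj (L.φ iE) (R.h (-1)) := by
    apply class_not_B hG hq L.φ_i_sq
    rw [φ_i]
    exact R.n_not_B
  have h2 : IsConj (R.h (-1) * L.φ iE) (R.h (-1)) := by
    apply class_not_B hG hq
    · have : R.h (-1) * L.φ iE * (R.h (-1) * L.φ iE) = (R.h (-1) * R.h (-1)) * (L.φ iE * L.φ iE) := by
        rw [mul_assoc, ← mul_assoc (L.φ iE), ← L.a_φ]
        group
      rw [this, a_sq, L.φ_i_sq, one_mul]
    · rw [φ_i]
      intro h
      apply R.n_not_B
      have : R.n = (R.h (-1))⁻¹ * (R.h (-1) * R.n) := by group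
      rw [this]
      exact Subgroup.mul_mem _ (Subgroup.inv_mem _ (R.h_mem_B _)) h
  have conj_t : ∀ x : G, IsConj (L.φ (SL2.Rel.upE 1) * x * (L.φ (SL2.Rel.upE 1))⁻¹) x := fun x =>
    IsConj.symm (isConj_iff.mpr ⟨_, rfl⟩)
  have h3 : IsConj (L.φ jE) (R.h (-1)) := by
    rw [← L.t1_i]
    exact (conj_t _).trans h1
  have h4 : IsConj (L.φ kE) (R.h (-1)) := by
    rw [← L.t1_j]
    exact (conj_t _).trans h3
  have h5 : IsConj (R.h (-1) * L.φ jE) (R.h (-1)) := by
    have := L.t1_chi (Multiplicative.ofAdd 1) (L.φ iE)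
    rw [chiHom_gen, t1_i] at this
    rw [← this]
    exact (conj_t _).trans h2
  have h6 : IsConj (R.h (-1) * L.φ kE) (R.h (-1)) := by
    have := L.t1_chi (Multiplicative.ofAdd 1) (L.φ jE)
    rw [chiHom_gen, t1_j] at this
    rw [← this]
    exact (conj_t _).trans h5
  obtain ⟨e, v, hv, rfl⟩ := L.E_form hy
  rcases mp2_cases e with rfl | rfl
  · rw [chiHom_one, one_mul] at hy1 ⊢
    rcases hv with rfl | rfl | rfl | rfl
    · exact absurd (map_one _) hy1
    · exact h1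
    · exact h3
    · exact h4
  · rw [chiHom_gen]
    rcases hv with rfl | rfl | rfl | rfl
    · rw [map_one, mul_one]
    · exact h2
    · exact h5
    · exact h6

/-- The centraliser of `E`. -/
theorem E_self_cent [Finite K] (hsq : ∀ u : Kˣ, (∃ v, u = v * v) ∨ (∃ v, u = -1 * (v * v))) :
    Subgroup.centralizer (L.E : Set G) = L.E := by
  ext z
  rw [Subgroup.mem_centralizer_iff]
  constructor
  · intro h
    exact L.cent_E hsq (fun x hx => (h x hx).symm)
  · intro h x hx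
    exact L.E_comm hx h

/-- The order of the normaliser of `E`. -/
theorem card_N_E [Fintype K] [Finite G] (hsq : ∀ u : Kˣ, (∃ v, u = v * v) ∨ (∃ v, u = -1 * (v * v)))
    (hns : ∀ x : K, x * x ≠ -1)
    (hG : Nat.card G = (1 + Fintype.card K ^ 3) * (Fintype.card K ^ 3 * (Fintype.card K - 1)))
    (hq : 2 ≤ Fintype.card K) (hmod : Nat.card G % 16 = 8) :
    Nat.card ↥(Subgroup.normalizer (L.E : Set G)) = 168 := by
  haveI : Fact (Nat.Prime 2) := ⟨Nat.prime_two⟩
  haveI hcomm : IsMulCommutative ((L.sylE hmod : Sylow 2 G) : Subgroup G) := ⟨⟨fun x y => Subtype.ext (L.E_comm x.2 y.2)⟩⟩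
  have h := card_orbit_form (Subgroup.normalizer (L.E : Set G)) (R.h (-1)) ((L.E : Set G) \ {1}) ?_ ?_
  · rw [h, L.card_Na hsq, L.Na_stab hsq hns, L.card_E]
    have e : ((L.E : Set G) \ {1}).ncard = 7 := by
      rw [Set.ncard_diff_singleton_of_mem (Subgroup.one_mem _), ← Nat.card_coe_set_eq]
      have := L.card_E
      have e2 : Nat.card ↥(L.E : Set G) = 8 := this
      rw [e2]
    rw [e]
  · intro z hz
    refine ⟨(Subgroup.mem_normalizer_iff.mp hz _).mp L.a_mem_E, ?_⟩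
    intro h1
    have h2 : z * R.h (-1) * z⁻¹ = 1 := h1
    have h3 : R.h (-1) = 1 := by
      have : R.h (-1) = z⁻¹ * (z * R.h (-1) * z⁻¹) * z := by group
      rw [this, h2]
      group
    exact unit_neg_one_ne_one (K := K) (R.h_inj (by rw [h3, map_one]))
  · rintro y ⟨hy, hy1⟩
    obtain ⟨c, hc⟩ := isConj_iff.mp (IsConj.symm (L.E_conj hG hq hy hy1))
    have hyP : (c⁻¹)⁻¹ * R.h (-1) * c⁻¹ ∈ ((L.sylE hmod : Sylow 2 G) : Subgroup G) := by
      rw [inv_inv, hc]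
      exact hy
    obtain ⟨n, hn, hn2⟩ := Sylow.conj_eq_normalizer_conj_of_mem (L.sylE hmod) (R.h (-1)) c⁻¹ L.a_mem_E hyP
    refine ⟨n⁻¹, Subgroup.inv_mem _ hn, ?_⟩
    rw [inv_inv]
    rw [← hn2, inv_inv, hc]

include L in
/-- The statement for all Sylow subgroups. -/
theorem sylow_N [Fintype K] [Finite G] (hsq : ∀ u : Kˣ, (∃ v, u = v * v) ∨ (∃ v, u = -1 * (v * v)))
    (hns : ∀ x : K, x * x ≠ -1)
    (hG : Nat.card G = (1 + Fintype.card K ^ 3) * (Fintype.card K ^ 3 * (Fintype.card K - 1)))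
    (hq : 2 ≤ Fintype.card K) (hmod : Nat.card G % 16 = 8) (S : Sylow 2 G) :
    Subgroup.centralizer ((S : Subgroup G) : Set G) = S ∧ Nat.card (Subgroup.normalizer ((S : Subgroup G) : Set G)) = 168 := by
  obtain ⟨g, hg⟩ := L.sylow_conj hmod S
  have hS : (S : Subgroup G) = L.E.map (MulAut.conj g).toMonoidHom := by
    ext x
    rw [hg, Subgroup.mem_map]
    constructor
    · intro h
      exact ⟨_, h, by simp [MulAut.conj_apply]; group⟩
    · rintro ⟨y, hy, rfl⟩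
      have : g⁻¹ * (MulAut.conj g).toMonoidHom y * g = y := by
        simp [MulAut.conj_apply]; group
      rw [this]
      exact hy
  constructor
  · ext z
    rw [Subgroup.mem_centralizer_iff]
    constructor
    · intro h
      rw [hg]
      apply L.cent_E hsq
      intro x hx
      have h1 : g * x * g⁻¹ ∈ (S : Subgroup G) := by
        rw [hg]
        have : g⁻¹ * (g * x * g⁻¹) * g = x := by group
        rw [this]
        exact hx
      have h2 := h _ h1
      have e1 : g⁻¹ * z * g * x = g⁻¹ * (z * (g * x * g⁻¹)) * g := by group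
      have e2 : x * (g⁻¹ * z * g) = g⁻¹ * ((g * x * g⁻¹) * z) * g := by group
      rw [e1, e2, h2]
    · intro h x hx
      have h1 := (hg z).mp h
      have h2 := (hg x).mp hx
      have h3 := L.E_comm h2 h1
      have e1 : x * z = g * (g⁻¹ * x * g * (g⁻¹ * z * g)) * g⁻¹ := by group
      have e2 : z * x = g * (g⁻¹ * z * g * (g⁻¹ * x * g)) * g⁻¹ := by group
      rw [e1, e2, h3]
  · rw [hS, ← Subgroup.map_equiv_normalizer_eq]
    have : Nat.card ↥((Subgroup.normalizer (L.E : Set G)).map (MulAut.conj g).toMonoidHom) =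
        Nat.card ↥(Subgroup.normalizer (L.E : Set G)) :=
      Nat.card_congr (Subgroup.equivMapOfInjective _ _ (MulEquiv.injective _)).toEquiv.symm
    rw [this]
    exact L.card_N_E hsq hns hG hq hmod


end RL

end RD

end Cfsg.Agent.Lib.Ree
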