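import Cfsg.Agent.Lib.Ree.CycS

/-! The non-split torus of `SL₂` and centralisers of elements of order dividing `q + 1`. -/

set_option autoImplicit false
set_option linter.unusedSimpArgs false
set_option linter.unusedVariables false
set_option linter.unusedSectionVars false

namespace Cfsg.Agent.Lib.Ree

open Matrix

section Conic

variable {K : Type*} [Field K] [Fintype K]

/-- Rational parametrisation of the conic. -/
theorem card_conic (h2 : (2 : K) ≠ 0) (t : K) (ht : ∀ u : K, u ^ 2 + t * u + 1 ≠ 0) :
    Nat.card {p : K × K // p.1 ^ 2 + t * p.1 * p.2 + p.2 ^ 2 = 1} = Fintype.card K + 1 := by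
  have hmem : ∀ u : K, ((1 - u ^ 2) / (u ^ 2 + t * u + 1)) ^ 2 + t * ((1 - u ^ 2) / (u ^ 2 + t * u + 1)) * (-(2 * u + t) / (u ^ 2 + t * u + 1)) +
      (-(2 * u + t) / (u ^ 2 + t * u + 1)) ^ 2 = 1 := by
    intro u
    have hi : (u ^ 2 + t * u + 1) * (u ^ 2 + t * u + 1)⁻¹ = 1 := mul_inv_cancel₀ (ht u)
    simp only [div_eq_mul_inv]
    linear_combination ((u ^ 2 + t * u + 1) * (u ^ 2 + t * u + 1)⁻¹ + 1) * hi
  let F : Option K → {p : K × K // p.1 ^ 2 + t * p.1 * p.2 + p.2 ^ 2 = 1} := fun o =>
    match o with
    | none => ⟨(-1, 0), by simp⟩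
    | some u => ⟨((1 - u ^ 2) / (u ^ 2 + t * u + 1), -(2 * u + t) / (u ^ 2 + t * u + 1)), hmem u⟩
  have hF : Function.Bijective F := by
    constructor
    · have key : ∀ u : K, (1 - u ^ 2) / (u ^ 2 + t * u + 1) - 1 = u * (-(2 * u + t) / (u ^ 2 + t * u + 1)) := by
        intro u
        have hi : (u ^ 2 + t * u + 1) * (u ^ 2 + t * u + 1)⁻¹ = 1 := mul_inv_cancel₀ (ht u)
        simp only [div_eq_mul_inv]
        linear_combination hi
      have key0 : ∀ u : K, -(2 * u + t) / (u ^ 2 + t * u + 1) = 0 → 2 * u + t = 0 := by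
        intro u hu
        have := ht u
        rw [div_eq_zero_iff] at hu
        rcases hu with hu | hu
        · exact neg_eq_zero.mp hu
        · exact absurd hu this
      rintro (_ | u) (_ | v) h
      · rfl
      · exfalso
        have h1 := congrArg (fun p => p.1.1) h
        have h2' := congrArg (fun p => p.1.2) h
        simp only [F] at h1 h2'
        have e := key0 v h2'.symm
        have e1 := key v
        rw [h2'.symm, ← h1] at e1
        apply h2
        linear_combination -e1
      · exfalso
        have h1 := congrArg (fun p => p.1.1) h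
        have h2' := congrArg (fun p => p.1.2) h
        simp only [F] at h1 h2'
        have e := key0 u h2'
        have e1 := key u
        rw [h2', h1] at e1
        apply h2
        linear_combination -e1
      · have h1 := congrArg (fun p => p.1.1) h
        have h2' := congrArg (fun p => p.1.2) h
        simp only [F] at h1 h2'
        congr 1
        by_cases hb : -(2 * v + t) / (v ^ 2 + t * v + 1) = 0
        · have e1 := key0 v hb
          rw [hb] at h2'
          have e2 := key0 u h2'
          exact (mul_left_cancel₀ h2 (by linear_combination e2 - e1 : 2 * u = 2 * v))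
        · have e1 := key u
          have e2 := key v
          rw [h1, h2'] at e1
          exact (mul_right_cancel₀ hb (e1.symm.trans e2))
    · rintro ⟨⟨a, b⟩, hab⟩
      simp only at hab
      by_cases hb : b = 0
      · subst hb
        have h1 : (a - 1) * (a + 1) = 0 := by linear_combination hab
        rcases mul_eq_zero.mp h1 with h3 | h3
        · refine ⟨some (-t / 2), Subtype.ext ?_⟩
          have ha : a = 1 := by linear_combination h3
          subst ha
          have hn := ht (-t / 2)
          have e1 : 2 * (-t / 2) + t = 0 := by field_simp; ring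
          have e2 : 1 - (-t / 2) ^ 2 = (-t / 2) ^ 2 + t * (-t / 2) + 1 := by field_simp; ring
          simp only [F]
          rw [e1, e2, div_self hn]
          simp
        · refine ⟨none, Subtype.ext ?_⟩
          have ha : a = -1 := by linear_combination h3
          subst ha
          rfl
      · refine ⟨some ((a - 1) / b), Subtype.ext ?_⟩
        set u := (a - 1) / b with hu
        have ha : a = 1 + u * b := by
          rw [hu]
          field_simp
          ring
        have hn := ht u
        have e1 : (u ^ 2 + t * u + 1) * b = -(2 * u + t) := by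
          have : b * ((u ^ 2 + t * u + 1) * b + (2 * u + t)) = 0 := by
            rw [ha] at hab
            linear_combination hab
          exact eq_neg_of_add_eq_zero_left ((mul_eq_zero.mp this).resolve_left hb)
        have e2 : 1 - u ^ 2 = a * (u ^ 2 + t * u + 1) := by
          rw [ha]
          linear_combination -u * e1
        simp only [F]
        rw [e2, ← e1, mul_div_cancel_right₀ _ hn, mul_div_cancel_left₀ _ hn]
  have := Nat.card_congr (Equiv.ofBijective F hF)
  rw [← this, Nat.card_eq_fintype_card, Fintype.card_option]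

/-- A matrix commuting with a nondiagonalisable `g` is a polynomial in `g`. -/
theorem comm_form (g M : Matrix (Fin 2) (Fin 2) K) (hc : g 1 0 ≠ 0) (h : M * g = g * M) :
    ∃ α β : K, M = α • 1 + β • g := by
  refine ⟨M 0 0 - M 1 0 / g 1 0 * g 0 0, M 1 0 / g 1 0, ?_⟩
  have e00 := congrFun (congrFun h 0) 0
  have e01 := congrFun (congrFun h 0) 1
  have e10 := congrFun (congrFun h 1) 0
  have e11 := congrFun (congrFun h 1) 1
  simp [Matrix.mul_apply, Fin.sum_univ_two] at e00 e01 e10 e11
  ext i j
  fin_cases i <;> fin_cases j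
  · simp
  · simp
    have : M 0 1 * g 1 0 = M 1 0 * g 0 1 := by linear_combination e00
    field_simp
    linear_combination this
  · simp
    field_simp
  · simp
    have : M 1 1 * g 1 0 = M 0 0 * g 1 0 - M 1 0 * g 0 0 + M 1 0 * g 1 1 := by linear_combination e10
    field_simp
    linear_combination this

end Conic

section SL

variable {K : Type*} [Field K] [Fintype K]

theorem det_comb (g : SpecialLinearGroup (Fin 2) K) (α β : K) :
    (α • (1 : Matrix (Fin 2) (Fin 2) K) + β • g.1).det = α ^ 2 + (g.1 0 0 + g.1 1 1) * α * β + β ^ 2 := by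
  have hd := g.2
  rw [Matrix.det_fin_two] at hd ⊢
  simp
  linear_combination β ^ 2 * hd

theorem c_ne (g : SpecialLinearGroup (Fin 2) K) (hno : ∀ u : K, u ^ 2 + (g.1 0 0 + g.1 1 1) * u + 1 ≠ 0) : g.1 1 0 ≠ 0 := by
  intro hc
  have hd := g.2
  rw [Matrix.det_fin_two, hc] at hd
  apply hno (-g.1 0 0)
  linear_combination -hd

theorem comb_commute (g : Matrix (Fin 2) (Fin 2) K) (a b c d : K) :
    Commute (a • (1 : Matrix (Fin 2) (Fin 2) K) + b • g) (c • (1 : Matrix (Fin 2) (Fin 2) K) + d • g) := by
  have h1 : Commute g (c • (1 : Matrix (Fin 2) (Fin 2) K) + d • g) :=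
    ((Commute.one_right g).smul_right c).add_right ((Commute.refl g).smul_right d)
  exact ((Commute.one_left _).smul_left a).add_left (h1.smul_left b)

/-- The non-split torus. -/
theorem cent_SL (h2 : (2 : K) ≠ 0) (g : SpecialLinearGroup (Fin 2) K)
    (hno : ∀ u : K, u ^ 2 + (g.1 0 0 + g.1 1 1) * u + 1 ≠ 0) :
    Nat.card ↥(Subgroup.centralizer {g}) = Fintype.card K + 1 ∧
      ∀ x ∈ Subgroup.centralizer {g}, ∀ y ∈ Subgroup.centralizer {g}, x * y = y * x := by
  have hc := c_ne g hno
  have hform : ∀ x ∈ Subgroup.centralizer {g}, ∃ α β : K, x.1 = α • 1 + β • g.1 := by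
    intro x hx
    rw [Subgroup.mem_centralizer_singleton_iff] at hx
    exact comm_form g.1 x.1 hc (congrArg Subtype.val hx)
  constructor
  · have hmem : ∀ p : {p : K × K // p.1 ^ 2 + (g.1 0 0 + g.1 1 1) * p.1 * p.2 + p.2 ^ 2 = 1},
        (p.1.1 • (1 : Matrix (Fin 2) (Fin 2) K) + p.1.2 • g.1).det = 1 := by
      intro p
      rw [det_comb]
      exact p.2
    let F : {p : K × K // p.1 ^ 2 + (g.1 0 0 + g.1 1 1) * p.1 * p.2 + p.2 ^ 2 = 1} → ↥(Subgroup.centralizer {g}) := fun p =>
      ⟨⟨p.1.1 • 1 + p.1.2 • g.1, hmem p⟩, Subgroup.mem_centralizer_singleton_iff.mpr (Subtype.ext (by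
        have := comb_commute g.1 p.1.1 p.1.2 0 1
        simp only [zero_smul, zero_add, one_smul] at this
        exact this))⟩
    have hF : Function.Bijective F := by
      constructor
      · rintro ⟨⟨a, b⟩, h1⟩ ⟨⟨a', b'⟩, h1'⟩ h
        have h3 : a • (1 : Matrix (Fin 2) (Fin 2) K) + b • g.1 = a' • 1 + b' • g.1 :=
          congrArg (fun z : ↥(Subgroup.centralizer {g}) => z.1.1) h
        have e10 := congrFun (congrFun h3 1) 0
        have e00 := congrFun (congrFun h3 0) 0
        simp at e10 e00
        have hb : b = b' := e10.resolve_right hc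
        subst hb
        have ha : a = a' := by linear_combination e00
        subst ha
        rfl
      · rintro ⟨x, hx⟩
        obtain ⟨α, β, e⟩ := hform x hx
        have hd : α ^ 2 + (g.1 0 0 + g.1 1 1) * α * β + β ^ 2 = 1 := by
          rw [← det_comb, ← e]
          exact x.2
        refine ⟨⟨(α, β), hd⟩, Subtype.ext (Subtype.ext e.symm)⟩
    rw [← Nat.card_congr (Equiv.ofBijective F hF)]
    apply card_conic h2
    exact hno
  · intro x hx y hy
    obtain ⟨α, β, e⟩ := hform x hx
    obtain ⟨γ, δ, e'⟩ := hform y hy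
    apply Subtype.ext
    show x.1 * y.1 = y.1 * x.1
    rw [e, e']
    exact comb_commute g.1 α β γ δ

theorem neg_one_center : (-1 : SpecialLinearGroup (Fin 2) K) ∈ Subgroup.center (SpecialLinearGroup (Fin 2) K) := by
  rw [Matrix.SpecialLinearGroup.mem_center_iff]
  refine ⟨-1, by norm_num, ?_⟩
  ext i j
  fin_cases i <;> fin_cases j <;> simp [Matrix.SpecialLinearGroup.coe_neg]

theorem center_cases {z : SpecialLinearGroup (Fin 2) K} (h : z ∈ Subgroup.center (SpecialLinearGroup (Fin 2) K)) :
    z = 1 ∨ z = -1 := by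
  obtain ⟨r, hr, e⟩ := Matrix.SpecialLinearGroup.mem_center_iff.mp h
  simp at hr
  rcases hr with this | this
  · left
    subst this
    apply Subtype.ext
    rw [← e]
    ext i j
    fin_cases i <;> fin_cases j <;> simp
  · right
    subst this
    apply Subtype.ext
    rw [← e]
    ext i j
    fin_cases i <;> fin_cases j <;> simp [Matrix.SpecialLinearGroup.coe_neg]

theorem neg_one_ne_one_SL (h2 : (2 : K) ≠ 0) : (-1 : SpecialLinearGroup (Fin 2) K) ≠ 1 := by
  intro h
  have := congrFun (congrFun (congrArg Subtype.val h) 0) 0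
  simp [Matrix.SpecialLinearGroup.coe_neg] at this
  apply h2
  linear_combination -this

theorem mk_neg (g : SpecialLinearGroup (Fin 2) K) :
    (QuotientGroup.mk (-g) : ProjectiveSpecialLinearGroup (Fin 2) K) = QuotientGroup.mk g := by
  rw [QuotientGroup.eq]
  have : (-g)⁻¹ * g = -1 := by
    rw [inv_mul_eq_iff_eq_mul]
    apply Subtype.ext
    simp [Matrix.SpecialLinearGroup.coe_neg]
  rw [this]
  exact neg_one_center

theorem neg_pow_odd (g : SpecialLinearGroup (Fin 2) K) {l : ℕ} (hl : Odd l) : (-g) ^ l = -(g ^ l) := by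
  apply Subtype.ext
  simp only [Matrix.SpecialLinearGroup.coe_neg, Matrix.SpecialLinearGroup.coe_pow]
  exact hl.neg_pow _

/-- The centraliser in `PSL₂` of an element of a non-split torus. -/
theorem cent_PSL (h2 : (2 : K) ≠ 0) (g : SpecialLinearGroup (Fin 2) K)
    (hno : ∀ u : K, u ^ 2 + (g.1 0 0 + g.1 1 1) * u + 1 ≠ 0) {l : ℕ} (hl : Odd l) (hg : g ^ l = 1) :
    2 * Nat.card ↥(Subgroup.centralizer {(QuotientGroup.mk g : ProjectiveSpecialLinearGroup (Fin 2) K)}) = Fintype.card K + 1 ∧
      ∀ x ∈ Subgroup.centralizer {(QuotientGroup.mk g : ProjectiveSpecialLinearGroup (Fin 2) K)},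
      ∀ y ∈ Subgroup.centralizer {(QuotientGroup.mk g : ProjectiveSpecialLinearGroup (Fin 2) K)}, x * y = y * x := by
  obtain ⟨hcard, hcomm⟩ := cent_SL h2 g hno
  have hlift : ∀ x ∈ Subgroup.centralizer {(QuotientGroup.mk g : ProjectiveSpecialLinearGroup (Fin 2) K)},
      ∃ h ∈ Subgroup.centralizer {g}, (QuotientGroup.mk h : ProjectiveSpecialLinearGroup (Fin 2) K) = x := by
    intro x hx
    obtain ⟨h, rfl⟩ := QuotientGroup.mk_surjective x
    refine ⟨h, ?_, rfl⟩
    rw [Subgroup.mem_centralizer_singleton_iff] at hx ⊢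
    have h1 : (QuotientGroup.mk (h * g) : ProjectiveSpecialLinearGroup (Fin 2) K) = QuotientGroup.mk (g * h) := hx
    rw [QuotientGroup.eq] at h1
    rcases center_cases h1 with h3 | h3
    · exact inv_mul_eq_one.mp h3
    · exfalso
      rw [inv_mul_eq_iff_eq_mul] at h3
      have e1 : h⁻¹ * g * h = -g := by
        rw [mul_assoc, h3]
        apply Subtype.ext
        simp [Matrix.SpecialLinearGroup.coe_neg]
      have e2 : (h⁻¹ * g * h) ^ l = 1 := by
        have := conj_pow (a := h⁻¹) (b := g) (i := l)
        simp only [inv_inv] at this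
        rw [this, hg]
        simp
      rw [e1, neg_pow_odd g hl, hg] at e2
      exact neg_one_ne_one_SL h2 e2
  have hkmem : ∀ {z : SpecialLinearGroup (Fin 2) K}, z ∈ Subgroup.center (SpecialLinearGroup (Fin 2) K) → z ∈ Subgroup.centralizer {g} := by
    intro z hz
    rw [Subgroup.mem_centralizer_singleton_iff]
    exact (Subgroup.mem_center_iff.mp hz g).symm
  have hmemC : ∀ z : ↥(Subgroup.centralizer {g}), (QuotientGroup.mk z.1 : ProjectiveSpecialLinearGroup (Fin 2) K) ∈
      Subgroup.centralizer {(QuotientGroup.mk g : ProjectiveSpecialLinearGroup (Fin 2) K)} := by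
    intro z
    rw [Subgroup.mem_centralizer_singleton_iff]
    have := Subgroup.mem_centralizer_singleton_iff.mp z.2
    show (QuotientGroup.mk (z.1 * g) : ProjectiveSpecialLinearGroup (Fin 2) K) = QuotientGroup.mk (g * z.1)
    rw [this]
  let π : ↥(Subgroup.centralizer {g}) →* ↥(Subgroup.centralizer {(QuotientGroup.mk g : ProjectiveSpecialLinearGroup (Fin 2) K)}) :=
    MonoidHom.mk' (fun z => ⟨QuotientGroup.mk z.1, hmemC z⟩) (fun a b => rfl)
  have hsurj : Function.Surjective π := by
    rintro ⟨x, hx⟩
    obtain ⟨h, hh, rfl⟩ := hlift x hx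
    exact ⟨⟨h, hh⟩, rfl⟩
  have hker : Nat.card ↥π.ker = 2 := by
    rw [Nat.card_eq_two_iff]
    have h1 : (⟨1, hkmem (Subgroup.one_mem _)⟩ : ↥(Subgroup.centralizer {g})) ∈ π.ker := by
      rw [MonoidHom.mem_ker]
      exact Subtype.ext (QuotientGroup.eq_one_iff _ |>.mpr (Subgroup.one_mem _))
    have h3 : (⟨-1, hkmem neg_one_center⟩ : ↥(Subgroup.centralizer {g})) ∈ π.ker := by
      rw [MonoidHom.mem_ker]
      exact Subtype.ext (QuotientGroup.eq_one_iff _ |>.mpr neg_one_center)
    refine ⟨⟨_, h1⟩, ⟨_, h3⟩, ?_, ?_⟩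
    · intro h
      have := congrArg (fun z : ↥π.ker => z.1.1) h
      exact neg_one_ne_one_SL h2 this.symm
    · rw [Set.eq_univ_iff_forall]
      rintro ⟨⟨z, hz⟩, hzk⟩
      rw [MonoidHom.mem_ker] at hzk
      have h5 : (QuotientGroup.mk z : ProjectiveSpecialLinearGroup (Fin 2) K) = 1 := congrArg Subtype.val hzk
      rw [QuotientGroup.eq_one_iff] at h5
      rcases center_cases h5 with rfl | rfl
      · left
        rfl
      · right
        rfl
  constructor
  · rw [← hcard, ← Subgroup.card_mul_index π.ker, hker, Subgroup.index_ker, MonoidHom.range_eq_top.mpr hsurj, Subgroup.card_top]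
  · intro x hx y hy
    obtain ⟨h, hh, rfl⟩ := hlift x hx
    obtain ⟨h', hh', rfl⟩ := hlift y hy
    show (QuotientGroup.mk (h * h') : ProjectiveSpecialLinearGroup (Fin 2) K) = QuotientGroup.mk (h' * h)
    rw [hcomm h hh h' hh']

end SL

end Cfsg.Agent.Lib.Ree
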