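import Cfsg.Agent.Lib.Ree.Law

/-! A Weyl involution in the small Ree groups. -/

set_option autoImplicit false
set_option maxRecDepth 1000000
set_option linter.unusedSimpArgs false
set_option linter.unusedVariables false
set_option linter.unusedSectionVars false

namespace Cfsg.Agent.Lib.Ree

open Cfsg Cfsg.Lie Matrix Cfsg.Agent.Lib.BN Cfsg.Agent.Lib.Chev Cfsg.Agent.Lib.Chev.Tw Cfsg.Agent.Lib.Chev.TwG2 Cfsg.Agent.Lib.Chev.TabG2

/-- The word of the involution. -/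
def wN : List (ℕ × List Mo) := wwI 0 1 0 ++ wwJ 0 1 0 ++ wwI 0 1 0

/-- The word of the product of two orthogonal `n_r`. -/
def wN2 : List (ℕ × List Mo) :=
  [(8, [(1, 0, 0)]), (3, [(-1, 0, 0)]), (8, [(1, 0, 0)]), (10, [(1, 0, 0)]), (1, [(-1, 0, 0)]), (10, [(1, 0, 0)])]

theorem wN_chk : (allLt 14 fun k => tmEq (nfP 3 (applyW (tblOf chevG2) wN [(k, 1, 0, 0)]))
    (nfP 3 (applyW (tblOf chevG2) wN2 [(k, 1, 0, 0)]))) = true :=
  tbl_eq ▸ (by decide +kernel : (allLt 14 fun k => tmEq (nfP 3 (applyW fd.tbl wN [(k, 1, 0, 0)]))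
    (nfP 3 (applyW fd.tbl wN2 [(k, 1, 0, 0)]))) = true)

theorem wN_sq_chk : (allLt 14 fun k => tmEq (nfP 3 (applyW (tblOf chevG2) (wN ++ wN) [(k, 1, 0, 0)]))
    (nfP 3 [(k, 1, 0, 0)])) = true :=
  tbl_eq ▸ (by decide +kernel : (allLt 14 fun k => tmEq (nfP 3 (applyW fd.tbl (wN ++ wN) [(k, 1, 0, 0)]))
    (nfP 3 [(k, 1, 0, 0)])) = true)

section

variable {K : Type*} [Field K] [CharP K 3] (f : K ≃+* K)

/-- The Weyl involution. -/
noncomputable def nn : GL chevG2.Idx K :=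
  WW f ((0 : ℤ) : K) ((1 : ℤ) : K) ((0 : ℤ) : K) * TwAut.iot good5.inv K (WW f ((0 : ℤ) : K) ((1 : ℤ) : K) ((0 : ℤ) : K)) *
    WW f ((0 : ℤ) : K) ((1 : ℤ) : K) ((0 : ℤ) : K)

theorem nn_val : ((nn f : GL chevG2.Idx K) : Matrix chevG2.Idx chevG2.Idx K) = chevG2.wordMat K (evW 1 1 wN) := by
  simp only [nn, Units.val_mul, WW_int, iot_WW_int, wN, evW, List.map_append, wordMat_append]

theorem row_wN {w : List (ℕ × List Mo)} (h : ∀ a ∈ w, a.1 < chevG2.nroots) : ∀ a ∈ w, RowOK chevG2 a.1 :=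
  fun a ha => good3.row (h a ha)

theorem nn_sq : nn f * nn f = 1 := by
  have hrow : ∀ a ∈ wN ++ wN, RowOK chevG2 a.1 := row_wN (by decide +kernel)
  have hchk := wN_sq_chk
  apply Units.ext
  rw [Units.val_mul, nn_val, Units.val_one, ← wordMat_append]
  have e : evW (1 : K) 1 wN ++ evW 1 1 wN = evW 1 1 (wN ++ wN) := by simp [evW]
  rw [e]
  apply matrix_ext_vE
  intro k hk
  have hk2 : k < 14 := hk
  have h1 := (tmEq_iff _ _).mp ((allLt_iff _ _).mp hchk k hk2)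
  rw [word_colP chevG2 3 (wN ++ wN) hrow k _ h1, V_single, Matrix.one_mulVec]

theorem nn_eq : nn f = good3.toGood2.nrU h8 1 * good3.toGood2.nrU h10 1 := by
  have hrow : ∀ a ∈ wN, RowOK chevG2 a.1 := row_wN (by decide +kernel)
  have hrow2 : ∀ a ∈ wN2, RowOK chevG2 a.1 := row_wN (by decide +kernel)
  have hchk := wN_chk
  apply Units.ext
  rw [Units.val_mul, nn_val, Good2.nrU_val, Good2.nrU_val]
  have e : chevG2.nMat K 8 1 * chevG2.nMat K 10 1 = chevG2.wordMat K (evW 1 1 wN2) := by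
    have n3 : chevG2.neg 8 = 3 := by decide
    have n1 : chevG2.neg 10 = 1 := by decide
    simp [ChevalleyDatum.nMat, ChevalleyDatum.nWord, n3, n1, wN2, evW, polyVal, moVal, ChevalleyDatum.wordMat, mul_assoc]
  rw [e]
  apply matrix_ext_vE
  intro k hk
  have hk2 : k < 14 := hk
  have h1 := (tmEq_iff _ _).mp ((allLt_iff _ _).mp hchk k hk2)
  rw [word_colP chevG2 3 wN hrow k _ h1, ← V_single chevG2 (1 : K) 1 k, applyW_correct chevG2 1 1 wN2 hrow2]

theorem nn_N : nn f ∈ chevG2.monomialSubgroup K := by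
  rw [nn_eq]
  refine Subgroup.mul_mem _ ?_ ?_
  · exact (le_sup_right : _ ≤ chevG2.diagonalSubgroup K ⊔ _) (Subgroup.subset_closure ⟨8, h8, rfl⟩)
  · exact (le_sup_right : _ ≤ chevG2.diagonalSubgroup K ⊔ _) (Subgroup.subset_closure ⟨10, h10, rfl⟩)

variable (hf3 : ∀ t, f (f t) ^ 3 = t)
include hf3

theorem nn_mem : nn f ∈ (TT f).AA JJ := by
  have hX : ∀ t u v : K, WW f t u v ∈ (TT f).AA JJ := fun t u v =>
    (TT f).X_le_AA JJ 0 ((X_iff f hf3).mpr ⟨t, u, v, rfl⟩)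
  have hY : ∀ t u v : K, TwAut.iot good5.inv K (WW f t u v) ∈ (TT f).AA JJ := fun t u v =>
    (TT f).Y_le_AA JJ 0 ((TT f).iot_X invD ((X_iff f hf3).mpr ⟨t, u, v, rfl⟩))
  unfold nn
  exact Subgroup.mul_mem _ (Subgroup.mul_mem _ (hX _ _ _) (hY _ _ _)) (hX _ _ _)

end

end Cfsg.Agent.Lib.Ree
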