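import Cfsg.Agent.Lib.Transfer.Rank

/-! `p`-groups acting linearly so that all nontrivial subgroups have the same fixed space are cyclic. -/

set_option autoImplicit false
set_option linter.unusedSimpArgs false
set_option linter.unusedVariables false
set_option linter.unusedSectionVars false

namespace Cfsg.Agent.Lib.Ree

open Finset

theorem sum_reindex {X : Type*} [AddCommMonoid X] {p : ℕ} (hp : p.Prime) (g : ℕ → X) (hg : ∀ n, g n = g (n % p))
    {j : ℕ} (hj0 : 0 < j) (hjp : j < p) : ∑ i ∈ range p, g (i * j) = ∑ k ∈ range p, g k := by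
  have hpos := hp.pos
  have hco : Nat.Coprime p j := Nat.coprime_of_lt_prime hj0.ne' hjp hp
  have hinj : Set.InjOn (fun i => i * j % p) (range p : Set ℕ) := by
    intro a ha b hb hab
    have ha' : a < p := by simpa using ha
    have hb' : b < p := by simpa using hb
    have h1 : a * j ≡ b * j [MOD p] := hab
    have h2 : a ≡ b [MOD p] := Nat.ModEq.cancel_right_of_coprime (by rwa [Nat.coprime_iff_gcd_eq_one] at hco) h1
    exact Nat.ModEq.eq_of_lt_of_lt h2 ha' hb'
  have himg : (range p).image (fun i => i * j % p) = range p := by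
    apply Finset.eq_of_subset_of_card_le
    · intro x hx
      obtain ⟨i, -, rfl⟩ := Finset.mem_image.mp hx
      exact Finset.mem_range.mpr (Nat.mod_lt _ hpos)
    · rw [Finset.card_image_of_injOn hinj]
  calc ∑ i ∈ range p, g (i * j) = ∑ i ∈ range p, g (i * j % p) := Finset.sum_congr rfl (fun i _ => hg _)
    _ = ∑ k ∈ (range p).image (fun i => i * j % p), g k := (Finset.sum_image hinj).symm
    _ = _ := by rw [himg]

section Core

variable {K W : Type*} [Field K] [AddCommGroup W] [Module K W]

/-- The operator identity. -/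
theorem core_identity {p : ℕ} (hp : p.Prime) (hpK : (p : K) ≠ 0) (B C : Module.End K W) (hB : B ^ p = 1)
    (hBC : Commute C B) (L : Submodule K W)
    (h1 : ∀ v, ∑ j ∈ range p, (B ^ j) v ∈ L)
    (h2 : ∀ i v, ∑ j ∈ range p, ((C * B ^ i) ^ j) v ∈ L)
    (h3 : ∀ u ∈ L, C u = u) (v : W) : v ∈ L := by
  have hC3 : ∀ (j : ℕ) (u : W), u ∈ L → (C ^ j) u = u := by
    intro j
    induction j with
    | zero => intro u _; simp
    | succ n ih =>
      intro u hu
      rw [pow_succ, Module.End.mul_apply, h3 u hu, ih u hu]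
  set T := ∑ k ∈ range p, (B ^ k) v with hT
  have hTL : T ∈ L := h1 v
  have hg : ∀ n, (B ^ n) v = (B ^ (n % p)) v := by
    intro n
    rw [pow_eq_pow_mod n hB]
  have hterm : ∀ i j, ((C * B ^ i) ^ j) v = (C ^ j) ((B ^ (i * j)) v) := by
    intro i j
    have hc : Commute C (B ^ i) := hBC.pow_right i
    rw [hc.mul_pow, Module.End.mul_apply, ← pow_mul]
  have hsum : ∑ i ∈ range p, ∑ j ∈ range p, ((C * B ^ i) ^ j) v = ∑ j ∈ range p, (C ^ j) (∑ i ∈ range p, (B ^ (i * j)) v) := by
    rw [Finset.sum_comm]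
    apply Finset.sum_congr rfl
    intro j _
    rw [map_sum]
    apply Finset.sum_congr rfl
    intro i _
    exact hterm i j
  obtain ⟨n, hn⟩ : ∃ n, p = n + 1 := ⟨p - 1, by have := hp.pos; omega⟩
  have hsum2 : ∑ j ∈ range p, (C ^ j) (∑ i ∈ range p, (B ^ (i * j)) v) = p • v + n • T := by
    have hinner : ∀ j, 0 < j → j < p → (C ^ j) (∑ i ∈ range p, (B ^ (i * j)) v) = T := by
      intro j hj0 hjp
      rw [sum_reindex hp (fun k => (B ^ k) v) hg hj0 hjp, hC3 j T hTL]
    conv_lhs => rw [hn, Finset.sum_range_succ', ← hn]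
    have e1 : ∑ j ∈ range n, (C ^ (j + 1)) (∑ i ∈ range p, (B ^ (i * (j + 1))) v) = n • T := by
      rw [Finset.sum_congr rfl (fun j hj => hinner (j + 1) (Nat.succ_pos _) (by
        have := Finset.mem_range.mp hj
        omega))]
      simp
    rw [e1]
    simp [add_comm]
  have h4 : p • v + n • T ∈ L := by
    rw [← hsum2, ← hsum]
    exact Submodule.sum_mem _ (fun i _ => h2 i v)
  have h5 : p • v ∈ L := by
    have := Submodule.sub_mem _ h4 (Submodule.smul_of_tower_mem L n hTL)
    simpa using this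
  have h6 : (p : K) • v ∈ L := by
    rwa [Nat.cast_smul_eq_nsmul]
  have h7 := L.smul_mem (p : K)⁻¹ h6
  rwa [smul_smul, inv_mul_cancel₀ hpK, one_smul] at h7

end Core

section Rep

variable {K W S : Type*} [Field K] [AddCommGroup W] [Module K W] [Group S]

/-- The fixed space of a subgroup. -/
def fixSp (ρ : S →* Module.End K W) (A : Subgroup S) : Submodule K W where
  carrier := {v | ∀ g ∈ A, ρ g v = v}
  add_mem' := by
    intro a b ha hb g hg
    rw [map_add, ha g hg, hb g hg]
  zero_mem' := by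
    intro g _
    exact map_zero _
  smul_mem' := by
    intro c a ha g hg
    rw [map_smul, ha g hg]

theorem mem_fixSp {ρ : S →* Module.End K W} {A : Subgroup S} {v : W} : v ∈ fixSp ρ A ↔ ∀ g ∈ A, ρ g v = v := Iff.rfl

theorem fixSp_anti (ρ : S →* Module.End K W) {A B : Subgroup S} (h : A ≤ B) : fixSp ρ B ≤ fixSp ρ A :=
  fun _ hv g hg => hv g (h hg)

/-- The congruence for the dimensions of fixed spaces. -/
theorem card_fix_modEq [Finite K] [Finite W] [Module.Finite K W] {p : ℕ} [Fact p.Prime] (ρ : S →* Module.End K W) (A : Subgroup S)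
    (hA : IsPGroup p A) :
    Nat.card K ^ Module.finrank K W ≡ Nat.card K ^ Module.finrank K (fixSp ρ A) [MOD p] := by
  letI : MulAction A W := MulAction.compHom W
    { toFun := fun g => ρ g.1, map_one' := by simp, map_mul' := fun x y => by simp : A →* Module.End K W }
  have hsm : ∀ (g : A) (v : W), g • v = ρ g.1 v := fun g v => rfl
  have h := hA.card_modEq_card_fixedPoints W
  rw [Module.natCard_eq_pow_finrank (K := K)] at h
  have e : Nat.card (MulAction.fixedPoints A W) = Nat.card ↥(fixSp ρ A) := by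
    apply Nat.card_congr
    exact Equiv.subtypeEquivRight (fun v => by
      simp only [MulAction.mem_fixedPoints, hsm, Subtype.forall]
      exact Iff.rfl)
  rw [e, Module.natCard_eq_pow_finrank (K := K) (V := ↥(fixSp ρ A))] at h
  exact h

/-- A finite `p`-group (`p` odd) with a linear action in which all nontrivial subgroups have fixed
spaces of the same proper dimension is cyclic. -/
theorem cyc_of_rep [Finite S] {p : ℕ} [Fact p.Prime] (hp2 : p ≠ 2) (hpK : (p : K) ≠ 0) [Module.Finite K W]
    (hS : IsPGroup p S) (ρ : S →* Module.End K W) {d : ℕ} (hd : d < Module.finrank K W)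
    (hdim : ∀ A : Subgroup S, A ≠ ⊥ → Module.finrank K (fixSp ρ A) = d) : IsCyclic S := by
  by_contra hnc
  have hp : p.Prime := Fact.out
  obtain ⟨A, hAn, ⟨hAc, hAe⟩, hAcard⟩ := Cfsg.Agent.Lib.Transfer.exists_normal_elementary_sq hp2 hS hnc
  have hA2 : ∀ x ∈ A, ∀ y ∈ A, x * y = y * x := fun x hx y hy => by
    have := hAc.is_comm.comm (⟨x, hx⟩ : A) ⟨y, hy⟩
    exact congrArg Subtype.val this
  -- a nontrivial element
  obtain ⟨b, hbA, hb1⟩ : ∃ b ∈ A, b ≠ 1 := by
    by_contra h
    push Not at h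
    have : A = ⊥ := (Subgroup.eq_bot_iff_forall A).mpr h
    rw [this] at hAcard
    simp at hAcard
    have : 1 < p ^ 2 := Nat.one_lt_pow (by norm_num) hp.one_lt
    omega
  -- a second generator
  obtain ⟨c, hcA, hcb⟩ : ∃ c ∈ A, c ∉ Subgroup.zpowers b := by
    by_contra h
    push Not at h
    have hle : A ≤ Subgroup.zpowers b := h
    have h1 : Nat.card (Subgroup.zpowers b) = p := by
      rw [Nat.card_zpowers]
      exact orderOf_eq_prime (hAe b hbA) hb1
    have h2 := Subgroup.card_le_of_le hle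
    rw [hAcard, h1] at h2
    have h3 : p < p ^ 2 := by
      rw [pow_two]
      nlinarith [hp.two_le]
    omega
  have hAb : A ≠ ⊥ := by
    intro h
    apply hb1
    rw [h] at hbA
    exact (Subgroup.mem_bot.mp hbA)
  set L := fixSp ρ A with hL
  have hLd : Module.finrank K L = d := hdim A hAb
  have hfix : ∀ x ∈ A, x ≠ 1 → L = fixSp ρ (Subgroup.zpowers x) := by
    intro x hx hx1
    apply Submodule.eq_of_le_of_finrank_eq
    · exact fixSp_anti ρ ((Subgroup.zpowers_le).mpr hx)
    · rw [hLd, hdim]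
      intro h
      exact hx1 (Subgroup.zpowers_eq_bot.mp h)
  have hsum : ∀ x ∈ A, x ≠ 1 → ∀ v, ∑ j ∈ range p, ((ρ x) ^ j) v ∈ L := by
    intro x hx hx1 v
    rw [hfix x hx hx1]
    have hxp : (ρ x) ^ p = 1 := by rw [← map_pow, hAe x hx, map_one]
    have h1 : ρ x (∑ j ∈ range p, ((ρ x) ^ j) v) = ∑ j ∈ range p, ((ρ x) ^ j) v := by
      rw [map_sum]
      have e : ∀ j, ρ x (((ρ x) ^ j) v) = ((ρ x) ^ (j + 1)) v := by
        intro j
        rw [pow_succ', Module.End.mul_apply]
      simp only [e]
      obtain ⟨n, hn⟩ : ∃ n, p = n + 1 := ⟨p - 1, by have := hp.pos; omega⟩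
      rw [hn] at hxp ⊢
      rw [Finset.sum_range_succ, Finset.sum_range_succ' (fun j => ((ρ x) ^ j) v) n, hxp]
      simp
    intro g hg
    obtain ⟨k, rfl⟩ := (mem_powers_iff_mem_zpowers).mpr hg
    have h2 : ∀ k : ℕ, ρ (x ^ k) (∑ j ∈ range p, ((ρ x) ^ j) v) = ∑ j ∈ range p, ((ρ x) ^ j) v := by
      intro k
      induction k with
      | zero => simp
      | succ n ih =>
        rw [pow_succ, map_mul, Module.End.mul_apply, h1, ih]
    exact h2 k
  have hbc : Commute (ρ c) (ρ b) := by
    show ρ c * ρ b = ρ b * ρ c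
    rw [← map_mul, ← map_mul, hA2 c hcA b hbA]
  have hall : ∀ v, v ∈ L := by
    apply core_identity hp hpK (ρ b) (ρ c) (by rw [← map_pow, hAe b hbA, map_one]) hbc L (hsum b hbA hb1)
    · intro i v
      have hm : c * b ^ i ∈ A := Subgroup.mul_mem _ hcA (Subgroup.pow_mem _ hbA _)
      have hne : c * b ^ i ≠ 1 := by
        intro h
        apply hcb
        have : c = (b ^ i)⁻¹ := eq_inv_of_mul_eq_one_left h
        rw [this]
        exact Subgroup.inv_mem _ (Subgroup.pow_mem _ (Subgroup.mem_zpowers b) _)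
      have := hsum _ hm hne v
      simpa [map_mul, map_pow] using this
    · intro u hu
      exact hu c hcA
  have htop : L = ⊤ := (Submodule.eq_top_iff').mpr hall
  rw [htop, finrank_top] at hLd
  omega

end Rep

end Cfsg.Agent.Lib.Ree
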