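import Cfsg.Agent.Lib.Ree.Gal
import Cfsg.Agent.Lib.Chev.SL2Root

/-! A copy of `SL₂(q)` in the small Ree group. -/

set_option autoImplicit false
set_option maxRecDepth 100000
set_option linter.unusedSimpArgs false
set_option linter.unusedVariables false
set_option linter.unusedSectionVars false

namespace Cfsg.Agent.Lib.Ree

open Cfsg Cfsg.Lie Matrix Cfsg.Agent.Lib.BN Cfsg.Agent.Lib.Chev Cfsg.Agent.Lib.Chev.Tw Cfsg.Agent.Lib.Chev.TwG2 Cfsg.Agent.Lib.Chev.TabG2

/-- Lower unitriangular matrices. -/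
def lowE {F : Type*} [Field F] (t : F) : SpecialLinearGroup (Fin 2) F :=
  ⟨!![1, 0; t, 1], by simp [Matrix.det_fin_two]⟩

/-- Generation of `SL₂` by transvections. -/
theorem sl2_gen {F : Type*} [Field F] {K : Subgroup (SpecialLinearGroup (Fin 2) F)}
    (hup : ∀ t, SL2.Rel.upE t ∈ K) (hlow : ∀ t : F, lowE t ∈ K)
    (g : SpecialLinearGroup (Fin 2) F) : g ∈ K := by
  have key : ∀ g : SpecialLinearGroup (Fin 2) F, g.1 1 0 ≠ 0 → g ∈ K := by
    intro g hc
    have hd := SL2.Rel.det_eq g
    have e : g = SL2.Rel.upE ((g.1 0 0 - 1) / g.1 1 0) * lowE (g.1 1 0) *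
        SL2.Rel.upE ((g.1 1 1 - 1) / g.1 1 0) := by
      apply Subtype.ext
      show g.1 = !![1, _; 0, 1] * !![1, 0; _, 1] * !![1, _; 0, 1]
      ext i j
      fin_cases i <;> fin_cases j <;> simp [Matrix.mul_apply, Fin.sum_univ_two] <;> field_simp <;> ring_nf
      linear_combination -hd
    rw [e]
    exact K.mul_mem (K.mul_mem (hup _) (hlow _)) (hup _)
  by_cases hc : g.1 1 0 = 0
  · have hA := SL2.Rel.A_ne g hc
    let l : SpecialLinearGroup (Fin 2) F := lowE 1
    have h1 : (l * g).1 1 0 ≠ 0 := by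
      have : (l * g).1 = !![1, 0; 1, 1] * g.1 := rfl
      rw [this]
      simp [Matrix.mul_apply, Fin.sum_univ_two, hc, hA]
    have h2 := key _ h1
    have h3 : l ∈ K := hlow 1
    have : g = l⁻¹ * (l * g) := by group
    rw [this]
    exact K.mul_mem (K.inv_mem h3) h2
  · exact key g hc

variable {K : Type*} [Field K] [CharP K 3] (f : K ≃+* K)

theorem c_comm_e (s t : K) : xc s * xe t = xe t * xc s := cm_ce s t

theorem h3' : chevG2.neg 8 < chevG2.nroots := good3.neg_lt h8
theorem h1' : chevG2.neg 10 < chevG2.nroots := good3.neg_lt h10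

theorem cm1 (s t : K) : good3.xg h3' s * good3.xg h10 t = good3.xg h10 t * good3.xg h3' s :=
  good3.xg_comm_nil h10 h3' (by decide) (by decide +kernel) (by decide +kernel) t s
theorem cm2 (s t : K) : good3.xg h8 s * good3.xg h1' t = good3.xg h1' t * good3.xg h8 s :=
  good3.xg_comm_nil h1' h8 (by decide) (by decide +kernel) (by decide +kernel) t s
theorem cm3 (s t : K) : good3.xg h3' s * good3.xg h1' t = good3.xg h1' t * good3.xg h3' s :=
  good3.xg_comm_nil h1' h3' (by decide) (by decide +kernel) (by decide +kernel) t s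

/-- The map for the short root. -/
noncomputable def phiC : SpecialLinearGroup (Fin 2) K →* GL chevG2.Idx K := (good3.toGood2.rel (F := K) h8).hom
/-- The map for the long root. -/
noncomputable def phiE : SpecialLinearGroup (Fin 2) K →* GL chevG2.Idx K := (good3.toGood2.rel (F := K) h10).hom

theorem phi_comm (g g' : SpecialLinearGroup (Fin 2) K) : phiC g * phiE g' = phiE g' * phiC g := by
  have h1 : (phiC (K := K)).range ≤ Subgroup.centralizer (Set.range (phiE (K := K))) := by
    apply (good3.toGood2.rel (F := K) h8).hom_range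
    · intro t
      rw [Subgroup.mem_centralizer_iff]
      rintro _ ⟨g₂, rfl⟩
      have h2 : (phiE (K := K)).range ≤ Subgroup.centralizer {good3.xg h8 t} := by
        apply (good3.toGood2.rel (F := K) h10).hom_range
        · intro u
          rw [Subgroup.mem_centralizer_singleton_iff]
          exact (c_comm_e t u).symm
        · intro u
          rw [Subgroup.mem_centralizer_singleton_iff]
          exact (cm2 t u).symm
      have h3 := h2 ⟨g₂, rfl⟩
      rw [Subgroup.mem_centralizer_singleton_iff] at h3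
      exact h3
    · intro t
      rw [Subgroup.mem_centralizer_iff]
      rintro _ ⟨g₂, rfl⟩
      have h2 : (phiE (K := K)).range ≤ Subgroup.centralizer {good3.xg h3' t} := by
        apply (good3.toGood2.rel (F := K) h10).hom_range
        · intro u
          rw [Subgroup.mem_centralizer_singleton_iff]
          exact (cm1 t u).symm
        · intro u
          rw [Subgroup.mem_centralizer_singleton_iff]
          exact (cm3 t u).symm
      have h3 := h2 ⟨g₂, rfl⟩
      rw [Subgroup.mem_centralizer_singleton_iff] at h3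
      exact h3
  have h2 := h1 ⟨g, rfl⟩
  rw [Subgroup.mem_centralizer_iff] at h2
  exact (h2 _ ⟨g', rfl⟩).symm

/-- The entrywise action of `f`. -/
noncomputable def mapF : SpecialLinearGroup (Fin 2) K →* SpecialLinearGroup (Fin 2) K :=
  Matrix.SpecialLinearGroup.map (f : K →+* K)

/-- The twisted diagonal map. -/
noncomputable def phi : SpecialLinearGroup (Fin 2) K →* GL chevG2.Idx K where
  toFun g := phiC (mapF f g) * phiE g
  map_one' := by simp
  map_mul' a b := by
    rw [map_mul, map_mul, map_mul]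
    have := phi_comm (mapF f b) a
    calc phiC (mapF f a) * phiC (mapF f b) * (phiE a * phiE b)
        = phiC (mapF f a) * (phiC (mapF f b) * phiE a) * phiE b := by group
      _ = phiC (mapF f a) * (phiE a * phiC (mapF f b)) * phiE b := by rw [this]
      _ = _ := by group

theorem phi_apply (g : SpecialLinearGroup (Fin 2) K) : phi f g = phiC (mapF f g) * phiE g := rfl

theorem phi_up (t : K) : phi f (SL2.Rel.upE t) = WW f 0 t 0 := by
  rw [phi_apply]
  have h1 : phiC (mapF f (SL2.Rel.upE t)) = xc (f t) :=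
    (good3.toGood2.rel (F := K) h8).hom_up (by
      show (SL2.Rel.upE t).1.map f = _
      ext i j
      fin_cases i <;> fin_cases j <;> simp [SL2.Rel.upE])
  have h2 : phiE (SL2.Rel.upE t) = xe t := (good3.toGood2.rel (F := K) h10).hom_up rfl
  rw [h1, h2]
  unfold WW Om
  simp [good3.xg_zero]

theorem phi_low (t : K) : phi f (lowE t) = TwAut.iot good5.inv K (WW f 0 (-t) 0) := by
  rw [phi_apply]
  have h1 : phiC (mapF f (lowE t)) = good3.xg h3' (f t) :=
    (good3.toGood2.rel (F := K) h8).hom_low (by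
      show (!![1, 0; t, 1] : Matrix _ _ K).map f = _
      ext i j
      fin_cases i <;> fin_cases j <;> simp)
  have h2 : phiE (lowE t) = good3.xg h1' t :=
    (good3.toGood2.rel (F := K) h10).hom_low rfl
  rw [h1, h2]
  unfold WW Om
  have i1 := fun (r : ℕ) (hr : r < chevG2.nroots) (t : K) => TwAut.iot_x (F := K) invD good3 hr t
  simp only [TwAut.iot_mul, i1, map_zero, zero_mul, mul_zero, zero_add, add_zero, neg_zero, map_neg, neg_neg, good3.xg_zero, one_mul, mul_one]

theorem nE_eq {r : ℕ} (hr : r < chevG2.nroots) (t : K) :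
    SL2.nE (good3.xg (F := K) hr) (good3.xg (good3.neg_lt hr)) t = good3.toGood2.nrU hr t := by
  apply Units.ext
  rw [good3.toGood2.nrU_val, good3.toGood2.nMat_eq]
  simp [SL2.nE]

theorem hE_eq {r : ℕ} (hr : r < chevG2.nroots) {t : K} (ht : t ≠ 0) :
    SL2.hE (good3.xg (F := K) hr) (good3.xg (good3.neg_lt hr)) t = good3.toGood2.hG hr ht := by
  unfold SL2.hE
  rw [nE_eq, nE_eq, good3.toGood2.nrU_eq_hG hr ht]
  group

theorem phi_w : phi f (SL2.Rel.wE : SpecialLinearGroup (Fin 2) K) = nn f := by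
  rw [phi_apply, nn_eq]
  have e : mapF f (SL2.Rel.wE : SpecialLinearGroup (Fin 2) K) = SL2.Rel.wE := by
    apply Subtype.ext
    show (SL2.Rel.wE : SpecialLinearGroup (Fin 2) K).1.map f = _
    ext i j
    fin_cases i <;> fin_cases j <;> simp [SL2.Rel.wE]
  rw [e]
  have h1 : phiC (SL2.Rel.wE : SpecialLinearGroup (Fin 2) K) = good3.toGood2.nrU h8 1 :=
    ((good3.toGood2.rel (F := K) h8).PhiG_w1).trans (nE_eq h8 1)
  have h2 : phiE (SL2.Rel.wE : SpecialLinearGroup (Fin 2) K) = good3.toGood2.nrU h10 1 :=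
    ((good3.toGood2.rel (F := K) h10).PhiG_w1).trans (nE_eq h10 1)
  rw [h1, h2]

theorem phi_d (x : K) (hx : x ≠ 0) : phi f (SL2.Rel.dE x hx) ∈ chevG2.diagonalSubgroup K := by
  rw [phi_apply]
  have hfx : f x ≠ 0 := (map_ne_zero f).mpr hx
  have e : mapF f (SL2.Rel.dE x hx) = SL2.Rel.dE (f x) hfx := by
    apply Subtype.ext
    show (SL2.Rel.dE x hx).1.map f = _
    ext i j
    fin_cases i <;> fin_cases j <;> simp [SL2.Rel.dE]
  rw [e]
  have h1 : phiC (SL2.Rel.dE (f x) hfx) = good3.toGood2.hG h8 hfx :=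
    ((good3.toGood2.rel (F := K) h8).PhiG_d1 (f x) hfx).trans (hE_eq h8 hfx)
  have h2 : phiE (SL2.Rel.dE x hx) = good3.toGood2.hG h10 hx :=
    ((good3.toGood2.rel (F := K) h10).PhiG_d1 x hx).trans (hE_eq h10 hx)
  rw [h1, h2]
  exact Subgroup.mul_mem _ (good3.toGood2.hG_mem _ _) (good3.toGood2.hG_mem _ _)

variable (hf3 : ∀ t, f (f t) ^ 3 = t)
include hf3

theorem phi_mem (g : SpecialLinearGroup (Fin 2) K) : phi f g ∈ (TT f).AA JJ := by
  have : g ∈ ((TT f).AA JJ).comap (phi f) := by
    refine sl2_gen (fun t => ?_) (fun t => ?_) g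
    · rw [Subgroup.mem_comap, phi_up]
      exact X1_mem f hf3 _ _ _
    · rw [Subgroup.mem_comap, phi_low]
      exact (TT f).Y_le_AA JJ 0 ((TT f).iot_X invD ((X_iff f hf3).mpr ⟨_, _, _, rfl⟩))
  exact this

end Cfsg.Agent.Lib.Ree
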