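import Cfsg.Agent.Lib.Ree.CA

/-! An elementary abelian subgroup of order eight in the small Ree groups. -/

set_option autoImplicit false
set_option linter.unusedSimpArgs false
set_option linter.unusedVariables false
set_option linter.unusedSectionVars false

namespace Cfsg.Agent.Lib.Ree

open Matrix Cfsg.Agent.Lib.Chev
open scoped Pointwise

section Q

variable {K : Type*} [Field K] [CharP K 3]

theorem three_K : (3 : K) = 0 := by
  exact_mod_cast CharP.cast_eq_zero K 3

/-- The first quaternion unit. -/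
def iE : SpecialLinearGroup (Fin 2) K := SL2.Rel.wE

/-- The second quaternion unit. -/
def jE : SpecialLinearGroup (Fin 2) K := ⟨!![1, 1; 1, -1], by
  rw [Matrix.det_fin_two_of]
  linear_combination (-1 : K) * (three_K (K := K))⟩

/-- The third quaternion unit. -/
def kE : SpecialLinearGroup (Fin 2) K := iE * jE

theorem iE_val : (iE : SpecialLinearGroup (Fin 2) K).1 = !![0, 1; -1, 0] := rfl
theorem jE_val : (jE : SpecialLinearGroup (Fin 2) K).1 = !![1, 1; 1, -1] := rfl

omit [CharP K 3] in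
theorem sl_mul_val (x y : SpecialLinearGroup (Fin 2) K) : (x * y).1 = x.1 * y.1 := rfl

theorem kE_val : (kE : SpecialLinearGroup (Fin 2) K).1 = !![1, -1; -1, -1] := by
  rw [kE, sl_mul_val, iE_val, jE_val, Matrix.mul_fin_two]
  congr 1
  simp

omit [CharP K 3] in
theorem sl_ext {x y : SpecialLinearGroup (Fin 2) K} (h00 : x.1 0 0 = y.1 0 0) (h01 : x.1 0 1 = y.1 0 1)
    (h10 : x.1 1 0 = y.1 1 0) (h11 : x.1 1 1 = y.1 1 1) : x = y := by
  apply Subtype.ext
  ext i j
  fin_cases i <;> fin_cases j <;> assumption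

omit [CharP K 3] in
theorem neg_val (x : SpecialLinearGroup (Fin 2) K) (i j : Fin 2) : (-x).1 i j = -(x.1 i j) := by
  rw [Matrix.SpecialLinearGroup.coe_neg]
  rfl

theorem ii : (iE * iE : SpecialLinearGroup (Fin 2) K) = -1 := RD.RL.minus_one_eq

theorem jj : (jE * jE : SpecialLinearGroup (Fin 2) K) = -1 := by
  have h3 := three_K (K := K)
  apply sl_ext <;> simp only [neg_val, sl_mul_val, jE_val, Matrix.mul_apply, Fin.sum_univ_two] <;> simp <;>
    linear_combination h3

theorem ij : (iE * jE : SpecialLinearGroup (Fin 2) K) = -(jE * iE) := by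
  apply sl_ext <;> simp only [neg_val, sl_mul_val, iE_val, jE_val, Matrix.mul_apply, Fin.sum_univ_two] <;> simp

/-- Commutation up to sign with `i`. -/
theorem mul_i_entries (g : SpecialLinearGroup (Fin 2) K) :
    (g * iE).1 0 0 = -(g.1 0 1) ∧ (g * iE).1 0 1 = g.1 0 0 ∧ (g * iE).1 1 0 = -(g.1 1 1) ∧ (g * iE).1 1 1 = g.1 1 0 := by
  simp [sl_mul_val, iE_val, Matrix.mul_apply, Fin.sum_univ_two]

theorem i_mul_entries (g : SpecialLinearGroup (Fin 2) K) :
    (iE * g).1 0 0 = g.1 1 0 ∧ (iE * g).1 0 1 = g.1 1 1 ∧ (iE * g).1 1 0 = -(g.1 0 0) ∧ (iE * g).1 1 1 = -(g.1 0 1) := by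
  simp [sl_mul_val, iE_val, Matrix.mul_apply, Fin.sum_univ_two]

theorem mul_j_entries (g : SpecialLinearGroup (Fin 2) K) :
    (g * jE).1 0 0 = g.1 0 0 + g.1 0 1 ∧ (g * jE).1 0 1 = g.1 0 0 - g.1 0 1 ∧ (g * jE).1 1 0 = g.1 1 0 + g.1 1 1 ∧ (g * jE).1 1 1 = g.1 1 0 - g.1 1 1 := by
  simp [sl_mul_val, jE_val, Matrix.mul_apply, Fin.sum_univ_two, sub_eq_add_neg]

theorem j_mul_entries (g : SpecialLinearGroup (Fin 2) K) :
    (jE * g).1 0 0 = g.1 0 0 + g.1 1 0 ∧ (jE * g).1 0 1 = g.1 0 1 + g.1 1 1 ∧ (jE * g).1 1 0 = g.1 0 0 - g.1 1 0 ∧ (jE * g).1 1 1 = g.1 0 1 - g.1 1 1 := by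
  simp [sl_mul_val, jE_val, Matrix.mul_apply, Fin.sum_univ_two, sub_eq_add_neg]

theorem k_mul_entries (g : SpecialLinearGroup (Fin 2) K) :
    (kE * g).1 0 0 = g.1 0 0 - g.1 1 0 ∧ (kE * g).1 0 1 = g.1 0 1 - g.1 1 1 ∧ (kE * g).1 1 0 = -g.1 0 0 - g.1 1 0 ∧ (kE * g).1 1 1 = -g.1 0 1 - g.1 1 1 := by
  simp [sl_mul_val, kE_val, Matrix.mul_apply, Fin.sum_univ_two, sub_eq_add_neg]

/-- A matrix commuting up to sign with `i` and `j`. -/
theorem comm_cases (g : SpecialLinearGroup (Fin 2) K) (h1 : g * iE = iE * g ∨ g * iE = -(iE * g))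
    (h2 : g * jE = jE * g ∨ g * jE = -(jE * g)) :
    g = 1 ∨ g = -1 ∨ g = iE ∨ g = -iE ∨ g = jE ∨ g = -jE ∨ g = kE ∨ g = -kE := by
  have h3 := three_K (K := K)
  have h2' := RD.two_ne (K := K)
  obtain ⟨a1, a2, a3, a4⟩ := mul_i_entries g
  obtain ⟨b1, b2, b3, b4⟩ := i_mul_entries g
  obtain ⟨c1, c2, c3, c4⟩ := mul_j_entries g
  obtain ⟨d1, d2, d3, d4⟩ := j_mul_entries g
  have hd := SL2.Rel.det_eq g
  set A := g.1 0 0 with hA
  set B := g.1 0 1 with hB
  set C := g.1 1 0 with hC
  set D := g.1 1 1 with hD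
  have i00 : (iE : SpecialLinearGroup (Fin 2) K).1 0 0 = 0 := rfl
  have i01 : (iE : SpecialLinearGroup (Fin 2) K).1 0 1 = 1 := rfl
  have i10 : (iE : SpecialLinearGroup (Fin 2) K).1 1 0 = -1 := rfl
  have i11 : (iE : SpecialLinearGroup (Fin 2) K).1 1 1 = 0 := rfl
  have j00 : (jE : SpecialLinearGroup (Fin 2) K).1 0 0 = 1 := rfl
  have j01 : (jE : SpecialLinearGroup (Fin 2) K).1 0 1 = 1 := rfl
  have j10 : (jE : SpecialLinearGroup (Fin 2) K).1 1 0 = 1 := rfl
  have j11 : (jE : SpecialLinearGroup (Fin 2) K).1 1 1 = -1 := rfl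
  have k00 : (kE : SpecialLinearGroup (Fin 2) K).1 0 0 = 1 := by rw [kE_val]; rfl
  have k01 : (kE : SpecialLinearGroup (Fin 2) K).1 0 1 = -1 := by rw [kE_val]; rfl
  have k10 : (kE : SpecialLinearGroup (Fin 2) K).1 1 0 = -1 := by rw [kE_val]; rfl
  have k11 : (kE : SpecialLinearGroup (Fin 2) K).1 1 1 = -1 := by rw [kE_val]; rfl
  have o00 : (1 : SpecialLinearGroup (Fin 2) K).1 0 0 = 1 := rfl
  have o01 : (1 : SpecialLinearGroup (Fin 2) K).1 0 1 = 0 := rfl
  have o10 : (1 : SpecialLinearGroup (Fin 2) K).1 1 0 = 0 := rfl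
  have o11 : (1 : SpecialLinearGroup (Fin 2) K).1 1 1 = 1 := rfl
  have eq_two : ∀ {x : K}, 2 * x = 0 → x = 0 := fun {x} h => (mul_eq_zero.mp h).resolve_left h2'
  rcases h1 with h1 | h1 <;> rcases h2 with h2 | h2
  · -- i commutes, j commutes
    have e1 := congrArg (fun x : SpecialLinearGroup (Fin 2) K => x.1 0 0) h1
    have e2 := congrArg (fun x : SpecialLinearGroup (Fin 2) K => x.1 0 1) h1
    have e3 := congrArg (fun x : SpecialLinearGroup (Fin 2) K => x.1 1 0) h1
    have e4 := congrArg (fun x : SpecialLinearGroup (Fin 2) K => x.1 1 1) h1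
    have f1 := congrArg (fun x : SpecialLinearGroup (Fin 2) K => x.1 0 0) h2
    have f2 := congrArg (fun x : SpecialLinearGroup (Fin 2) K => x.1 0 1) h2
    simp only [a1, a2, a3, a4, b1, b2, b3, b4, c1, c2, c3, c4, d1, d2, d3, d4] at e1 e2 e3 e4 f1 f2
    have hB0 : B = 0 := eq_two (by linear_combination f1 - e1)
    have hC0 : C = 0 := by linear_combination -e1 - hB0
    have hDA : D = A := e2.symm
    have hAA : A * A = 1 := by rw [hDA, hB0] at hd; linear_combination hd
    rcases RD.RL.sq_one_units hAA with e | e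
    · left
      apply sl_ext <;> simp only [o00, o01, o10, o11, ← hA, ← hB, ← hC, ← hD, hB0, hC0, hDA, e]
    · right; left
      apply sl_ext <;> simp only [neg_val, o00, o01, o10, o11, ← hA, ← hB, ← hC, ← hD, hB0, hC0, hDA, e, neg_zero]
  · -- i commutes, j anticommutes
    have e1 := congrArg (fun x : SpecialLinearGroup (Fin 2) K => x.1 0 0) h1
    have e2 := congrArg (fun x : SpecialLinearGroup (Fin 2) K => x.1 0 1) h1
    have f1 := congrArg (fun x : SpecialLinearGroup (Fin 2) K => x.1 0 0) h2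
    have f2 := congrArg (fun x : SpecialLinearGroup (Fin 2) K => x.1 0 1) h2
    simp only [neg_val, a1, a2, a3, a4, b1, b2, b3, b4, c1, c2, c3, c4, d1, d2, d3, d4] at e1 e2 f1 f2
    have hDA : D = A := e2.symm
    have hA0 : A = 0 := eq_two (by linear_combination f2 + e2)
    have hC0 : C = -B := by linear_combination -e1
    have hBB : B * B = 1 := by
      rw [hDA, hA0, hC0] at hd
      linear_combination hd
    rcases RD.RL.sq_one_units hBB with e | e
    · right; right; left
      apply sl_ext <;> simp only [i00, i01, i10, i11, ← hA, ← hB, ← hC, ← hD, hA0, hDA, hC0, e]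
    · right; right; right; left
      apply sl_ext <;> simp only [neg_val, i00, i01, i10, i11, ← hA, ← hB, ← hC, ← hD, hA0, hDA, hC0, e, neg_zero, neg_neg]
  · -- i anticommutes, j commutes
    have e1 := congrArg (fun x : SpecialLinearGroup (Fin 2) K => x.1 0 0) h1
    have e2 := congrArg (fun x : SpecialLinearGroup (Fin 2) K => x.1 0 1) h1
    have f1 := congrArg (fun x : SpecialLinearGroup (Fin 2) K => x.1 0 0) h2
    have f2 := congrArg (fun x : SpecialLinearGroup (Fin 2) K => x.1 0 1) h2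
    simp only [neg_val, a1, a2, a3, a4, b1, b2, b3, b4, c1, c2, c3, c4, d1, d2, d3, d4] at e1 e2 f1 f2
    have hCB : C = B := by linear_combination e1
    have hDA : D = -A := by linear_combination e2
    have hBA : B = A := by
      have : 2 * (B - A) = 0 := by linear_combination -f2 - hDA
      have := eq_two this
      linear_combination this
    have hAA : A * A = 1 := by
      rw [hDA, hCB, hBA] at hd
      linear_combination hd + (A * A) * h3
    rcases RD.RL.sq_one_units hAA with e | e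
    · right; right; right; right; left
      apply sl_ext <;> simp only [j00, j01, j10, j11, ← hA, ← hB, ← hC, ← hD, hCB, hBA, hDA, e]
    · right; right; right; right; right; left
      apply sl_ext <;> simp only [neg_val, j00, j01, j10, j11, ← hA, ← hB, ← hC, ← hD, hCB, hBA, hDA, e, neg_neg]
  · -- i anticommutes, j anticommutes
    have e1 := congrArg (fun x : SpecialLinearGroup (Fin 2) K => x.1 0 0) h1
    have e2 := congrArg (fun x : SpecialLinearGroup (Fin 2) K => x.1 0 1) h1
    have f1 := congrArg (fun x : SpecialLinearGroup (Fin 2) K => x.1 0 0) h2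
    have f2 := congrArg (fun x : SpecialLinearGroup (Fin 2) K => x.1 0 1) h2
    simp only [neg_val, a1, a2, a3, a4, b1, b2, b3, b4, c1, c2, c3, c4, d1, d2, d3, d4] at e1 e2 f1 f2
    have hCB : C = B := by linear_combination e1
    have hDA : D = -A := by linear_combination e2
    have hBA : B = -A := by
      have : 2 * (A + B) = 0 := by linear_combination f1 - hCB
      have := eq_two this
      linear_combination this
    have hAA : A * A = 1 := by
      rw [hDA, hCB, hBA] at hd
      linear_combination hd + (A * A) * h3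
    rcases RD.RL.sq_one_units hAA with e | e
    · right; right; right; right; right; right; left
      apply sl_ext <;> simp only [k00, k01, k10, k11, ← hA, ← hB, ← hC, ← hD, hCB, hBA, hDA, e]
    · right; right; right; right; right; right; right
      apply sl_ext <;> simp only [neg_val, k00, k01, k10, k11, ← hA, ← hB, ← hC, ← hD, hCB, hBA, hDA, e, neg_neg]

/-- No matrix fixes `i` up to sign while sending `j` to `k` up to sign when `-1` is a nonsquare. -/
theorem swap_impossible (hns : ∀ x : K, x * x ≠ -1) (g : SpecialLinearGroup (Fin 2) K)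
    (h1 : g * iE = iE * g ∨ g * iE = -(iE * g)) (h2 : g * jE = kE * g ∨ g * jE = -(kE * g)) : False := by
  have h3 := three_K (K := K)
  have h2' := RD.two_ne (K := K)
  obtain ⟨a1, a2, a3, a4⟩ := mul_i_entries g
  obtain ⟨b1, b2, b3, b4⟩ := i_mul_entries g
  obtain ⟨c1, c2, c3, c4⟩ := mul_j_entries g
  obtain ⟨d1, d2, d3, d4⟩ := k_mul_entries g
  have hd := SL2.Rel.det_eq g
  set A := g.1 0 0 with hA
  set B := g.1 0 1 with hB
  set C := g.1 1 0 with hC
  set D := g.1 1 1 with hD
  have eq_two : ∀ {x : K}, 2 * x = 0 → x = 0 := fun {x} h => (mul_eq_zero.mp h).resolve_left h2'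
  have ext00 : ∀ {x y : SpecialLinearGroup (Fin 2) K}, x = y → x.1 0 0 = y.1 0 0 := fun h => by rw [h]
  have ext01 : ∀ {x y : SpecialLinearGroup (Fin 2) K}, x = y → x.1 0 1 = y.1 0 1 := fun h => by rw [h]
  rcases h1 with h1 | h1 <;> rcases h2 with h2 | h2
  · have e1 := ext00 h1
    have e2 := ext01 h1
    have f2 := ext01 h2
    simp only [neg_val, a1, a2, a3, a4, b1, b2, b3, b4, c1, c2, c3, c4, d1, d2, d3, d4] at e1 e2 f2
    have hAB : A = B := by
      have : 2 * (A - B) = 0 := by linear_combination f2 + e2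
      have := eq_two this
      linear_combination this
    have hDA : D = A := e2.symm
    have hC : C = -B := by linear_combination -e1
    apply hns A
    rw [hDA, hC, ← hAB] at hd
    linear_combination (A * A) * h3 - hd
  · have e1 := ext00 h1
    have e2 := ext01 h1
    have f1 := ext00 h2
    simp only [neg_val, a1, a2, a3, a4, b1, b2, b3, b4, c1, c2, c3, c4, d1, d2, d3, d4] at e1 e2 f1
    have hAB : A = -B := by
      have : 2 * (A + B) = 0 := by linear_combination f1 - e1
      have := eq_two this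
      linear_combination this
    have hDA : D = A := e2.symm
    have hC : C = -B := by linear_combination -e1
    apply hns B
    rw [hDA, hC, hAB] at hd
    linear_combination (B * B) * h3 - hd
  · have e1 := ext00 h1
    have e2 := ext01 h1
    have f1 := ext00 h2
    simp only [neg_val, a1, a2, a3, a4, b1, b2, b3, b4, c1, c2, c3, c4, d1, d2, d3, d4] at e1 e2 f1
    have hCB : C = B := by linear_combination e1
    have hDA : D = -A := by linear_combination e2
    have hB0 : B = 0 := by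
      have : 2 * B = 0 := by linear_combination f1 - hCB
      exact eq_two this
    apply hns A
    rw [hDA, hCB, hB0] at hd
    linear_combination -hd
  · have e1 := ext00 h1
    have e2 := ext01 h1
    have f2 := ext01 h2
    simp only [neg_val, a1, a2, a3, a4, b1, b2, b3, b4, c1, c2, c3, c4, d1, d2, d3, d4] at e1 e2 f2
    have hCB : C = B := by linear_combination e1
    have hDA : D = -A := by linear_combination e2
    have hA0 : A = 0 := by
      have : 2 * A = 0 := by linear_combination f2 + e2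
      exact eq_two this
    apply hns B
    rw [hDA, hCB, hA0] at hd
    linear_combination -hd

theorem upE_val (t : K) : (SL2.Rel.upE t : SpecialLinearGroup (Fin 2) K).1 = !![1, t; 0, 1] := rfl

theorem up_mul_up : (SL2.Rel.upE 1 * SL2.Rel.upE (-1) : SpecialLinearGroup (Fin 2) K) = 1 := by
  apply sl_ext <;> simp [sl_mul_val, upE_val, Matrix.mul_apply, Fin.sum_univ_two]

theorem up_inv : (SL2.Rel.upE 1 : SpecialLinearGroup (Fin 2) K)⁻¹ = SL2.Rel.upE (-1) :=
  inv_eq_of_mul_eq_one_right up_mul_up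

theorem up_i : (SL2.Rel.upE 1 * iE * SL2.Rel.upE (-1) : SpecialLinearGroup (Fin 2) K) = -jE := by
  have h3 := three_K (K := K)
  apply sl_ext <;> simp only [neg_val, sl_mul_val, iE_val, jE_val, upE_val, Matrix.mul_apply, Fin.sum_univ_two] <;> simp <;>
    first | linear_combination h3 | linear_combination (-1 : K) * h3

theorem up_j : (SL2.Rel.upE 1 * jE * SL2.Rel.upE (-1) : SpecialLinearGroup (Fin 2) K) = -kE := by
  have h3 := three_K (K := K)
  apply sl_ext <;> simp only [neg_val, sl_mul_val, kE_val, jE_val, upE_val, Matrix.mul_apply, Fin.sum_univ_two] <;> simp <;>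
    first | linear_combination h3 | linear_combination (-1 : K) * h3

theorem up_k : (SL2.Rel.upE 1 * kE * SL2.Rel.upE (-1) : SpecialLinearGroup (Fin 2) K) = iE := by
  have h3 := three_K (K := K)
  apply sl_ext <;> simp only [sl_mul_val, kE_val, iE_val, upE_val, Matrix.mul_apply, Fin.sum_univ_two] <;> simp <;>
    first | linear_combination h3 | linear_combination (-1 : K) * h3

theorem i_ne (x : K) : (iE : SpecialLinearGroup (Fin 2) K).1 0 0 = 0 := rfl

theorem iE_ne_one : (iE : SpecialLinearGroup (Fin 2) K) ≠ 1 ∧ (iE : SpecialLinearGroup (Fin 2) K) ≠ -1 := by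
  constructor <;> intro h <;>
    · have := congrArg (fun x : SpecialLinearGroup (Fin 2) K => x.1 0 1) h
      simp [neg_val, iE_val] at this

theorem jE_ne_one : (jE : SpecialLinearGroup (Fin 2) K) ≠ 1 ∧ (jE : SpecialLinearGroup (Fin 2) K) ≠ -1 := by
  constructor <;> intro h <;>
    · have := congrArg (fun x : SpecialLinearGroup (Fin 2) K => x.1 0 1) h
      simp [neg_val, jE_val] at this

theorem kE_ne_one : (kE : SpecialLinearGroup (Fin 2) K) ≠ 1 ∧ (kE : SpecialLinearGroup (Fin 2) K) ≠ -1 := by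
  constructor <;> intro h <;>
    · have := congrArg (fun x : SpecialLinearGroup (Fin 2) K => x.1 0 1) h
      simp [neg_val, kE_val] at this

theorem iE_ne_jE : (iE : SpecialLinearGroup (Fin 2) K) ≠ jE ∧ (iE : SpecialLinearGroup (Fin 2) K) ≠ -jE := by
  constructor <;> intro h <;>
    · have := congrArg (fun x : SpecialLinearGroup (Fin 2) K => x.1 0 0) h
      simp [neg_val, jE_val, iE_val] at this

theorem iE_ne_kE : (iE : SpecialLinearGroup (Fin 2) K) ≠ kE ∧ (iE : SpecialLinearGroup (Fin 2) K) ≠ -kE := by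
  constructor <;> intro h <;>
    · have := congrArg (fun x : SpecialLinearGroup (Fin 2) K => x.1 0 0) h
      simp [neg_val, kE_val, iE_val] at this

theorem jE_ne_kE : (jE : SpecialLinearGroup (Fin 2) K) ≠ kE ∧ (jE : SpecialLinearGroup (Fin 2) K) ≠ -kE := by
  constructor
  · intro h
    have := congrArg (fun x : SpecialLinearGroup (Fin 2) K => x.1 0 1) h
    simp [neg_val, kE_val, jE_val] at this
    exact RD.neg_one_ne_one (K := K) this.symm
  · intro h
    have := congrArg (fun x : SpecialLinearGroup (Fin 2) K => x.1 0 0) h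
    simp [neg_val, kE_val, jE_val] at this
    exact RD.neg_one_ne_one (K := K) this.symm

end Q

namespace RD

variable {K : Type*} [Field K] [CharP K 3] {f : K ≃+* K} {G : Type*} [Group G] {R : RD K f G}

namespace RL

variable (L : RL R)

theorem φ_neg (g : SpecialLinearGroup (Fin 2) K) : L.φ (-g) = L.φ g := by
  rw [neg_eq_neg_one_mul, map_mul, L.φ_neg_one, one_mul]

theorem φ_eq {x y : SpecialLinearGroup (Fin 2) K} (h : L.φ x = L.φ y) : x = y ∨ x = -y := by
  have h1 : L.φ (x * y⁻¹) = 1 := by rw [map_mul, map_inv, h, mul_inv_cancel]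
  rcases L.φ_ker h1 with h2 | h2
  · left
    exact mul_inv_eq_one.mp h2
  · right
    have := mul_inv_eq_iff_eq_mul.mp h2
    rw [this, neg_one_mul]

/-- The set of four representatives. -/
def isV (g : SpecialLinearGroup (Fin 2) K) : Prop := g = 1 ∨ g = iE ∨ g = jE ∨ g = kE

theorem φ_i : L.φ iE = R.n := L.φ_w

theorem φ_i_sq : L.φ iE * L.φ iE = 1 := by
  rw [← map_mul, ii, L.φ_neg_one]

theorem φ_j_sq : L.φ jE * L.φ jE = 1 := by
  rw [← map_mul, jj, L.φ_neg_one]

theorem φ_ij_comm : L.φ iE * L.φ jE = L.φ jE * L.φ iE := by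
  rw [← map_mul, ij, L.φ_neg, map_mul]

theorem φ_k : L.φ kE = L.φ iE * L.φ jE := map_mul _ _ _

theorem chi_comm (e : Multiplicative (ZMod 2)) (g : SpecialLinearGroup (Fin 2) K) :
    chiHom (R.h (-1)) (a_sq R) e * L.φ g = L.φ g * chiHom (R.h (-1)) (a_sq R) e := by
  rcases mp2_cases e with rfl | rfl
  · simp
  · rw [chiHom_gen]
    exact L.a_φ g

/-- The part of the elementary abelian group inside the image of `φ`. -/
noncomputable def vG : Multiplicative (ZMod 2) × Multiplicative (ZMod 2) →* G :=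
  MonoidHom.noncommCoprod (chiHom (L.φ iE) L.φ_i_sq) (chiHom (L.φ jE) L.φ_j_sq) (by
    intro e₁ e₂
    rcases mp2_cases e₁ with rfl | rfl
    · simp
    · rcases mp2_cases e₂ with rfl | rfl
      · simp
      · simp only [chiHom_gen]
        exact L.φ_ij_comm)

theorem vG_apply (e₂ e₃ : Multiplicative (ZMod 2)) :
    L.vG (e₂, e₃) = chiHom (L.φ iE) L.φ_i_sq e₂ * chiHom (L.φ jE) L.φ_j_sq e₃ := rfl

theorem vG_form (p : Multiplicative (ZMod 2) × Multiplicative (ZMod 2)) : ∃ v, isV v ∧ L.vG p = L.φ v := by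
  obtain ⟨e₂, e₃⟩ := p
  rw [vG_apply]
  rcases mp2_cases e₂ with rfl | rfl <;> rcases mp2_cases e₃ with rfl | rfl
  · exact ⟨1, Or.inl rfl, by simp⟩
  · exact ⟨jE, Or.inr (Or.inr (Or.inl rfl)), by simp⟩
  · exact ⟨iE, Or.inr (Or.inl rfl), by simp⟩
  · exact ⟨kE, Or.inr (Or.inr (Or.inr rfl)), by simp [φ_k]⟩

theorem vG_surj {v : SpecialLinearGroup (Fin 2) K} (h : isV v) : ∃ p, L.vG p = L.φ v := by
  rcases h with rfl | rfl | rfl | rfl
  · exact ⟨(1, 1), by simp [vG_apply]⟩
  · exact ⟨(Multiplicative.ofAdd 1, 1), by simp [vG_apply]⟩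
  · exact ⟨(1, Multiplicative.ofAdd 1), by simp [vG_apply]⟩
  · exact ⟨(Multiplicative.ofAdd 1, Multiplicative.ofAdd 1), by simp [vG_apply, φ_k]⟩

theorem vG_comm (e : Multiplicative (ZMod 2)) (p : Multiplicative (ZMod 2) × Multiplicative (ZMod 2)) :
    Commute (chiHom (R.h (-1)) (a_sq R) e) (L.vG p) := by
  obtain ⟨v, -, e2⟩ := L.vG_form p
  rw [e2]
  exact L.chi_comm e v

/-- The elementary abelian group as a homomorphic image. -/
noncomputable def psi : Multiplicative (ZMod 2) × (Multiplicative (ZMod 2) × Multiplicative (ZMod 2)) →* G :=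
  MonoidHom.noncommCoprod (chiHom (R.h (-1)) (a_sq R)) L.vG L.vG_comm

theorem psi_apply (e : Multiplicative (ZMod 2)) (p : Multiplicative (ZMod 2) × Multiplicative (ZMod 2)) :
    L.psi (e, p) = chiHom (R.h (-1)) (a_sq R) e * L.vG p := rfl

theorem psi_inj : Function.Injective L.psi := by
  rw [injective_iff_map_eq_one]
  rintro ⟨e, p⟩ hp
  rw [psi_apply] at hp
  rcases mp2_cases e with rfl | rfl
  · rw [chiHom_one, one_mul] at hp
    obtain ⟨e₂, e₃⟩ := p
    rw [vG_apply] at hp
    rcases mp2_cases e₂ with rfl | rfl <;> rcases mp2_cases e₃ with rfl | rfl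
    · rfl
    · exfalso
      simp only [chiHom_one, chiHom_gen, one_mul] at hp
      rcases L.φ_ker hp with h | h
      · exact jE_ne_one.1 h
      · exact jE_ne_one.2 h
    · exfalso
      simp only [chiHom_one, chiHom_gen, mul_one] at hp
      rcases L.φ_ker hp with h | h
      · exact iE_ne_one.1 h
      · exact iE_ne_one.2 h
    · exfalso
      simp only [chiHom_gen] at hp
      rw [← L.φ_k] at hp
      rcases L.φ_ker hp with h | h
      · exact kE_ne_one.1 h
      · exact kE_ne_one.2 h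
  · exfalso
    rw [chiHom_gen] at hp
    obtain ⟨v, -, e2⟩ := L.vG_form p
    rw [e2] at hp
    apply L.a_not_φ v
    have := eq_inv_of_mul_eq_one_right hp
    rw [this]
    exact inv_eq_of_mul_eq_one_left (a_sq R)

/-- The elementary abelian group of order eight. -/
noncomputable def E : Subgroup G := L.psi.range

theorem E_form {x : G} (hx : x ∈ L.E) : ∃ e v, isV v ∧ x = chiHom (R.h (-1)) (a_sq R) e * L.φ v := by
  obtain ⟨⟨e, p⟩, rfl⟩ := hx
  obtain ⟨v, hv, e2⟩ := L.vG_form p
  exact ⟨e, v, hv, by rw [psi_apply, e2]⟩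

theorem E_mem (e : Multiplicative (ZMod 2)) {v : SpecialLinearGroup (Fin 2) K} (hv : isV v) :
    chiHom (R.h (-1)) (a_sq R) e * L.φ v ∈ L.E := by
  obtain ⟨p, hp⟩ := L.vG_surj hv
  exact ⟨(e, p), by rw [psi_apply, hp]⟩

theorem E_mem_v {v : SpecialLinearGroup (Fin 2) K} (hv : isV v) : L.φ v ∈ L.E := by
  have := L.E_mem 1 hv
  rwa [chiHom_one, one_mul] at this

theorem a_mem_E : R.h (-1) ∈ L.E := by
  have := L.E_mem (Multiplicative.ofAdd 1) (v := 1) (Or.inl rfl)
  rwa [chiHom_gen, map_one, mul_one] at this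

theorem card_E : Nat.card L.E = 8 := by
  have e : Nat.card L.E = Nat.card (Multiplicative (ZMod 2) × (Multiplicative (ZMod 2) × Multiplicative (ZMod 2))) :=
    (Nat.card_congr (MonoidHom.ofInjective L.psi_inj).toEquiv).symm
  rw [e]
  simp [Nat.card_prod, Nat.card_eq_fintype_card]

theorem E_sq {x : G} (hx : x ∈ L.E) : x * x = 1 := by
  obtain ⟨p, rfl⟩ := hx
  rw [← map_mul]
  have : p * p = 1 := by
    have h : ∀ e : Multiplicative (ZMod 2), e * e = 1 := by decide
    exact Prod.ext (h _) (Prod.ext (h _) (h _))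
  rw [this, map_one]

theorem E_comm {x y : G} (hx : x ∈ L.E) (hy : y ∈ L.E) : x * y = y * x := by
  obtain ⟨p, rfl⟩ := hx
  obtain ⟨r, rfl⟩ := hy
  rw [← map_mul, ← map_mul, mul_comm]

/-- Elements of `E` in the image of `φ`. -/
theorem E_range {x : G} (hx : x ∈ L.E) {w : SpecialLinearGroup (Fin 2) K} (hw : x = L.φ w) :
    ∃ v, isV v ∧ x = L.φ v := by
  obtain ⟨e, v, hv, rfl⟩ := L.E_form hx
  rcases mp2_cases e with rfl | rfl
  · exact ⟨v, hv, by rw [chiHom_one, one_mul]⟩
  · exfalso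
    rw [chiHom_gen] at hw
    apply L.a_not_φ (w * v⁻¹)
    rw [map_mul, map_inv, ← hw]
    group

/-- `C(E) ≤ E`. -/
theorem cent_E [Finite K] (hsq : ∀ u : Kˣ, (∃ v, u = v * v) ∨ (∃ v, u = -1 * (v * v))) {z : G}
    (hz : ∀ x ∈ L.E, z * x = x * z) : z ∈ L.E := by
  obtain ⟨⟨e, p⟩, rfl⟩ := L.Phi_surj hsq (hz _ L.a_mem_E)
  obtain ⟨g, rfl⟩ := QuotientGroup.mk_surjective p
  rw [Phi_apply] at hz ⊢
  have key : ∀ v, isV v → L.φ g * L.φ v = L.φ v * L.φ g := by
    intro v hv
    have h1 := hz _ (L.E_mem_v hv)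
    have e1 : chiHom (R.h (-1)) (a_sq R) e * L.φ g * L.φ v = chiHom (R.h (-1)) (a_sq R) e * (L.φ g * L.φ v) := by group
    have e2 : L.φ v * (chiHom (R.h (-1)) (a_sq R) e * L.φ g) = chiHom (R.h (-1)) (a_sq R) e * (L.φ v * L.φ g) := by
      rw [← mul_assoc, ← L.chi_comm, mul_assoc]
    rw [e1, e2] at h1
    exact mul_left_cancel h1
  have k1 : L.φ (g * iE) = L.φ (iE * g) := by
    rw [map_mul, map_mul]
    exact key _ (Or.inr (Or.inl rfl))
  have k2 : L.φ (g * jE) = L.φ (jE * g) := by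
    rw [map_mul, map_mul]
    exact key _ (Or.inr (Or.inr (Or.inl rfl)))
  have hV : ∃ v, isV v ∧ L.φ g = L.φ v := by
    rcases comm_cases g (L.φ_eq k1) (L.φ_eq k2) with h | h | h | h | h | h | h | h
    · exact ⟨1, Or.inl rfl, by rw [h]⟩
    · exact ⟨1, Or.inl rfl, by rw [h, φ_neg]⟩
    · exact ⟨iE, Or.inr (Or.inl rfl), by rw [h]⟩
    · exact ⟨iE, Or.inr (Or.inl rfl), by rw [h, φ_neg]⟩
    · exact ⟨jE, Or.inr (Or.inr (Or.inl rfl)), by rw [h]⟩
    · exact ⟨jE, Or.inr (Or.inr (Or.inl rfl)), by rw [h, φ_neg]⟩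
    · exact ⟨kE, Or.inr (Or.inr (Or.inr rfl)), by rw [h]⟩
    · exact ⟨kE, Or.inr (Or.inr (Or.inr rfl)), by rw [h, φ_neg]⟩
  obtain ⟨v, hv, e3⟩ := hV
  rw [e3]
  exact L.E_mem e hv

end RL

end RD

/-- The Sylow 2-subgroups have order eight when `|G| ≡ 8 mod 16`. -/
theorem sylow_card_of_mod {G : Type*} [Group G] [Finite G] (h : Nat.card G % 16 = 8) (S : Sylow 2 G) :
    Nat.card S = 8 := by
  haveI : Fact (Nat.Prime 2) := ⟨Nat.prime_two⟩
  rw [Sylow.card_eq_multiplicity]
  have hn : Nat.card G ≠ 0 := Nat.card_pos.ne'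
  have h1 : 3 ≤ (Nat.card G).factorization 2 := by
    rw [← Nat.prime_two.pow_dvd_iff_le_factorization hn]
    omega
  have h2 : ¬ 4 ≤ (Nat.card G).factorization 2 := by
    rw [← Nat.prime_two.pow_dvd_iff_le_factorization hn]
    omega
  have : (Nat.card G).factorization 2 = 3 := by omega
  rw [this]
  norm_num

theorem card_mod {m : ℕ} : ((1 + (3 ^ (2 * m + 1)) ^ 3) * ((3 ^ (2 * m + 1)) ^ 3 * (3 ^ (2 * m + 1) - 1))) % 16 = 8 := by
  have h : ∃ r, 3 ^ (2 * m + 1) = r + 1 ∧ (r % 16 = 2 ∨ r % 16 = 10) := by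
    induction m with
    | zero => exact ⟨2, by norm_num, Or.inl rfl⟩
    | succ m ih =>
      obtain ⟨r, hr, h2⟩ := ih
      refine ⟨9 * r + 8, ?_, ?_⟩
      · rw [show 2 * (m + 1) + 1 = (2 * m + 1) + 2 by ring, pow_add, hr]
        ring
      · omega
  obtain ⟨r, hr, h2⟩ := h
  rw [hr, Nat.add_sub_cancel]
  rcases h2 with h2 | h2
  · have e : r ≡ 2 [MOD 16] := h2
    have e1 : r + 1 ≡ 3 [MOD 16] := e.add_right 1
    have e2 : (1 + (r + 1) ^ 3) * ((r + 1) ^ 3 * r) ≡ (1 + 3 ^ 3) * (3 ^ 3 * 2) [MOD 16] :=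
      ((e1.pow 3).add_left 1).mul ((e1.pow 3).mul e)
    exact e2
  · have e : r ≡ 10 [MOD 16] := h2
    have e1 : r + 1 ≡ 11 [MOD 16] := e.add_right 1
    have e2 : (1 + (r + 1) ^ 3) * ((r + 1) ^ 3 * r) ≡ (1 + 11 ^ 3) * (11 ^ 3 * 10) [MOD 16] :=
      ((e1.pow 3).add_left 1).mul ((e1.pow 3).mul e)
    exact e2

namespace RD

variable {K : Type*} [Field K] [CharP K 3] {f : K ≃+* K} {G : Type*} [Group G] {R : RD K f G}

namespace RL

variable (L : RL R)

/-- The group `E` as a Sylow 2-subgroup. -/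
noncomputable def sylE [Finite G] (h : Nat.card G % 16 = 8) : haveI : Fact (Nat.Prime 2) := ⟨Nat.prime_two⟩; Sylow 2 G :=
  haveI : Fact (Nat.Prime 2) := ⟨Nat.prime_two⟩
  IsPGroup.toSylow (p := 2) (P := L.E) (by
      apply IsPGroup.of_card (n := 3)
      rw [card_E]
      norm_num) (by
      rw [Subgroup.index_eq_card]
      intro hd
      have h1 := Subgroup.card_mul_index L.E
      rw [card_E] at h1
      obtain ⟨k, hk⟩ := hd
      rw [Subgroup.index_eq_card, hk] at h1
      omega)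

theorem sylE_coe [Finite G] (h : Nat.card G % 16 = 8) : (L.sylE h : Subgroup G) = L.E := rfl

theorem sylow_conj [Finite G] (h : Nat.card G % 16 = 8) (S : Sylow 2 G) :
    ∃ g : G, ∀ x, x ∈ (S : Subgroup G) ↔ g⁻¹ * x * g ∈ L.E := by
  haveI : Fact (Nat.Prime 2) := ⟨Nat.prime_two⟩
  obtain ⟨g, rfl⟩ := MulAction.exists_smul_eq G (L.sylE h) S
  refine ⟨g, fun x => ?_⟩
  change x ∈ MulAut.conj g • ((L.sylE h : Sylow 2 G) : Subgroup G) ↔ _
  rw [Subgroup.mem_pointwise_smul_iff_inv_smul_mem, sylE_coe]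
  simp [MulAut.smul_def, MulAut.conj_inv_apply]

include L in
theorem sylow_sq [Finite G] (h : Nat.card G % 16 = 8) (S : Sylow 2 G) {x : G} (hx : x ∈ (S : Subgroup G)) :
    x * x = 1 := by
  obtain ⟨g, hg⟩ := L.sylow_conj h S
  have h1 := L.E_sq ((hg x).mp hx)
  have e : g⁻¹ * x * g * (g⁻¹ * x * g) = g⁻¹ * (x * x) * g := by group
  rw [e] at h1
  have : x * x = g * (g⁻¹ * (x * x) * g) * g⁻¹ := by group
  rw [this, h1]
  group

end RL

end RD

end Cfsg.Agent.Lib.Ree
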