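import Cfsg.Agent.Lib.Ree.Phi

/-! The centraliser of the involution of the torus. -/

set_option autoImplicit false
set_option linter.unusedSimpArgs false
set_option linter.unusedVariables false
set_option linter.unusedSectionVars false

namespace Cfsg.Agent.Lib.Ree

open Matrix Cfsg.Agent.Lib.Chev

namespace RD

variable {K : Type*} [Field K] [CharP K 3] {f : K ≃+* K} {G : Type*} [Group G]

/-- A copy of `SL₂` in the coordinates. -/
structure RL (R : RD K f G) where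
  φ : SpecialLinearGroup (Fin 2) K →* G
  φ_up : ∀ t, φ (SL2.Rel.upE t) = R.t 0 t 0
  φ_w : φ SL2.Rel.wE = R.n
  φ_d : ∀ x (hx : x ≠ 0), ∃ s, φ (SL2.Rel.dE x hx) = R.h s

variable {R : RD K f G} (L : RL R)

namespace RL

theorem up_conj (x : K) (hx : x ≠ 0) (t : K) : SL2.Rel.dE x hx * SL2.Rel.upE t * (SL2.Rel.dE x hx)⁻¹ = SL2.Rel.upE (x * x * t) := by
  have e : SL2.Rel.dE x hx * SL2.Rel.upE t = SL2.Rel.upE (x * x * t) * SL2.Rel.dE x hx := by
    apply Subtype.ext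
    show !![x, 0; 0, x⁻¹] * !![1, t; 0, 1] = !![1, x * x * t; 0, 1] * !![x, 0; 0, x⁻¹]
    ext i j
    fin_cases i <;> fin_cases j <;> simp [Matrix.mul_apply, Fin.sum_univ_two]
    field_simp
  rw [e]
  group

/-- The scaling through `φ`. -/
theorem chi_d {x : K} {hx : x ≠ 0} {s : Kˣ} (h : L.φ (SL2.Rel.dE x hx) = R.h s) :
    ((c1 f s : Kˣ) : K) * tau f ((c1 f s : Kˣ) : K) = x * x := by
  have h1 := congrArg L.φ (up_conj x hx 1)
  rw [map_mul, map_mul, map_inv, h, L.φ_up, L.φ_up, R.h_t'] at h1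
  obtain ⟨-, e2, -⟩ := R.t_inj h1
  rw [mul_one, mul_one] at e2
  exact e2

theorem minus_one_eq : (SL2.Rel.wE * SL2.Rel.wE : SpecialLinearGroup (Fin 2) K) = -1 := by
  apply Subtype.ext
  rw [SpecialLinearGroup.coe_neg]
  change !![0, 1; -1, 0] * !![0, 1; -1, 0] = -(1 : Matrix (Fin 2) (Fin 2) K)
  ext i j
  fin_cases i <;> fin_cases j <;> simp [Matrix.mul_apply, Fin.sum_univ_two]

theorem φ_neg_one : L.φ (-1) = 1 := by
  rw [← minus_one_eq, map_mul, L.φ_w, R.n_sq]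

/-- The normal form of the image of a matrix in the big cell. -/
theorem φ_big (g : SpecialLinearGroup (Fin 2) K) (hc : g.1 1 0 ≠ 0) :
    ∃ y s y', L.φ g = R.t 0 y 0 * R.h s * R.n * R.t 0 y' 0 := by
  obtain ⟨s, hs⟩ := L.φ_d (-(g.1 1 0)⁻¹) (neg_ne_zero.mpr (inv_ne_zero hc))
  refine ⟨g.1 0 0 / g.1 1 0, s, g.1 1 1 / g.1 1 0, ?_⟩
  conv_lhs => rw [SL2.Rel.decomp g hc]
  rw [map_mul, map_mul, map_mul, L.φ_up, L.φ_up, L.φ_w, hs]

/-- The normal form of the image of a triangular matrix. -/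
theorem φ_tri (g : SpecialLinearGroup (Fin 2) K) (hc : g.1 1 0 = 0) :
    ∃ y s, L.φ g = R.t 0 y 0 * R.h s ∧ L.φ (SL2.Rel.dE (g.1 0 0) (SL2.Rel.A_ne g hc)) = R.h s ∧ y = g.1 0 0 * g.1 0 1 := by
  obtain ⟨s, hs⟩ := L.φ_d (g.1 0 0) (SL2.Rel.A_ne g hc)
  refine ⟨_, s, ?_, hs, rfl⟩
  conv_lhs => rw [SL2.Rel.decomp0 g hc (SL2.Rel.A_ne g hc)]
  rw [map_mul, L.φ_up, hs]

/-- Elements in the big cell map outside `B`. -/
theorem φ_big_not_B (g : SpecialLinearGroup (Fin 2) K) (hc : g.1 1 0 ≠ 0) : L.φ g ∉ R.B := by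
  obtain ⟨y, s, y', e⟩ := L.φ_big g hc
  rw [e]
  intro h
  apply R.n_not_B
  have e2 : R.n = (R.t 0 y 0 * R.h s)⁻¹ * (R.t 0 y 0 * R.h s * R.n * R.t 0 y' 0) * (R.t 0 y' 0)⁻¹ := by group
  rw [e2]
  exact Subgroup.mul_mem _ (Subgroup.mul_mem _ (Subgroup.inv_mem _ (Subgroup.mul_mem _ (R.t_mem_B _ _ _) (R.h_mem_B _))) h)
    (Subgroup.inv_mem _ (R.t_mem_B _ _ _))

omit [CharP K 3] in
theorem sq_one_units {x : K} (h : x * x = 1) : x = 1 ∨ x = -1 := by
  have h1 : (x - 1) * (x + 1) = 0 := by linear_combination h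
  rcases mul_eq_zero.mp h1 with h2 | h2
  · exact Or.inl (sub_eq_zero.mp h2)
  · exact Or.inr (eq_neg_of_add_eq_zero_left h2)

/-- A triangular matrix whose image in `B` has trivial unipotent part and diagonal part `±1` is central. -/
theorem tri_central (g : SpecialLinearGroup (Fin 2) K) (hc : g.1 1 0 = 0) (hb : g.1 0 1 = 0) (ha : g.1 0 0 * g.1 0 0 = 1) :
    g = 1 ∨ g = -1 := by
  have hd := SL2.Rel.det_eq g
  rw [hc, hb] at hd
  have hA := SL2.Rel.A_ne g hc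
  have hD : g.1 1 1 = g.1 0 0 := by
    have : g.1 0 0 * g.1 1 1 = g.1 0 0 * g.1 0 0 := by
      rw [ha]
      linear_combination hd
    exact mul_left_cancel₀ hA this
  rcases sq_one_units ha with h | h
  · left
    apply Subtype.ext
    ext i j
    fin_cases i <;> fin_cases j <;> simp [h, hc, hb, hD]
  · right
    apply Subtype.ext
    rw [SpecialLinearGroup.coe_neg]
    ext i j
    fin_cases i <;> fin_cases j <;> simp [h, hc, hb, hD]

/-- The kernel of `φ`. -/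
theorem φ_ker {g : SpecialLinearGroup (Fin 2) K} (h : L.φ g = 1) : g = 1 ∨ g = -1 := by
  by_cases hc : g.1 1 0 = 0
  · obtain ⟨y, s, e, es, ey⟩ := L.φ_tri g hc
    rw [h] at e
    have e1 : R.t 0 0 0 * R.h 1 = R.t 0 y 0 * R.h s := by
      rw [R.t_zero, map_one, one_mul, ← e]
    obtain ⟨⟨-, e2, -⟩, rfl⟩ := R.tB_inj e1
    have hA := SL2.Rel.A_ne g hc
    have hb : g.1 0 1 = 0 := by
      rw [ey] at e2
      exact (mul_eq_zero.mp e2.symm).resolve_left hA
    have hchi := L.chi_d es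
    rw [map_one] at hchi
    have e3 : g.1 0 0 * g.1 0 0 = 1 := by
      rw [← hchi]
      simp
    exact tri_central g hc hb e3
  · exact absurd (by rw [h]; exact Subgroup.one_mem _) (L.φ_big_not_B g hc)

theorem neg_ne_one_sl : (-1 : SpecialLinearGroup (Fin 2) K) ≠ 1 := by
  intro h
  have h1 := congrArg (fun g : SpecialLinearGroup (Fin 2) K => g.1 0 0) h
  simp [SpecialLinearGroup.coe_neg] at h1
  have h2 : (2 : K) = 0 := by linear_combination -h1
  exact two_ne h2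

/-- `a` commutes with the image of `φ`. -/
theorem a_t (y : K) : R.h (-1) * R.t 0 y 0 = R.t 0 y 0 * R.h (-1) := by
  rw [R.h_mul_t]
  congr 2
  · simp
  · simp
    norm_num
  · simp

theorem a_n : R.h (-1) * R.n = R.n * R.h (-1) := by
  rw [R.h_mul_n, inv_neg, inv_one]

omit [CharP K 3] in
theorem h_comm (s s' : Kˣ) : R.h s * R.h s' = R.h s' * R.h s := by
  rw [← map_mul, ← map_mul, mul_comm]

theorem a_φ (g : SpecialLinearGroup (Fin 2) K) : R.h (-1) * L.φ g = L.φ g * R.h (-1) := by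
  by_cases hc : g.1 1 0 = 0
  · obtain ⟨y, s, e, -, -⟩ := L.φ_tri g hc
    rw [e, ← mul_assoc, a_t, mul_assoc, h_comm, mul_assoc]
  · obtain ⟨y, s, y', e⟩ := L.φ_big g hc
    rw [e]
    calc R.h (-1) * (R.t 0 y 0 * R.h s * R.n * R.t 0 y' 0) = (R.h (-1) * R.t 0 y 0) * R.h s * R.n * R.t 0 y' 0 := by group
      _ = R.t 0 y 0 * (R.h (-1) * R.h s) * R.n * R.t 0 y' 0 := by rw [a_t]; group
      _ = R.t 0 y 0 * R.h s * (R.h (-1) * R.n) * R.t 0 y' 0 := by rw [h_comm]; group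
      _ = R.t 0 y 0 * R.h s * R.n * (R.h (-1) * R.t 0 y' 0) := by rw [a_n]; group
      _ = _ := by rw [a_t]; group

/-- `a` is outside the image of `φ`. -/
theorem a_not_φ (g : SpecialLinearGroup (Fin 2) K) : L.φ g ≠ R.h (-1) := by
  intro h
  by_cases hc : g.1 1 0 = 0
  · obtain ⟨y, s, e, es, ey⟩ := L.φ_tri g hc
    rw [h] at e
    have e1 : R.t 0 0 0 * R.h (-1) = R.t 0 y 0 * R.h s := by
      rw [R.t_zero, one_mul, e]
    obtain ⟨⟨-, e2, -⟩, rfl⟩ := R.tB_inj e1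
    have hA := SL2.Rel.A_ne g hc
    have hb : g.1 0 1 = 0 := by
      rw [ey] at e2
      exact (mul_eq_zero.mp e2.symm).resolve_left hA
    have hchi := L.chi_d es
    rw [c1_neg_one, tau_neg, tau_one] at hchi
    have e3 : g.1 0 0 * g.1 0 0 = 1 := by
      rw [← hchi]
      ring
    rcases tri_central g hc hb e3 with rfl | rfl
    · rw [map_one] at h
      exact unit_neg_one_ne_one (R.h_inj (by rw [← h, map_one]))
    · rw [L.φ_neg_one] at h
      exact unit_neg_one_ne_one (R.h_inj (by rw [← h, map_one]))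
  · exact L.φ_big_not_B g hc (by rw [h]; exact R.h_mem_B _)

/-- The form of the torus. -/
theorem h_form [Finite K] (hsq : ∀ u : Kˣ, (∃ v, u = v * v) ∨ (∃ v, u = -1 * (v * v))) (s : Kˣ) :
    ∃ (x : K) (hx : x ≠ 0), R.h s = L.φ (SL2.Rel.dE x hx) ∨ R.h s = R.h (-1) * L.φ (SL2.Rel.dE x hx) := by
  have hf3 := R.hf3
  have hv : ∃ v : Kˣ, ((c1 f s : Kˣ) : K) * tau f ((c1 f s : Kˣ) : K) = ((v : K) * tau f (v : K)) * ((v : K) * tau f (v : K)) := by
    rcases hsq (c1 f s) with ⟨v, hv⟩ | ⟨v, hv⟩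
    · refine ⟨v, ?_⟩
      rw [hv, Units.val_mul, tau_mul]
      ring
    · refine ⟨v, ?_⟩
      rw [hv, Units.val_mul, Units.val_mul, tau_mul, tau_mul]
      simp only [Units.val_neg, Units.val_one, tau_neg, tau_one]
      ring
  obtain ⟨v, hv⟩ := hv
  have hx : (v : K) * tau f (v : K) ≠ 0 := mul_ne_zero v.ne_zero (tau_ne_zero f v.ne_zero)
  obtain ⟨s', hs'⟩ := L.φ_d _ hx
  have h1 := L.chi_d hs'
  refine ⟨_, hx, ?_⟩
  rw [hs']
  -- the quotient
  set u := s * s'⁻¹ with hu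
  have hs : s = u * s' := by rw [hu]; group
  have h2 : ((c1 f u : Kˣ) : K) * tau f ((c1 f u : Kˣ) : K) = 1 := by
    have e1 : ((c1 f s : Kˣ) : K) = ((c1 f u : Kˣ) : K) * ((c1 f s' : Kˣ) : K) := by
      rw [hs, map_mul, Units.val_mul]
    have h5 : ((c1 f s' : Kˣ) : K) * tau f ((c1 f s' : Kˣ) : K) ≠ 0 :=
      mul_ne_zero (Units.ne_zero _) (tau_ne_zero f (Units.ne_zero _))
    apply mul_right_cancel₀ h5
    calc ((c1 f u : Kˣ) : K) * tau f ((c1 f u : Kˣ) : K) * (((c1 f s' : Kˣ) : K) * tau f ((c1 f s' : Kˣ) : K))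
        = (((c1 f u : Kˣ) : K) * ((c1 f s' : Kˣ) : K)) * tau f (((c1 f u : Kˣ) : K) * ((c1 f s' : Kˣ) : K)) := by
          rw [tau_mul]
          ring
      _ = ((c1 f s : Kˣ) : K) * tau f ((c1 f s : Kˣ) : K) := by rw [e1]
      _ = _ := by rw [hv, h1, one_mul]
  have h3 : (u : K) ^ 2 = 1 := by
    by_contra h4
    have k2 := Cfsg.Agent.Lib.Chev.TwG2.chi2 f hf3 h4
    rw [c2_eq hf3] at k2
    exact k2 h2
  rcases units_sq h3 with e | e
  · left
    rw [hs, e, one_mul]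
  · right
    rw [hs, e, map_mul]

end RL

end RD

end Cfsg.Agent.Lib.Ree
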