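import Cfsg.Agent.Lib.Ree.CA

/-! The copy of `SL₂` inside the concrete small Ree group. -/

set_option autoImplicit false
set_option linter.unusedSimpArgs false
set_option linter.unusedVariables false
set_option linter.unusedSectionVars false

namespace Cfsg.Agent.Lib.Ree

open Cfsg Cfsg.Lie Matrix Cfsg.Agent.Lib.Chev Cfsg.Agent.Lib.Chev.TwG2

variable {K : Type*} [Field K] [CharP K 3] (f : K ≃+* K) (hf3 : ∀ t, f (f t) ^ 3 = t)
  (hsq : ∀ u : Kˣ, (∃ v, u = v * v) ∨ (∃ v, u = -1 * (v * v)))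

/-- The copy of `SL₂` in the concrete group. -/
noncomputable def rl [Fintype K] : (rd f hf3 hsq).RL where
  φ := (phi f).codRestrict _ (phi_mem f hf3)
  φ_up t := Subtype.ext (phi_up f t)
  φ_w := Subtype.ext (phi_w f)
  φ_d x hx := (rd_mem_H f hf3 hsq _).mp (phi_d f x hx)

end Cfsg.Agent.Lib.Ree
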