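import Cfsg.Agent.Lib.Ree.CntH

/-! Inverting elements for non-split tori of `SL₂`. -/

set_option autoImplicit false
set_option linter.unusedSimpArgs false
set_option linter.unusedVariables false
set_option linter.unusedSectionVars false

namespace Cfsg.Agent.Lib.Ree

open Matrix Polynomial

section SL

variable {K : Type*} [Field K] [Fintype K]

omit [Fintype K] in
theorem tau_sq_ne (h2 : (2 : K) ≠ 0) {t : K} (hno : ∀ u : K, u ^ 2 + t * u + 1 ≠ 0) : t ^ 2 - 4 ≠ 0 := by
  intro h
  apply hno (-t / 2)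
  have h4 : (2 : K) * 2⁻¹ = 1 := mul_inv_cancel₀ h2
  simp only [div_eq_mul_inv]
  linear_combination ((2⁻¹) ^ 2 - 2⁻¹) * h + (2 * 2⁻¹ - 1) * h4

/-- Solutions of `-X² + d Z² = 1`. -/
theorem exists_norm_form (hodd : Fintype.card K % 2 = 1) {d : K} (hd : d ≠ 0) : ∃ X Z : K, -X ^ 2 + d * Z ^ 2 = 1 := by
  have hf : degree (C (-1 : K) * X ^ 2 + C 0 * X + C 0) = 2 := degree_quadratic (by simp)
  have hg : degree (C d * X ^ 2 + C 0 * X + C (-1 : K)) = 2 := degree_quadratic hd
  obtain ⟨a, b, hab⟩ := FiniteField.exists_root_sum_quadratic hf hg hodd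
  refine ⟨a, b, ?_⟩
  simp at hab
  linear_combination hab

/-- A non-split element is conjugate to its inverse in `SL₂`. -/
theorem exists_invert (hodd : Fintype.card K % 2 = 1) (h2 : (2 : K) ≠ 0) (g : SpecialLinearGroup (Fin 2) K)
    (hno : ∀ u : K, u ^ 2 + (g.1 0 0 + g.1 1 1) * u + 1 ≠ 0) : ∃ i : SpecialLinearGroup (Fin 2) K, i * g * i⁻¹ = g⁻¹ := by
  have hc := c_ne g hno
  have hdet := g.2
  rw [Matrix.det_fin_two] at hdet
  set A := g.1 0 0 with hA
  set B := g.1 0 1 with hB
  set C' := g.1 1 0 with hC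
  set D := g.1 1 1 with hD
  have hci : C' * C'⁻¹ = 1 := mul_inv_cancel₀ hc
  obtain ⟨X, Z, hXZ⟩ := exists_norm_form hodd (tau_sq_ne h2 hno)
  set x := X - Z * (D - A) with hx
  set z := 2 * C' * Z with hz
  set y := x * (D - A) * C'⁻¹ - 2 * B * Z with hy
  have hdi : (!![x, y; z, -x] : Matrix (Fin 2) (Fin 2) K).det = 1 := by
    rw [Matrix.det_fin_two_of]
    rw [hy, hz, hx]
    linear_combination hXZ + (-2) * (X - Z * (D - A)) * (D - A) * Z * hci + (-4 * Z ^ 2) * hdet
  let i : SpecialLinearGroup (Fin 2) K := ⟨!![x, y; z, -x], hdi⟩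
  refine ⟨i, ?_⟩
  rw [mul_inv_eq_iff_eq_mul]
  apply Subtype.ext
  rw [Matrix.SpecialLinearGroup.coe_mul, Matrix.SpecialLinearGroup.coe_mul, Matrix.SpecialLinearGroup.coe_inv,
    Matrix.adjugate_fin_two]
  show !![x, y; z, -x] * g.1 = !![g.1 1 1, -g.1 0 1; -g.1 1 0, g.1 0 0] * !![x, y; z, -x]
  have e : g.1 = !![A, B; C', D] := by
    ext i j
    fin_cases i <;> fin_cases j <;> rfl
  rw [e]
  ext i j
  fin_cases i <;> fin_cases j <;> simp [Matrix.mul_apply, Fin.sum_univ_two]
  · rw [hy, hz]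
    linear_combination x * (D - A) * hci
  · ring
  · ring
  · rw [hy, hz]
    linear_combination x * (D - A) * hci

/-- A conjugate of a non-split element that commutes with it is the element or its inverse. -/
theorem conj_cases (h2 : (2 : K) ≠ 0) (g b : SpecialLinearGroup (Fin 2) K)
    (hno : ∀ u : K, u ^ 2 + (g.1 0 0 + g.1 1 1) * u + 1 ≠ 0)
    (hc : (b * g * b⁻¹) * g = g * (b * g * b⁻¹)) : b * g * b⁻¹ = g ∨ b * g * b⁻¹ = g⁻¹ := by
  have hc0 := c_ne g hno
  set ζ := b * g * b⁻¹ with hζ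
  obtain ⟨α, β, e⟩ := comm_form g.1 ζ.1 hc0 (congrArg Subtype.val hc)
  have hdetz : α ^ 2 + (g.1 0 0 + g.1 1 1) * α * β + β ^ 2 = 1 := by
    rw [← det_comb, ← e]
    exact ζ.2
  have htr : (ζ.1).trace = (g.1).trace := by
    rw [hζ, Matrix.SpecialLinearGroup.coe_mul, Matrix.SpecialLinearGroup.coe_mul, Matrix.trace_mul_comm, ← Matrix.mul_assoc,
      ← Matrix.SpecialLinearGroup.coe_mul, inv_mul_cancel]
    simp
  have htr2 : 2 * α + β * (g.1 0 0 + g.1 1 1) = g.1 0 0 + g.1 1 1 := by
    rw [e] at htr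
    simp [Matrix.trace_fin_two] at htr
    linear_combination htr
  set t := g.1 0 0 + g.1 1 1 with ht
  have hne := tau_sq_ne h2 hno
  have key : (t ^ 2 - 4) * ((β - 1) * (β + 1)) = 0 := by
    linear_combination (-4) * hdetz + (2 * α + t * β + t) * htr2
  rcases mul_eq_zero.mp ((mul_eq_zero.mp key).resolve_left hne) with h | h
  · left
    have hβ : β = 1 := by linear_combination h
    subst hβ
    have hα : α = 0 := by
      have : 2 * α = 0 := by linear_combination htr2
      exact (mul_eq_zero.mp this).resolve_left h2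
    subst hα
    apply Subtype.ext
    rw [e]
    simp
  · right
    have hβ : β = -1 := by linear_combination h
    subst hβ
    have hα : α = t := by
      have : 2 * (α - t) = 0 := by linear_combination htr2
      have := (mul_eq_zero.mp this).resolve_left h2
      linear_combination this
    subst hα
    apply Subtype.ext
    rw [e, Matrix.SpecialLinearGroup.coe_inv, Matrix.adjugate_fin_two]
    have hd := g.2
    ext i j
    fin_cases i <;> fin_cases j <;> simp [ht] <;> ring

/-- Lift of commutation from `PSL₂` for elements of odd order. -/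
theorem lift_comm (h2 : (2 : K) ≠ 0) (g h : SpecialLinearGroup (Fin 2) K) {l : ℕ} (hl : Odd l) (hg : g ^ l = 1)
    (hx : (QuotientGroup.mk (h * g) : ProjectiveSpecialLinearGroup (Fin 2) K) = QuotientGroup.mk (g * h)) : h * g = g * h := by
  rw [QuotientGroup.eq] at hx
  rcases center_cases hx with h3 | h3
  · exact inv_mul_eq_one.mp h3
  · exfalso
    rw [inv_mul_eq_iff_eq_mul] at h3
    have e1 : h⁻¹ * g * h = -g := by
      rw [mul_assoc, h3]
      apply Subtype.ext
      simp [Matrix.SpecialLinearGroup.coe_neg]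
    have e2 : (h⁻¹ * g * h) ^ l = 1 := by
      have := conj_pow (a := h⁻¹) (b := g) (i := l)
      simp only [inv_inv] at this
      rw [this, hg]
      simp
    rw [e1, neg_pow_odd g hl, hg] at e2
    exact neg_one_ne_one_SL h2 e2

end SL

end Cfsg.Agent.Lib.Ree
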