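import Cfsg.Agent.Lib.Ree.CntC

/-! Abstract facts on normal subgroups of finite solvable groups, and on conjugates of subgroups. -/

set_option autoImplicit false
set_option linter.unusedSimpArgs false
set_option linter.unusedVariables false
set_option linter.unusedSectionVars false

namespace Cfsg.Agent.Lib.Ree

open scoped commutatorElement
section Abs

variable {Γ : Type*} [Group Γ] [Finite Γ]

/-- A nontrivial finite solvable group has a nontrivial normal `r`-subgroup. -/
theorem exists_normal_prime [Group.IsSolvable Γ] [Nontrivial Γ] :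
    ∃ (r : ℕ) (P : Subgroup Γ), r.Prime ∧ P.Normal ∧ P ≠ ⊥ ∧ IsPGroup r P := by
  classical
  obtain ⟨n, hn⟩ := (inferInstance : Group.IsSolvable Γ).solvable
  have hex : ∃ k, derivedSeries Γ k = ⊥ := ⟨n, hn⟩
  have h0 : Nat.find hex ≠ 0 := by
    intro h
    have h1 := Nat.find_spec hex
    rw [h, derivedSeries_zero] at h1
    exact top_ne_bot h1
  obtain ⟨j, hj⟩ : ∃ j, Nat.find hex = j + 1 := ⟨Nat.find hex - 1, by omega⟩
  have hA : derivedSeries Γ j ≠ ⊥ := Nat.find_min hex (by omega)
  have hB : derivedSeries Γ (j + 1) = ⊥ := by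
    rw [← hj]
    exact Nat.find_spec hex
  obtain ⟨A, hAe⟩ : ∃ A, A = derivedSeries Γ j := ⟨_, rfl⟩
  rw [← hAe] at hA
  haveI hNA : A.Normal := by
    rw [hAe]
    exact derivedSeries_normal _ _
  have hcomm : ∀ u ∈ A, ∀ v ∈ A, u * v = v * u := by
    intro u hu v hv
    have h1 : ⁅u, v⁆ ∈ ⁅A, A⁆ := Subgroup.commutator_mem_commutator hu hv
    rw [hAe, ← derivedSeries_succ, hB, Subgroup.mem_bot] at h1
    exact commutatorElement_eq_one_iff_mul_comm.mp h1
  have hc1 : Nat.card A ≠ 1 := by
    intro h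
    exact hA ((Subgroup.card_eq_one).mp h)
  obtain ⟨r, hr, hrd⟩ := Nat.exists_prime_and_dvd hc1
  haveI : Fact r.Prime := ⟨hr⟩
  obtain ⟨z, hz⟩ := exists_prime_orderOf_dvd_card' (G := A) r hrd
  refine ⟨r, tors A hcomm r, hr, ?_, ?_, ?_⟩
  · constructor
    rintro x ⟨hx, hx'⟩ g
    refine ⟨hNA.conj_mem x hx g, ?_⟩
    rw [conj_pow, hx']
    group
  · intro h
    have h1 : z.1 ∈ tors A hcomm r := by
      refine ⟨z.2, ?_⟩
      have : z ^ r = 1 := by rw [← hz]; exact pow_orderOf_eq_one z
      simpa using congrArg Subtype.val this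
    rw [h, Subgroup.mem_bot] at h1
    have h2 : z = 1 := Subtype.ext h1
    rw [h2, orderOf_one] at hz
    exact hr.one_lt.ne hz
  · rintro ⟨x, hx⟩
    exact ⟨1, Subtype.ext (by simpa using hx.2)⟩

/-- If the biggest normal `2`-subgroup has order at most two and is not everything, then there is a normal `r`-subgroup
for an odd prime `r`. -/
theorem exists_odd_normal [Group.IsSolvable Γ] (Q : Subgroup Γ) [Q.Normal] (hQ : IsPGroup 2 Q) (hc : Nat.card Q ≤ 2)
    (hmax : ∀ Q' : Subgroup Γ, Q'.Normal → IsPGroup 2 Q' → Nat.card Q' ≤ Nat.card Q) (hne : Q ≠ ⊤) :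
    ∃ (r : ℕ) (P : Subgroup Γ), r.Prime ∧ r ≠ 2 ∧ P.Normal ∧ P ≠ ⊥ ∧ IsPGroup r P := by
  classical
  haveI : Nontrivial (Γ ⧸ Q) := QuotientGroup.nontrivial_iff.mpr hne
  obtain ⟨r, P₀, hr, hNP, hPb, hPp⟩ := exists_normal_prime (Γ := Γ ⧸ Q)
  haveI : Fact r.Prime := ⟨hr⟩
  obtain ⟨D, hDe⟩ : ∃ D, D = P₀.comap (QuotientGroup.mk' Q) := ⟨_, rfl⟩
  haveI hND : D.Normal := by
    rw [hDe]
    exact hNP.comap _
  have hidx : D.index = P₀.index := by
    rw [hDe]
    exact Subgroup.index_comap_of_surjective _ (QuotientGroup.mk'_surjective Q)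
  have hcard : Nat.card D = Nat.card Q * Nat.card P₀ := by
    have h1 := D.card_mul_index
    have h2 := P₀.card_mul_index
    have h3 := Q.card_mul_index
    rw [Subgroup.index_eq_card] at h3
    have h4 : 0 < D.index := Nat.pos_of_ne_zero (Subgroup.index_ne_zero_of_finite)
    apply Nat.eq_of_mul_eq_mul_right h4
    rw [h1, hidx, mul_assoc, h2, h3]
  obtain ⟨k, hk⟩ := IsPGroup.iff_card.mp hPp
  have hk0 : k ≠ 0 := by
    rintro rfl
    rw [pow_zero] at hk
    exact hPb (Subgroup.card_eq_one.mp hk)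
  have hr2 : r ≠ 2 := by
    rintro rfl
    have hp : IsPGroup 2 D := by
      haveI : Fact (Nat.Prime 2) := ⟨Nat.prime_two⟩
      obtain ⟨a, ha⟩ := IsPGroup.iff_card.mp hQ
      apply IsPGroup.of_card (n := a + k)
      rw [hcard, ha, hk, pow_add]
    have h1 := hmax D hND hp
    rw [hcard, hk] at h1
    have h2 : 2 ≤ 2 ^ k := by
      calc 2 = 2 ^ 1 := by norm_num
        _ ≤ 2 ^ k := Nat.pow_le_pow_right (by norm_num) (by omega)
    have h3 : 0 < Nat.card Q := Nat.card_pos
    nlinarith
  obtain ⟨S⟩ : Nonempty (Sylow r D) := inferInstance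
  have hS1 := (S : Subgroup D).card_mul_index
  have hS2 := S.not_dvd_index
  obtain ⟨j, hj⟩ := IsPGroup.iff_card.mp S.isPGroup'
  rw [hcard, hk, hj] at hS1
  have hco : Nat.Coprime (S : Subgroup D).index (r ^ k) := by
    apply Nat.Coprime.pow_right
    exact ((Nat.Prime.coprime_iff_not_dvd hr).mpr hS2).symm
  have hid : (S : Subgroup D).index ∣ Nat.card Q := by
    apply hco.dvd_of_dvd_mul_right
    exact ⟨r ^ j, by rw [← hS1]; ring⟩
  have hid2 : (S : Subgroup D).index ≤ 2 := (Nat.le_of_dvd Nat.card_pos hid).trans hc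
  have hi0 : (S : Subgroup D).index ≠ 0 := Subgroup.index_ne_zero_of_finite
  have hSn : (S : Subgroup D).Normal := by
    have : (S : Subgroup D).index = 1 ∨ (S : Subgroup D).index = 2 := by omega
    rcases this with h | h
    · rw [Subgroup.index_eq_one] at h
      rw [h]
      infer_instance
    · exact Subgroup.normal_of_index_eq_two h
  have hch : (S : Subgroup D).Characteristic := Sylow.characteristic_of_normal S hSn
  have hj0 : j ≠ 0 := by
    rintro rfl
    rw [pow_zero, one_mul] at hS1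
    rw [hS1] at hid2
    have h2 : r ^ 1 ≤ r ^ k := Nat.pow_le_pow_right hr.pos (by omega)
    have h3 := hr.two_le
    have h4 : 0 < Nat.card Q := Nat.card_pos
    have h5 : r ≤ Nat.card Q * r ^ k := by
      rw [pow_one] at h2
      nlinarith
    omega
  refine ⟨r, (S : Subgroup D).map D.subtype, hr, hr2, ConjAct.normal_of_characteristic_of_normal, ?_, ?_⟩
  · intro h
    rw [Subgroup.map_eq_bot_iff_of_injective _ D.subtype_injective] at h
    rw [h] at hj
    have h6 : Nat.card (⊥ : Subgroup D) = 1 := Subgroup.card_bot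
    rw [h6] at hj
    have h7 : 1 < r ^ j := Nat.one_lt_pow hj0 hr.one_lt
    omega
  · exact S.isPGroup'.map _

end Abs

section ConjS

variable {G : Type*} [Group G]

/-- The conjugate of a subgroup. -/
def conjS (c : G) (A : Subgroup G) : Subgroup G := A.map (MulAut.conj c).toMonoidHom

theorem mem_conjS {c : G} {A : Subgroup G} {x : G} : x ∈ conjS c A ↔ c⁻¹ * x * c ∈ A := by
  unfold conjS
  constructor
  · rintro ⟨y, hy, rfl⟩
    have e : c⁻¹ * ((MulAut.conj c).toMonoidHom y) * c = y := by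
      simp [MulAut.conj_apply]
      group
    rw [e]
    exact hy
  · intro h
    refine ⟨_, h, ?_⟩
    simp [MulAut.conj_apply]
    group

theorem card_conjS (c : G) (A : Subgroup G) : Nat.card (conjS c A) = Nat.card A := by
  unfold conjS
  exact Nat.card_congr (Subgroup.equivMapOfInjective A _ (MulAut.conj c).injective).toEquiv.symm

theorem cyc_conjS (c : G) {A : Subgroup G} (h : IsCyclic A) : IsCyclic (conjS c A) := by
  unfold conjS
  exact (MulEquiv.isCyclic (Subgroup.equivMapOfInjective A _ (MulAut.conj c).injective)).mp h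

/-- The transport of the inclusion of normalisers. -/
theorem norm_conjS {c : G} {A F : Subgroup G} (h : ∀ n, n ∈ Subgroup.normalizer (conjS c F : Set G) → n ∈ Subgroup.normalizer (A : Set G)) :
    Subgroup.normalizer (F : Set G) ≤ Subgroup.normalizer (conjS c⁻¹ A : Set G) := by
  intro n hn
  have h1 : c * n * c⁻¹ ∈ Subgroup.normalizer (conjS c F : Set G) := by
    rw [Subgroup.mem_normalizer_iff] at hn ⊢
    intro x
    simp only [SetLike.mem_coe, mem_conjS] at hn ⊢
    have := hn (c⁻¹ * x * c)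
    have e : c⁻¹ * (c * n * c⁻¹ * x * (c * n * c⁻¹)⁻¹) * c = n * (c⁻¹ * x * c) * n⁻¹ := by group
    rw [e]
    exact this
  have h2 := h _ h1
  rw [Subgroup.mem_normalizer_iff] at h2 ⊢
  intro x
  simp only [SetLike.mem_coe, mem_conjS, inv_inv] at h2 ⊢
  have := h2 (c * x * c⁻¹)
  have e : c * (n * x * n⁻¹) * c⁻¹ = c * n * c⁻¹ * (c * x * c⁻¹) * (c * n * c⁻¹)⁻¹ := by group
  rw [e]
  exact this

/-- If `n` and its inverse preserve `A`, then `n` normalises `A`. -/
theorem mem_norm_of_forall {A : Subgroup G} {n : G} (h1 : ∀ y ∈ A, n * y * n⁻¹ ∈ A) (h2 : ∀ y ∈ A, n⁻¹ * y * n ∈ A) :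
    n ∈ Subgroup.normalizer (A : Set G) := by
  rw [Subgroup.mem_normalizer_iff]
  intro x
  constructor
  · exact h1 x
  · intro h
    have := h2 _ h
    have e : n⁻¹ * (n * x * n⁻¹) * n = x := by group
    rwa [e] at this

/-- Normalisers of a commutative subgroup normalise the torsion. -/
theorem norm_tors {C : Subgroup G} (hC : ∀ u ∈ C, ∀ v ∈ C, u * v = v * u) (m : ℕ) {n : G} (hn : n ∈ Subgroup.normalizer (C : Set G)) :
    n ∈ Subgroup.normalizer (tors C hC m : Set G) := by
  rw [Subgroup.mem_normalizer_iff] at hn ⊢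
  intro x
  simp only [SetLike.mem_coe, mem_tors] at hn ⊢
  rw [hn x, conj_pow]
  constructor
  · rintro ⟨h1, h2⟩
    exact ⟨h1, by rw [h2]; group⟩
  · rintro ⟨h1, h2⟩
    refine ⟨h1, ?_⟩
    have : x ^ m = n⁻¹ * (n * x ^ m * n⁻¹) * n := by group
    rw [this, h2]
    group

/-- A normaliser of a cyclic subgroup normalises the centraliser of a prime-order element. -/
theorem cent_norm [Finite G] {P : Subgroup G} (hcyc : IsCyclic P) {x : G} (hx : x ∈ P) (hp : (orderOf x).Prime) {n : G}
    (hn : n ∈ Subgroup.normalizer (P : Set G)) : n ∈ Subgroup.normalizer (Subgroup.centralizer {x} : Set G) := by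
  rw [Subgroup.mem_normalizer_iff] at hn ⊢
  obtain ⟨z, hz⟩ : ∃ z, z = n * x * n⁻¹ := ⟨_, rfl⟩
  have hzP : z ∈ P := by
    rw [hz]
    exact (hn x).mp hx
  have hoz : orderOf z = orderOf x := by
    rw [hz]
    exact ord_conj n x
  have hxP : Subgroup.zpowers x ≤ P := (Subgroup.zpowers_le).mpr hx
  have hzP' : Subgroup.zpowers z ≤ P := (Subgroup.zpowers_le).mpr hzP
  have h1 : z ∈ Subgroup.zpowers x := by
    apply mem_of_pow_card hcyc hxP hzP
    rw [Nat.card_zpowers, ← hoz]
    exact pow_orderOf_eq_one z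
  have h2 : x ∈ Subgroup.zpowers z := by
    apply mem_of_pow_card hcyc hzP' hx
    rw [Nat.card_zpowers, hoz]
    exact pow_orderOf_eq_one x
  have key : Subgroup.centralizer {z} = Subgroup.centralizer {x} := by
    apply le_antisymm
    · intro u hu
      rw [Subgroup.mem_centralizer_singleton_iff] at hu ⊢
      obtain ⟨k, hk⟩ := Subgroup.mem_zpowers_iff.mp h2
      rw [← hk]
      exact ((show Commute u z from hu).zpow_right k).eq
    · intro u hu
      rw [Subgroup.mem_centralizer_singleton_iff] at hu ⊢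
      obtain ⟨k, hk⟩ := Subgroup.mem_zpowers_iff.mp h1
      rw [← hk]
      exact ((show Commute u x from hu).zpow_right k).eq
  intro u
  have h3 := mem_cent_conj n x (n * u * n⁻¹)
  have e : n⁻¹ * (n * u * n⁻¹) * n = u := by group
  rw [e] at h3
  constructor
  · intro h
    rw [← key, hz]
    exact h3.mpr h
  · intro h
    rw [← key, hz] at h
    exact h3.mp h

end ConjS

end Cfsg.Agent.Lib.Ree
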