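import Cfsg.Agent.Lib.Ree.SolO

/-! Normalisers of four-subgroups in the small Ree groups and the conclusion on solvable subgroups. -/

set_option autoImplicit false
set_option linter.unusedSimpArgs false
set_option linter.unusedVariables false
set_option linter.unusedSectionVars false

namespace Cfsg.Agent.Lib.Ree

open Matrix Cfsg.Agent.Lib.Chev

section SL

variable {K : Type*} [Field K]

theorem sl_form (g : SpecialLinearGroup (Fin 2) K) : ∃ A B C D : K, g.1 = !![A, B; C, D] ∧ A * D - B * C = 1 := by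
  refine ⟨g.1 0 0, g.1 0 1, g.1 1 0, g.1 1 1, ?_, SL2.Rel.det_eq g⟩
  ext i j
  fin_cases i <;> fin_cases j <;> rfl

theorem sq_one_SL (h2 : (2 : K) ≠ 0) (g : SpecialLinearGroup (Fin 2) K) (h : g * g = 1) : g = 1 ∨ g = -1 := by
  obtain ⟨A, B, C, D, hform, hd⟩ := sl_form g
  have e := congrArg Subtype.val h
  rw [Matrix.SpecialLinearGroup.coe_mul, Matrix.SpecialLinearGroup.coe_one, hform] at e
  have e00 := congrFun (congrFun e 0) 0
  have e01 := congrFun (congrFun e 0) 1
  have e10 := congrFun (congrFun e 1) 0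
  have e11 := congrFun (congrFun e 1) 1
  simp [Matrix.mul_apply, Fin.sum_univ_two] at e00 e01 e10 e11
  have ht : A + D ≠ 0 := by
    intro ht
    have hDe : D = -A := by linear_combination ht
    subst hDe
    apply h2
    linear_combination (-1) * hd - e00
  have hb : B = 0 := by
    have : B * (A + D) = 0 := by linear_combination e01
    exact (mul_eq_zero.mp this).resolve_right ht
  have hc : C = 0 := by
    have : C * (A + D) = 0 := by linear_combination e10
    exact (mul_eq_zero.mp this).resolve_right ht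
  subst hb hc
  have hAD : (A - D) = 0 := by
    have h3 : (A - D) * A = 0 := by linear_combination e00 - hd
    have hA0 : A ≠ 0 := by
      intro h0
      rw [h0] at hd
      simp at hd
    exact (mul_eq_zero.mp h3).resolve_right hA0
  have hDe : D = A := by linear_combination -hAD
  subst hDe
  have h4 : (D - 1) * (D + 1) = 0 := by linear_combination e00
  rcases mul_eq_zero.mp h4 with h5 | h5
  · left
    have : D = 1 := by linear_combination h5
    subst this
    apply Subtype.ext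
    rw [hform]
    ext i j
    fin_cases i <;> fin_cases j <;> simp
  · right
    have : D = -1 := by linear_combination h5
    subst this
    apply Subtype.ext
    rw [hform, Matrix.SpecialLinearGroup.coe_neg]
    ext i j
    fin_cases i <;> fin_cases j <;> simp

theorem sum_two_sq [Fintype K] (hodd : Fintype.card K % 2 = 1) (c : K) : ∃ X Y : K, X ^ 2 + Y ^ 2 = c := by
  have hf : Polynomial.degree (Polynomial.C (1 : K) * Polynomial.X ^ 2 + Polynomial.C 0 * Polynomial.X + Polynomial.C 0) = 2 :=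
    Polynomial.degree_quadratic (by simp)
  have hg : Polynomial.degree (Polynomial.C (1 : K) * Polynomial.X ^ 2 + Polynomial.C 0 * Polynomial.X + Polynomial.C (-c)) = 2 :=
    Polynomial.degree_quadratic (by simp)
  obtain ⟨a, b, hab⟩ := FiniteField.exists_root_sum_quadratic hf hg hodd
  refine ⟨a, b, ?_⟩
  simp at hab
  linear_combination hab

/-- All elements of square `-1` in `SL₂` are conjugate, when `-1` is not a square. -/
theorem conj_wE [Fintype K] (hodd : Fintype.card K % 2 = 1) (hneg : ∀ x : K, x ^ 2 ≠ -1) (g : SpecialLinearGroup (Fin 2) K) (h : g * g = -1) :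
    ∃ d : SpecialLinearGroup (Fin 2) K, d * g * d⁻¹ = SL2.Rel.wE := by
  obtain ⟨A, B, C, D, hform, hd⟩ := sl_form g
  have e := congrArg Subtype.val h
  rw [Matrix.SpecialLinearGroup.coe_mul, Matrix.SpecialLinearGroup.coe_neg, Matrix.SpecialLinearGroup.coe_one, hform] at e
  have e00 := congrFun (congrFun e 0) 0
  have e01 := congrFun (congrFun e 0) 1
  have e10 := congrFun (congrFun e 1) 0
  have e11 := congrFun (congrFun e 1) 1
  simp [Matrix.mul_apply, Fin.sum_univ_two] at e00 e01 e10 e11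
  have hC0 : C ≠ 0 := by
    rintro rfl
    apply hneg A
    linear_combination e00
  have ht : A + D = 0 := by
    have : C * (A + D) = 0 := by linear_combination e10
    exact (mul_eq_zero.mp this).resolve_left hC0
  have hDe : D = -A := by linear_combination ht
  subst hDe
  have hn : A ^ 2 + B * C = -1 := by linear_combination e00
  obtain ⟨X, Y, hXY⟩ := sum_two_sq hodd (-C)
  have hCi : C * C⁻¹ = 1 := mul_inv_cancel₀ hC0
  obtain ⟨q, hq⟩ : ∃ q, q = (X - Y * A) * C⁻¹ := ⟨_, rfl⟩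
  have hqC : q * C = X - Y * A := by
    rw [hq]
    linear_combination (X - Y * A) * hCi
  obtain ⟨p, hp⟩ : ∃ p, p = Y := ⟨_, rfl⟩
  have hdet : p * (p * B - q * A) - q * (p * A + q * C) = 1 := by
    have h5 : C * (p * (p * B - q * A) - q * (p * A + q * C) - 1) = 0 := by
      rw [hp]
      have : X = q * C + Y * A := by linear_combination -hqC
      rw [this] at hXY
      linear_combination Y ^ 2 * hn - hXY
    exact sub_eq_zero.mp ((mul_eq_zero.mp h5).resolve_left hC0)
  let d : SpecialLinearGroup (Fin 2) K := ⟨!![p, q; p * A + q * C, p * B - q * A], by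
    rw [Matrix.det_fin_two_of]
    linear_combination hdet⟩
  refine ⟨d, ?_⟩
  rw [mul_inv_eq_iff_eq_mul]
  apply Subtype.ext
  rw [Matrix.SpecialLinearGroup.coe_mul, Matrix.SpecialLinearGroup.coe_mul, hform]
  show !![p, q; p * A + q * C, p * B - q * A] * !![A, B; C, -A] = !![0, 1; -1, 0] * !![p, q; p * A + q * C, p * B - q * A]
  ext i j
  fin_cases i <;> fin_cases j <;> simp [Matrix.mul_apply, Fin.sum_univ_two]
  · ring
  · linear_combination p * hn
  · linear_combination q * hn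

/-- Elements commuting with `wE` commute. -/
theorem comm_wE (g h : SpecialLinearGroup (Fin 2) K) (hg : g * SL2.Rel.wE = SL2.Rel.wE * g) (hh : h * SL2.Rel.wE = SL2.Rel.wE * h) :
    g * h = h * g := by
  obtain ⟨A, B, C, D, hform, hd⟩ := sl_form g
  obtain ⟨A', B', C', D', hform', hd'⟩ := sl_form h
  have e1 := congrArg Subtype.val hg
  have e2 := congrArg Subtype.val hh
  rw [Matrix.SpecialLinearGroup.coe_mul, Matrix.SpecialLinearGroup.coe_mul] at e1 e2
  change g.1 * !![0, 1; -1, 0] = !![0, 1; -1, 0] * g.1 at e1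
  change h.1 * !![0, 1; -1, 0] = !![0, 1; -1, 0] * h.1 at e2
  rw [hform] at e1
  rw [hform'] at e2
  have a1 := congrFun (congrFun e1 0) 0
  have a2 := congrFun (congrFun e1 0) 1
  have b1 := congrFun (congrFun e2 0) 0
  have b2 := congrFun (congrFun e2 0) 1
  simp [Matrix.mul_apply, Fin.sum_univ_two] at a1 a2 b1 b2
  subst a1 a2 b1 b2
  apply Subtype.ext
  rw [Matrix.SpecialLinearGroup.coe_mul, Matrix.SpecialLinearGroup.coe_mul, hform, hform']
  ext i j
  fin_cases i <;> fin_cases j <;> simp [Matrix.mul_apply, Fin.sum_univ_two] <;> ring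

/-- Anti-commuting with `wE` forces square `-1`. -/
theorem anti_wE (h : SpecialLinearGroup (Fin 2) K) (hh : h * SL2.Rel.wE = -(SL2.Rel.wE * h)) : h * h = -1 := by
  obtain ⟨A, B, C, D, hform, hd⟩ := sl_form h
  have e2 := congrArg Subtype.val hh
  rw [Matrix.SpecialLinearGroup.coe_neg, Matrix.SpecialLinearGroup.coe_mul, Matrix.SpecialLinearGroup.coe_mul] at e2
  change h.1 * !![0, 1; -1, 0] = -(!![0, 1; -1, 0] * h.1) at e2
  rw [hform] at e2
  have b1 := congrFun (congrFun e2 0) 0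
  have b2 := congrFun (congrFun e2 0) 1
  simp [Matrix.mul_apply, Fin.sum_univ_two] at b1 b2
  subst b2
  subst b1
  apply Subtype.ext
  rw [Matrix.SpecialLinearGroup.coe_mul, Matrix.SpecialLinearGroup.coe_neg, Matrix.SpecialLinearGroup.coe_one, hform]
  ext i j
  fin_cases i <;> fin_cases j <;> simp [Matrix.mul_apply, Fin.sum_univ_two]
  · linear_combination -hd
  · ring
  · ring
  · linear_combination -hd

end SL

namespace Ctx3

variable {K : Type*} [Field K] [CharP K 3] [Fintype K] {f : K ≃+* K} {G : Type*} [Group G] [Finite G] {R : RD K f G} (D : Ctx3 R)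

include D

theorem hodd' : Fintype.card K % 2 = 1 := by
  have := D.toCtx.hq8
  omega

theorem neg_not_sq (x : K) : x ^ 2 ≠ -1 := by
  have h := D.toCtx.hq8
  intro hx
  have hodd : Fintype.card K % 2 = 1 := by omega
  have h1 : IsSquare (-1 : K) := ⟨x, by rw [← hx]; ring⟩
  have h2 := FiniteField.isSquare_neg_one_iff (F := K) |>.mp h1
  omega

/-- Lifting through the copy of `SL₂`. -/
theorem lift_a {z : G} (hz : z * R.h (-1) = R.h (-1) * z) :
    ∃ h : SpecialLinearGroup (Fin 2) K, z = D.L.φ h ∨ z = R.h (-1) * D.L.φ h := by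
  obtain ⟨⟨e, p⟩, rfl⟩ := D.L.Phi_surj D.hsq hz
  obtain ⟨g, rfl⟩ := QuotientGroup.mk_surjective p
  refine ⟨g, ?_⟩
  rw [RD.RL.Phi_apply]
  rcases mp2_cases e with rfl | rfl
  · left
    simp
  · right
    simp

theorem a_ne : R.h (-1) ≠ 1 := by
  intro h
  have h1 : (-1 : Kˣ) = 1 := R.h_inj (by rw [h, map_one])
  have h2 : (-1 : K) = 1 := by
    have := congrArg Units.val h1
    simpa using this
  have h3 := RD.two_ne (K := K)
  apply h3
  linear_combination -h2

theorem a_sq' : R.h (-1) * R.h (-1) = 1 := RD.RL.a_sq R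

theorem a_B : R.h (-1) ∈ R.B := R.h_mem_B _

theorem n_ne : R.n ≠ 1 := by
  intro h
  apply R.n_not_B
  rw [h]
  exact one_mem _

theorem n_ne_a : R.n ≠ R.h (-1) := by
  intro h
  apply R.n_not_B
  rw [h]
  exact R.h_mem_B _

theorem an_ne : R.h (-1) * R.n ≠ 1 := by
  intro h
  apply R.n_not_B
  have e : R.n = (R.h (-1))⁻¹ * (R.h (-1) * R.n) := by group
  rw [e, h, mul_one]
  exact inv_mem (R.h_mem_B _)

/-- A subgroup of order four containing `a` and `n`. -/
theorem mem_four {F : Subgroup G} (hc : Nat.card F = 4) (ha : R.h (-1) ∈ F) (hn : R.n ∈ F) {u : G} (hu : u ∈ F) :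
    u = 1 ∨ u = R.h (-1) ∨ u = R.n ∨ u = R.h (-1) * R.n := by
  classical
  by_contra hcon
  push Not at hcon
  obtain ⟨h1, h2, h3, h4⟩ := hcon
  have hsub : ((({1, R.h (-1), R.n, R.h (-1) * R.n, u} : Finset G) : Set G)) ⊆ (F : Set G) := by
    intro x hx
    simp only [Finset.coe_insert, Finset.coe_singleton, Set.mem_insert_iff, Set.mem_singleton_iff] at hx
    rcases hx with rfl | rfl | rfl | rfl | rfl
    · exact one_mem F
    · exact ha
    · exact hn
    · exact mul_mem ha hn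
    · exact hu
  have hle := Set.ncard_le_ncard hsub (Set.toFinite _)
  rw [Set.ncard_coe_finset] at hle
  have hF : (F : Set G).ncard = 4 := by
    rw [← Nat.card_coe_set_eq]
    exact hc
  rw [hF] at hle
  have hcard : ({1, R.h (-1), R.n, R.h (-1) * R.n, u} : Finset G).card = 5 := by
    have e1 : (1 : G) ≠ R.h (-1) := fun h => D.a_ne h.symm
    have e2 : (1 : G) ≠ R.n := fun h => D.n_ne h.symm
    have e3 : (1 : G) ≠ R.h (-1) * R.n := fun h => D.an_ne h.symm
    have e4 : (1 : G) ≠ u := fun h => h1 h.symm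
    have e5 : R.h (-1) ≠ R.n := fun h => D.n_ne_a h.symm
    have e6 : R.h (-1) ≠ R.h (-1) * R.n := by
      intro h
      exact D.n_ne (by simpa using h.symm)
    have e7 : R.h (-1) ≠ u := fun h => h2 h.symm
    have e8 : R.n ≠ R.h (-1) * R.n := by
      intro h
      exact D.a_ne (by simpa using h.symm)
    have e9 : R.n ≠ u := fun h => h3 h.symm
    have e10 : R.h (-1) * R.n ≠ u := fun h => h4 h.symm
    simp [Finset.card_insert_of_notMem, e1, e2, e3, e4, e5, e6, e7, e8, e9, e10]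
  omega

/-- A subgroup of order four has exponent two. -/
theorem four_sq {F : Subgroup G} (hc : Nat.card F = 4) {u : G} (hu : u ∈ F) : u * u = 1 := by
  have h1 : (⟨u, hu⟩ : F) ^ 4 = 1 := by
    rw [← hc]
    exact pow_card_eq_one'
  have h2 : u ^ 4 = 1 := by simpa using congrArg Subtype.val h1
  have h3 := D.toCtx.h4 h2
  rwa [pow_two] at h3

/-- Every subgroup of order four is conjugate to one containing `a` and `n`. -/
theorem conj_F {F : Subgroup G} (hc : Nat.card F = 4) : ∃ c : G, R.h (-1) ∈ conjS c F ∧ R.n ∈ conjS c F := by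
  classical
  have C := D.toCtx
  have hsq := fun {u : G} (hu : u ∈ F) => D.four_sq hc hu
  have hinv : ∀ {u : G}, u ∈ F → u⁻¹ = u := fun hu => inv_eq_of_mul_eq_one_left (hsq hu)
  have hcomm : ∀ {u v : G}, u ∈ F → v ∈ F → u * v = v * u := by
    intro u v hu hv
    have h1 := hinv (mul_mem hu hv)
    rw [_root_.mul_inv_rev, hinv hu, hinv hv] at h1
    exact h1.symm
  have hb : F ≠ ⊥ := by
    rintro rfl
    rw [Subgroup.card_bot] at hc
    omega
  obtain ⟨u', hu'⟩ := (Subgroup.ne_bot_iff_exists_ne_one.mp hb)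
  obtain ⟨u, hu, hu1⟩ : ∃ u : G, u ∈ F ∧ u ≠ 1 := ⟨u'.1, u'.2, fun h => hu' (Subtype.ext h)⟩
  obtain ⟨c₁, hc₁⟩ := isConj_iff.mp (D.L.inv_conj D.hG C.hq D.hmod (hsq hu) hu1)
  obtain ⟨v, hv, hv1, hvu⟩ : ∃ v : G, v ∈ F ∧ v ≠ 1 ∧ v ≠ u := by
    by_contra hcon
    push Not at hcon
    have hsub : (F : Set G) ⊆ ({1, u} : Set G) := by
      intro x hx
      by_cases hx1 : x = 1
      · exact Or.inl hx1
      · exact Or.inr (hcon x hx hx1)
    have hle := Set.ncard_le_ncard hsub (Set.toFinite _)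
    have h3 := Set.ncard_pair (fun h => hu1 h.symm : (1 : G) ≠ u)
    have hF : (F : Set G).ncard = 4 := by
      rw [← Nat.card_coe_set_eq]
      exact hc
    omega
  have hca : c₁ * v * c₁⁻¹ * R.h (-1) = R.h (-1) * (c₁ * v * c₁⁻¹) := by
    rw [← hc₁]
    calc c₁ * v * c₁⁻¹ * (c₁ * u * c₁⁻¹) = c₁ * (v * u) * c₁⁻¹ := by group
      _ = c₁ * (u * v) * c₁⁻¹ := by rw [hcomm hv hu]
      _ = c₁ * u * c₁⁻¹ * (c₁ * v * c₁⁻¹) := by group
  obtain ⟨h, hh⟩ := D.lift_a hca
  obtain ⟨hw, hne⟩ : c₁⁻¹ * D.L.φ h * c₁ ∈ F ∧ D.L.φ h ≠ 1 := by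
    rcases hh with e | e
    · rw [← e]
      have e1 : c₁⁻¹ * (c₁ * v * c₁⁻¹) * c₁ = v := by group
      rw [e1]
      refine ⟨hv, ?_⟩
      intro h0
      apply hv1
      have e2 : v = c₁⁻¹ * (c₁ * v * c₁⁻¹) * c₁ := by group
      rw [e2, h0]
      group
    · have e3 : D.L.φ h = R.h (-1) * (c₁ * v * c₁⁻¹) := by
        rw [e, ← mul_assoc, D.a_sq', one_mul]
      rw [e3, ← hc₁]
      have e1 : c₁⁻¹ * (c₁ * u * c₁⁻¹ * (c₁ * v * c₁⁻¹)) * c₁ = u * v := by group
      rw [e1]
      refine ⟨mul_mem hu hv, ?_⟩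
      intro h0
      apply hvu
      have e2 : c₁ * (u * v) * c₁⁻¹ = 1 := by
        rw [← h0]
        group
      have e4 : u * v = 1 := by
        have : u * v = c₁⁻¹ * (c₁ * (u * v) * c₁⁻¹) * c₁ := by group
        rw [this, e2]
        group
      have := hinv hu
      calc v = u⁻¹ * (u * v) := by group
        _ = u := by rw [e4, mul_one, this]
  have hφ : D.L.φ (h * h) = 1 := by
    rw [map_mul]
    have h1 := hsq hw
    have e : c₁⁻¹ * D.L.φ h * c₁ * (c₁⁻¹ * D.L.φ h * c₁) = c₁⁻¹ * (D.L.φ h * D.L.φ h) * c₁ := by group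
    rw [e] at h1
    have e2 : D.L.φ h * D.L.φ h = c₁ * (c₁⁻¹ * (D.L.φ h * D.L.φ h) * c₁) * c₁⁻¹ := by group
    rw [e2, h1]
    group
  have h2ne := RD.two_ne (K := K)
  have hhh : h * h = -1 := by
    rcases D.L.φ_ker hφ with h1 | h1
    · exfalso
      rcases sq_one_SL h2ne h h1 with rfl | rfl
      · exact hne (map_one _)
      · exact hne D.L.φ_neg_one
    · exact h1
  obtain ⟨d, hd⟩ := conj_wE D.hodd' D.neg_not_sq h hhh
  refine ⟨D.L.φ d * c₁, ?_, ?_⟩
  · rw [mem_conjS]
    have e : (D.L.φ d * c₁)⁻¹ * R.h (-1) * (D.L.φ d * c₁) = c₁⁻¹ * ((D.L.φ d)⁻¹ * (R.h (-1) * D.L.φ d)) * c₁ := by group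
    rw [e, D.L.a_φ]
    have e2 : c₁⁻¹ * ((D.L.φ d)⁻¹ * (D.L.φ d * R.h (-1))) * c₁ = c₁⁻¹ * R.h (-1) * c₁ := by group
    rw [e2, ← hc₁]
    have e3 : c₁⁻¹ * (c₁ * u * c₁⁻¹) * c₁ = u := by group
    rw [e3]
    exact hu
  · rw [mem_conjS, ← D.L.φ_w, ← hd, map_mul, map_mul, map_inv]
    have e : (D.L.φ d * c₁)⁻¹ * (D.L.φ d * D.L.φ h * (D.L.φ d)⁻¹) * (D.L.φ d * c₁) = c₁⁻¹ * D.L.φ h * c₁ := by group
    rw [e]
    exact hw

/-- A prime order element centralising `a` and `n`. -/
theorem exists_x₁ : ∃ x₁ : G, (orderOf x₁).Prime ∧ orderOf x₁ ∣ wq K ∧ R.h (-1) ∈ Subgroup.centralizer {x₁} ∧ R.n ∈ Subgroup.centralizer {x₁} := by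
  have C := D.toCtx
  obtain ⟨x₀, hx, hd, hxa⟩ := C.exists_x₀
  have h4 := (tors_card _ (C.x_cent hx hd).2 C.hw_odd (C.card_4w hx hd) (fun z _ hz => C.h4 hz)).2
  obtain ⟨c, h1, h2⟩ := D.conj_F h4
  rw [mem_conjS] at h1 h2
  refine ⟨c * x₀ * c⁻¹, by rwa [ord_conj], by rwa [ord_conj], ?_, ?_⟩
  · rw [mem_cent_conj]
    exact h1.1
  · rw [mem_cent_conj]
    exact h2.1

/-- The key property of the normaliser of a subgroup of order four containing `a` and `n`. -/
theorem four_key {x₁ : G} (hp : (orderOf x₁).Prime) (hd : orderOf x₁ ∣ wq K) (hxa : R.h (-1) ∈ Subgroup.centralizer {x₁})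
    (hxn : R.n ∈ Subgroup.centralizer {x₁}) {F : Subgroup G} (hc : Nat.card F = 4) (ha : R.h (-1) ∈ F) (hn : R.n ∈ F) {m : G}
    (hm : m ∈ Subgroup.normalizer (F : Set G)) {y : G}
    (hy : y ∈ tors (Subgroup.centralizer {x₁}) (D.toCtx.x_cent hp hd).2 (wq K)) :
    m * y * m⁻¹ ∈ tors (Subgroup.centralizer {x₁}) (D.toCtx.x_cent hp hd).2 (wq K) := by
  have C := D.toCtx
  obtain ⟨hl3, hld⟩ := C.prime_dvd hp hd
  have hcomm := (C.x_cent hp hd).2
  have hFC : ∀ u ∈ F, u ∈ Subgroup.centralizer {x₁} := by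
    intro u hu
    rcases D.mem_four hc ha hn hu with rfl | rfl | rfl | rfl
    · exact one_mem _
    · exact hxa
    · exact hxn
    · exact mul_mem hxa hxn
  have hm' := Subgroup.mem_normalizer_iff.mp hm
  have hcC : ∀ u ∈ F, m * y * m⁻¹ * u = u * (m * y * m⁻¹) := by
    intro u hu
    have h1 : m⁻¹ * u * m ∈ F := by
      rw [hm']
      have e : m * (m⁻¹ * u * m) * m⁻¹ = u := by group
      rw [e]
      exact hu
    have h2 := hcomm _ hy.1 _ (hFC _ h1)
    calc m * y * m⁻¹ * u = m * (y * (m⁻¹ * u * m)) * m⁻¹ := by group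
      _ = m * ((m⁻¹ * u * m) * y) * m⁻¹ := by rw [h2]
      _ = u * (m * y * m⁻¹) := by group
  have hzw : (m * y * m⁻¹) ^ wq K = 1 := by
    rw [conj_pow, hy.2]
    group
  obtain ⟨z, hze⟩ : ∃ z, z = m * y * m⁻¹ := ⟨_, rfl⟩
  rw [← hze] at hcC hzw ⊢
  have hodd := C.hw_odd
  obtain ⟨h, hh⟩ := D.lift_a (hcC _ ha)
  have hz : z = D.L.φ h := by
    rcases hh with e | e
    · exact e
    · exfalso
      have hcm : Commute (R.h (-1)) (D.L.φ h) := D.L.a_φ h
      rw [e, hcm.mul_pow] at hzw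
      have h1 : R.h (-1) ^ wq K = R.h (-1) := by
        obtain ⟨k, hk⟩ := hodd
        rw [hk, pow_succ, pow_mul, pow_two, D.a_sq', one_pow, one_mul]
      rw [h1, ← map_pow] at hzw
      have h2 : D.L.φ (h ^ wq K) = R.h (-1) := by
        have e2 : D.L.φ (h ^ wq K) = (R.h (-1))⁻¹ * (R.h (-1) * D.L.φ (h ^ wq K)) := by group
        rw [e2, hzw, mul_one]
        exact inv_eq_of_mul_eq_one_left D.a_sq'
      exact D.L.a_not_φ _ h2
  have hcases : ∀ g : SpecialLinearGroup (Fin 2) K, D.L.φ g * R.n = R.n * D.L.φ g →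
      g * SL2.Rel.wE = SL2.Rel.wE * g ∨ g * g = -1 := by
    intro g hg
    have h1 : D.L.φ (g * SL2.Rel.wE * (SL2.Rel.wE * g)⁻¹) = 1 := by
      rw [map_mul, map_mul, map_inv, map_mul, D.L.φ_w, hg]
      group
    rcases D.L.φ_ker h1 with h2 | h2
    · left
      exact mul_inv_eq_one.mp h2
    · right
      apply anti_wE
      have h3 : g * SL2.Rel.wE = -1 * (SL2.Rel.wE * g) := by
        rw [← h2]
        group
      rw [h3]
      apply Subtype.ext
      simp [Matrix.SpecialLinearGroup.coe_neg]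
  have hzn := hcC _ hn
  rw [hz] at hzn
  rcases hcases h hzn with h1 | h1
  · obtain ⟨g₁, e1, e2, e3, -⟩ := D.toCtx.x_lift hp (by omega) (by omega) hld rfl (Subgroup.mem_centralizer_singleton_iff.mp hxa).symm
    have hx1 : x₁ * R.n = R.n * x₁ := (Subgroup.mem_centralizer_singleton_iff.mp hxn).symm
    rw [e1] at hx1
    rcases hcases g₁ hx1 with h2 | h2
    · have h3 := comm_wE h g₁ h1 h2
      refine ⟨?_, hzw⟩
      rw [Subgroup.mem_centralizer_singleton_iff, hz]
      rw [e1, ← map_mul, ← map_mul, h3]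
    · exfalso
      have h3 : x₁ * x₁ = 1 := by
        rw [e1, ← map_mul, h2]
        exact D.L.φ_neg_one
      have h4 : orderOf x₁ ∣ 2 := orderOf_dvd_of_pow_eq_one (by rw [pow_two]; exact h3)
      have h5 := (Nat.prime_dvd_prime_iff_eq hp Nat.prime_two).mp h4
      omega
  · have h3 : z = 1 := by
      apply tors_inter hodd hzw
      rw [pow_two, hz, ← map_mul, h1]
      exact D.L.φ_neg_one
    rw [h3]
    exact one_mem _

/-- The case of a subgroup of order four. -/
theorem four_case {r : ℕ} {F : Subgroup G} (hc : Nat.card F = 4) :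
    ∃ A : Subgroup G, Subgroup.normalizer (F : Set G) ≤ Subgroup.normalizer (A : Set G) ∧ GoodC K r A := by
  have C := D.toCtx
  obtain ⟨x₁, hp, hd, hxa, hxn⟩ := D.exists_x₁
  obtain ⟨c, h1, h2⟩ := D.conj_F hc
  have hcard : Nat.card (conjS c F) = 4 := by rw [card_conjS, hc]
  refine ⟨conjS c⁻¹ (tors _ (C.x_cent hp hd).2 (wq K)), ?_, GoodC.conj ?_ _⟩
  · apply norm_conjS
    intro n hn
    apply mem_norm_of_forall
    · intro y hy
      exact D.four_key hp hd hxa hxn hcard h1 h2 hn hy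
    · intro y hy
      have := D.four_key hp hd hxa hxn hcard h1 h2 (inv_mem hn) hy
      rwa [inv_inv] at this
  · refine ⟨C.O_cyc hp hd, Or.inr (Or.inl ?_)⟩
    exact (tors_card _ (C.x_cent hp hd).2 C.hw_odd (C.card_4w hp hd) (fun z _ hz => C.h4 hz)).1

end Ctx3

theorem le_norm_map {G : Type*} [Group G] {S : Subgroup G} (Q : Subgroup S) (hQ : Q.Normal) :
    S ≤ Subgroup.normalizer ((Q.map S.subtype : Subgroup G) : Set G) := by
  intro n hn
  rw [Subgroup.mem_normalizer_iff]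
  intro x
  constructor
  · rintro ⟨y, hy, rfl⟩
    exact ⟨⟨n, hn⟩ * y * ⟨n, hn⟩⁻¹, hQ.conj_mem y hy _, rfl⟩
  · rintro ⟨y, hy, e⟩
    refine ⟨⟨n, hn⟩⁻¹ * y * ⟨n, hn⟩⁻¹⁻¹, hQ.conj_mem y hy _, ?_⟩
    have e2 : S.subtype y = n * x * n⁻¹ := e
    simp only [inv_inv, map_mul, map_inv, e2]
    show n⁻¹ * (n * x * n⁻¹) * n = x
    group

namespace Ctx3

variable {K : Type*} [Field K] [CharP K 3] [Fintype K] {f : K ≃+* K} {G : Type*} [Group G] [Finite G] {R : RD K f G} (D : Ctx3 R)

include D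

/-- Solvable subgroups of the small Ree groups. -/
theorem solvable_main {r : ℕ} (hr : r * r = 3 * Fintype.card K) (S : Subgroup G) (hS : Group.IsSolvable S) :
    ∃ A : Subgroup G, S ≤ Subgroup.normalizer (A : Set G) ∧
      ((∃ P : Sylow 2 G, A = P) ∨ (∃ P : Sylow 3 G, A = P) ∨ GoodC K r A) := by
  classical
  haveI : Fact (Nat.Prime 2) := ⟨Nat.prime_two⟩
  have C := D.toCtx
  obtain ⟨x₀, hx, hd, hxa⟩ := C.exists_x₀
  -- the biggest normal 2-subgroup
  let α := {Q : Subgroup S // Q.Normal ∧ IsPGroup 2 Q}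
  haveI : Nonempty α := ⟨⟨⊥, inferInstance, IsPGroup.of_bot⟩⟩
  obtain ⟨⟨Q, hQn, hQp⟩, hQmax⟩ := Finite.exists_max (fun Q : α => Nat.card Q.1)
  haveI := hQn
  have hQmax' : ∀ Q' : Subgroup S, Q'.Normal → IsPGroup 2 Q' → Nat.card Q' ≤ Nat.card Q :=
    fun Q' h1 h2 => hQmax ⟨Q', h1, h2⟩
  obtain ⟨F, hFe⟩ : ∃ F : Subgroup G, F = Q.map S.subtype := ⟨_, rfl⟩
  have hFc : Nat.card F = Nat.card Q := by
    rw [hFe]
    exact Nat.card_congr (Subgroup.equivMapOfInjective Q _ S.subtype_injective).toEquiv.symm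
  have hSF : S ≤ Subgroup.normalizer (F : Set G) := by
    rw [hFe]
    exact le_norm_map Q hQn
  have hFp : IsPGroup 2 F := by
    rw [hFe]
    exact hQp.map _
  obtain ⟨j, hj⟩ := IsPGroup.iff_card.mp hFp
  have hdv : 2 ^ j ∣ Nat.card G := by
    rw [← hj]
    exact Subgroup.card_subgroup_dvd_card F
  have hj3 : j ≤ 3 := by
    by_contra hcon
    have h16 : 2 ^ 4 ∣ Nat.card G := (pow_dvd_pow 2 (by omega)).trans hdv
    have := C.hmod
    omega
  have hcases : j = 3 ∨ j = 2 ∨ j ≤ 1 := by omega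
  rcases hcases with rfl | rfl | hj1
  · -- a Sylow 2-subgroup
    refine ⟨F, hSF, Or.inl ?_⟩
    refine ⟨hFp.toSylow ?_, by rw [IsPGroup.toSylow_coe]⟩
    intro h2
    have h1 := Subgroup.card_mul_index F
    rw [hj] at h1
    obtain ⟨k, hk⟩ := h2
    have := C.hmod
    rw [← h1, hk] at this
    omega
  · obtain ⟨A, hA, hA2⟩ := D.four_case (r := r) (F := F) (by rw [hj]; norm_num)
    exact ⟨A, hSF.trans hA, Or.inr (Or.inr hA2)⟩
  · have hcQ : Nat.card Q ≤ 2 := by
      rw [← hFc, hj]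
      calc 2 ^ j ≤ 2 ^ 1 := Nat.pow_le_pow_right (by norm_num) hj1
        _ = 2 := by norm_num
    by_cases hQt : Q = ⊤
    · -- S is a 2-group
      have hSp : IsPGroup 2 S := by
        have h1 : IsPGroup 2 (⊤ : Subgroup S) := by
          rw [← hQt]
          exact hQp
        rintro z
        obtain ⟨k, hk⟩ := h1 ⟨z, Subgroup.mem_top z⟩
        exact ⟨k, Subtype.ext (congrArg (fun w : (⊤ : Subgroup S) => ((w : S) : G)) hk)⟩
      obtain ⟨T, hT⟩ := hSp.exists_le_sylow
      exact ⟨T, hT.trans Subgroup.le_normalizer, Or.inl ⟨T, rfl⟩⟩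
    · obtain ⟨ρ, P₀, hρ, hρ2, hPn, hPb, hPp⟩ := exists_odd_normal Q hQp hcQ hQmax' hQt
      obtain ⟨P, hPe⟩ : ∃ P : Subgroup G, P = P₀.map S.subtype := ⟨_, rfl⟩
      have hSP : S ≤ Subgroup.normalizer (P : Set G) := by
        rw [hPe]
        exact le_norm_map P₀ hPn
      have hPp' : IsPGroup ρ P := by
        rw [hPe]
        exact hPp.map _
      have hPb' : P ≠ ⊥ := by
        rw [hPe]
        intro h
        rw [Subgroup.map_eq_bot_iff_of_injective _ S.subtype_injective] at h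
        exact hPb h
      by_cases hρ3 : ρ = 3
      · subst hρ3
        obtain ⟨T, hT⟩ := D.three_case hPp' hPb'
        exact ⟨T, hSP.trans hT, Or.inr (Or.inl ⟨T, rfl⟩)⟩
      · have : 3 < ρ := by
          have h1 := hρ.two_le
          omega
        obtain ⟨A, hA, hA2⟩ := D.big_case hx hd hxa hr hρ this hPp' hPb'
        exact ⟨A, hSP.trans hA, Or.inr (Or.inr hA2)⟩

end Ctx3

end Cfsg.Agent.Lib.Ree
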