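import Cfsg.Agent.Lib.Ree.SolA

/-! Normalisers of subgroups of odd prime power order in the small Ree groups. -/

set_option autoImplicit false
set_option linter.unusedSimpArgs false
set_option linter.unusedVariables false
set_option linter.unusedSectionVars false

namespace Cfsg.Agent.Lib.Ree

open scoped Pointwise

/-- The possible cyclic subgroups. -/
def GoodC (K : Type*) [Fintype K] {G : Type*} [Group G] (r : ℕ) (A : Subgroup G) : Prop :=
  IsCyclic A ∧ (Nat.card A = (Fintype.card K - 1) / 2 ∨ Nat.card A = (Fintype.card K + 1) / 4 ∨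
    Nat.card A = Fintype.card K - r + 1 ∨ Nat.card A = Fintype.card K + r + 1)

theorem GoodC.conj {K : Type*} [Fintype K] {G : Type*} [Group G] {r : ℕ} {A : Subgroup G} (h : GoodC K r A) (c : G) :
    GoodC K r (conjS c A) := by
  refine ⟨cyc_conjS c h.1, ?_⟩
  rw [card_conjS]
  exact h.2

/-- Torsion in a cyclic subgroup. -/
theorem tors_cyc {G : Type*} [Group G] [Finite G] {C : Subgroup G} (hC : ∀ u ∈ C, ∀ v ∈ C, u * v = v * u) (hcyc : IsCyclic C)
    {d : ℕ} (hd : d ∣ Nat.card C) : IsCyclic (tors C hC d) ∧ Nat.card (tors C hC d) = d := by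
  have hle : tors C hC d ≤ C := fun z hz => hz.1
  constructor
  · have h1 : IsCyclic ((tors C hC d).subgroupOf C) := inferInstance
    exact (MulEquiv.isCyclic (Subgroup.subgroupOfEquivOfLe hle)).mp h1
  · obtain ⟨a, ha⟩ := exists_order_cyclic hd
    have hA : Subgroup.zpowers a.1 ≤ C := (Subgroup.zpowers_le).mpr a.2
    have hoa : orderOf a.1 = d := by
      rw [Subgroup.orderOf_coe, ha]
    have e : tors C hC d = Subgroup.zpowers a.1 := by
      apply le_antisymm
      · rintro z ⟨hz, hz2⟩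
        apply mem_of_pow_card hcyc hA hz
        rw [Nat.card_zpowers, hoa, hz2]
      · intro z hz
        refine ⟨hA hz, ?_⟩
        obtain ⟨k, rfl⟩ := Subgroup.mem_zpowers_iff.mp hz
        rw [← zpow_natCast, ← _root_.zpow_mul, mul_comm, _root_.zpow_mul, zpow_natCast, ← hoa, pow_orderOf_eq_one, _root_.one_zpow]
    rw [e, Nat.card_zpowers, hoa]

namespace Ctx3

variable {K : Type*} [Field K] [CharP K 3] [Fintype K] {f : K ≃+* K} {G : Type*} [Group G] [Finite G] {R : RD K f G} (D : Ctx3 R)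

include D

theorem r_le {r : ℕ} (hr : r * r = 3 * Fintype.card K) : r ≤ Fintype.card K := by
  have h := D.toCtx.hq27
  by_contra hc
  have h1 : Fintype.card K + 1 ≤ r := by omega
  nlinarith

/-- The possible orders of centralisers of elements of order dividing `nq`. -/
theorem card_cent_nq {x₀ : G} (hx : (orderOf x₀).Prime) (hd : orderOf x₀ ∣ wq K) (hxa : x₀ * R.h (-1) = R.h (-1) * x₀)
    {r : ℕ} (hr : r * r = 3 * Fintype.card K) {y : G} (hy : (orderOf y).Prime) (hyn : orderOf y ∣ nq K) :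
    Nat.card ↥(Subgroup.centralizer {y}) = Fintype.card K - r + 1 ∨ Nat.card ↥(Subgroup.centralizer {y}) = Fintype.card K + r + 1 := by
  obtain ⟨y₁, y₂, h1, h2, h3, h4, h5, h6, h7, h8, h9, h10, h11⟩ := D.T3_r hx hd hxa hr
  have hle := D.r_le hr
  have hD : orderOf y ∈ Dn K := by
    refine ⟨hy.ne_one, ?_⟩
    intro p hp hpd
    rw [(Nat.prime_dvd_prime_iff_eq hp hy).mp hpd]
    exact hyn
  have key : ∀ y' : G, (orderOf y').Prime → orderOf y' ∣ nq K → y ∈ conjU (Sy y') →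
      Nat.card ↥(Subgroup.centralizer {y}) = Nat.card ↥(Subgroup.centralizer {y'}) := by
    rintro y' ho hn ⟨g, hg, -⟩
    have hu : (orderOf (g * y * g⁻¹)).Prime := by
      rw [ord_conj]
      exact hy
    have h := D.M_cent ho hn hg hu
    rw [← h, card_cent_conj]
  rcases h9 y hD with h | h
  · left
    rw [key y₁ h1 h2 h]
    omega
  · right
    rw [key y₂ h3 h4 h, h8]
    omega

/-- The case of a `3`-subgroup. -/
theorem three_case {P : Subgroup G} (hP : IsPGroup 3 P) (hb : P ≠ ⊥) :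
    haveI : Fact (Nat.Prime 3) := ⟨Nat.prime_three⟩
    ∃ T : Sylow 3 G, Subgroup.normalizer (P : Set G) ≤ Subgroup.normalizer ((T : Subgroup G) : Set G) := by
  classical
  haveI : Fact (Nat.Prime 3) := ⟨Nat.prime_three⟩
  have C := D.toCtx
  obtain ⟨n3, -, hn3⟩ := FiniteField.card K 3
  have hU : IsPGroup 3 R.U := by
    apply IsPGroup.of_card (n := (n3 : ℕ) * 3)
    rw [R.card_U, hn3, pow_mul]
  have hUi : ¬ 3 ∣ R.U.index := by
    intro h
    have h1 := Subgroup.card_mul_index R.U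
    rw [R.card_U, C.hG] at h1
    have hq3 : Fintype.card K ^ 3 ≠ 0 := by
      have := C.hq
      positivity
    have h2 : R.U.index = (1 + Fintype.card K ^ 3) * (Fintype.card K - 1) := by
      apply Nat.eq_of_mul_eq_mul_left (Nat.pos_of_ne_zero hq3)
      rw [h1]
      ring
    rw [h2] at h
    have h3d := RD.RL.three_dvd_card (K := K)
    rcases (Nat.Prime.dvd_mul Nat.prime_three).mp h with h | h
    · have h5 : 3 ∣ Fintype.card K ^ 3 := h3d.trans (dvd_pow_self _ (by norm_num))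
      have h6 := (Nat.dvd_add_right h5).mp (by rwa [add_comm] at h)
      omega
    · have := C.hq
      omega
  obtain ⟨T, hT⟩ := hP.exists_le_sylow
  refine ⟨T, ?_⟩
  obtain ⟨d, hd⟩ : ∃ d : G, ∀ x, x ∈ (T : Subgroup G) ↔ d⁻¹ * x * d ∈ R.U := by
    obtain ⟨d, rfl⟩ := MulAction.exists_smul_eq G (hU.toSylow hUi) T
    refine ⟨d, fun x => ?_⟩
    change x ∈ MulAut.conj d • ((hU.toSylow hUi : Sylow 3 G) : Subgroup G) ↔ _
    rw [Subgroup.mem_pointwise_smul_iff_inv_smul_mem, IsPGroup.toSylow_coe]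
    simp [MulAut.smul_def, MulAut.conj_inv_apply]
  obtain ⟨z, hz, hz1⟩ := (Subgroup.ne_bot_iff_exists_ne_one.mp hb : ∃ z : P, z ≠ 1) |> fun ⟨z, hz⟩ =>
    (⟨z.1, z.2, fun h => hz (Subtype.ext h)⟩ : ∃ z : G, z ∈ P ∧ z ≠ 1)
  intro n hn
  have hn' := Subgroup.mem_normalizer_iff.mp hn
  have hu : d⁻¹ * z * d ∈ R.U := (hd z).mp (hT hz)
  have hu1 : d⁻¹ * z * d ≠ 1 := by
    intro h
    apply hz1
    have e : z = d * (d⁻¹ * z * d) * d⁻¹ := by group
    rw [e, h]
    group
  have hv : d⁻¹ * (n * z * n⁻¹) * d ∈ R.U := (hd _).mp (hT ((hn' z).mp hz))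
  have hB : (d⁻¹ * n * d)⁻¹ ∈ R.B := by
    apply RD.RL.U_fix_unique R hu hu1
    have e : (d⁻¹ * n * d)⁻¹⁻¹ * (d⁻¹ * z * d) * (d⁻¹ * n * d)⁻¹ = d⁻¹ * (n * z * n⁻¹) * d := by group
    rw [e]
    exact R.U_le_B hv
  have hB' : d⁻¹ * n * d ∈ R.B := by
    have := R.B.inv_mem hB
    rwa [inv_inv] at this
  rw [Subgroup.mem_normalizer_iff]
  intro x
  rw [hd x, hd (n * x * n⁻¹)]
  constructor
  · intro h
    have h1 := R.B_conj_U hB' h
    have e : d⁻¹ * n * d * (d⁻¹ * x * d) * (d⁻¹ * n * d)⁻¹ = d⁻¹ * (n * x * n⁻¹) * d := by group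
    rwa [e] at h1
  · intro h
    have h1 := R.B_conj_U hB h
    have e : (d⁻¹ * n * d)⁻¹ * (d⁻¹ * (n * x * n⁻¹) * d) * (d⁻¹ * n * d)⁻¹⁻¹ = d⁻¹ * x * d := by group
    rwa [e] at h1

/-- The case of an `ρ`-subgroup for a big prime `ρ`. -/
theorem big_case {x₀ : G} (hx : (orderOf x₀).Prime) (hd : orderOf x₀ ∣ wq K) (hxa : x₀ * R.h (-1) = R.h (-1) * x₀)
    {r : ℕ} (hr : r * r = 3 * Fintype.card K) {ρ : ℕ} (hρ : ρ.Prime) (hρ3 : 3 < ρ) {P : Subgroup G} (hP : IsPGroup ρ P) (hb : P ≠ ⊥) :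
    ∃ A : Subgroup G, Subgroup.normalizer (P : Set G) ≤ Subgroup.normalizer (A : Set G) ∧ GoodC K r A := by
  classical
  haveI : Fact ρ.Prime := ⟨hρ⟩
  have C := D.toCtx
  have hcP := C.hcyc ρ hρ hρ3 P hP
  obtain ⟨k, hk⟩ := IsPGroup.iff_card.mp hP
  have hk0 : k ≠ 0 := by
    rintro rfl
    rw [pow_zero] at hk
    exact hb (Subgroup.card_eq_one.mp hk)
  obtain ⟨z, hz⟩ := exists_prime_orderOf_dvd_card' (G := P) ρ (by rw [hk]; exact dvd_pow_self _ hk0)
  have hox : orderOf z.1 = ρ := by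
    rw [Subgroup.orderOf_coe, hz]
  obtain ⟨x, hxe⟩ : ∃ x, x = z.1 := ⟨_, rfl⟩
  rw [← hxe] at hox
  have hxP : x ∈ P := by
    rw [hxe]
    exact z.2
  have hNC : Subgroup.normalizer (P : Set G) ≤ Subgroup.normalizer (Subgroup.centralizer {x} : Set G) := by
    intro n hn
    exact cent_norm hcP hxP (by rw [hox]; exact hρ) hn
  have hρG : ρ ∣ Nat.card G := by
    rw [← hox]
    exact orderOf_dvd_natCard x
  have hodd : Fintype.card K % 2 = 1 := by
    have := C.hq8
    omega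
  rcases C.prime_G hρ hρG with h | h | h | h
  · have := Ctx.prime_dvd_q hρ h
    omega
  · obtain ⟨h1, h2, h3⟩ := R.cent_sp C.hG C.hq hρ (by omega) h hox
    refine ⟨tors _ h3 ((Fintype.card K - 1) / 2), hNC.trans (fun n hn => norm_tors h3 _ hn), ?_⟩
    have hdv : (Fintype.card K - 1) / 2 ∣ Nat.card ↥(Subgroup.centralizer {x}) := by
      rw [h1]
      exact ⟨2, by omega⟩
    obtain ⟨h4, h5⟩ := tors_cyc h3 h2 hdv
    exact ⟨h4, Or.inl h5⟩
  · have hw : ρ ∣ wq K := by
      rw [C.hw] at h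
      have hco : Nat.Coprime ρ 4 := by
        have : (4 : ℕ) = 2 ^ 2 := by norm_num
        rw [this]
        apply Nat.Coprime.pow_right
        exact (Nat.coprime_primes hρ Nat.prime_two).mpr (by omega)
      exact hco.dvd_of_dvd_mul_left h
    have hxp : (orderOf x).Prime := by rw [hox]; exact hρ
    have hxd : orderOf x ∣ wq K := by rw [hox]; exact hw
    refine ⟨tors _ (C.x_cent hxp hxd).2 (wq K), hNC.trans (fun n hn => norm_tors _ _ hn), C.O_cyc hxp hxd, Or.inr (Or.inl ?_)⟩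
    exact (tors_card _ (C.x_cent hxp hxd).2 C.hw_odd (C.card_4w hxp hxd) (fun z _ hz => C.h4 hz)).1
  · have hxp : (orderOf x).Prime := by rw [hox]; exact hρ
    have hxd : orderOf x ∣ nq K := by rw [hox]; exact h
    refine ⟨_, hNC, D.M_cyc hxp hxd, ?_⟩
    rcases D.card_cent_nq hx hd hxa hr hxp hxd with h | h
    · exact Or.inr (Or.inr (Or.inl h))
    · exact Or.inr (Or.inr (Or.inr h))

end Ctx3

end Cfsg.Agent.Lib.Ree
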