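import Cfsg.Agent.Lib.Ree.Act

/-! The twisted Frobenius map and the parametrisation of the torus action. -/

set_option autoImplicit false
set_option linter.unusedSimpArgs false
set_option linter.unusedVariables false
set_option linter.unusedSectionVars false

namespace Cfsg.Agent.Lib.Ree

namespace RD

section tau

variable {K : Type*} [Field K] [CharP K 3] (f : K ≃+* K)

/-- The twisted Frobenius map. -/
def tau (x : K) : K := f x ^ 3

theorem tau_add (x y : K) : tau f (x + y) = tau f x + tau f y := by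
  unfold tau
  rw [map_add]
  exact Cfsg.Agent.Lib.Chev.TwG2.add_cube _ _

theorem tau_mul (x y : K) : tau f (x * y) = tau f x * tau f y := by
  unfold tau
  rw [map_mul, mul_pow]

@[simp] theorem tau_one : tau f (1 : K) = 1 := by
  unfold tau
  simp

@[simp] theorem tau_zero : tau f (0 : K) = 0 := by
  unfold tau
  simp

theorem tau_neg (x : K) : tau f (-x) = - tau f x := by
  unfold tau
  rw [map_neg, Odd.neg_pow (by decide)]

theorem tau_inv (x : K) : tau f x⁻¹ = (tau f x)⁻¹ := by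
  unfold tau
  rw [map_inv₀, inv_pow]

theorem tau_ne_zero {x : K} (h : x ≠ 0) : tau f x ≠ 0 := by
  unfold tau
  exact pow_ne_zero 3 ((map_ne_zero f).mpr h)

variable {f}

theorem tau_tau (hf3 : ∀ x, f (f x) ^ 3 = x) (x : K) : tau f (tau f x) = x ^ 3 := by
  unfold tau
  rw [map_pow, ← pow_mul, mul_comm, pow_mul, hf3]

/-- The main character. -/
noncomputable def c1 (f : K ≃+* K) : Kˣ →* Kˣ where
  toFun s := s⁻¹ ^ 3 * (Units.map (f : K →* K) s) ^ 6
  map_one' := by simp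
  map_mul' a b := by
    simp only [map_mul, mul_inv_rev, mul_pow]
    ac_rfl

theorem c1_val (s : Kˣ) : ((c1 f s : Kˣ) : K) = (s : K)⁻¹ ^ 3 * f (s : K) ^ 6 := by
  simp [c1]

theorem tau_c1 (hf3 : ∀ x, f (f x) ^ 3 = x) (s : Kˣ) : tau f ((c1 f s : Kˣ) : K) = (f (s : K))⁻¹ ^ 9 * (s : K) ^ 6 := by
  rw [c1_val]
  unfold tau
  simp only [map_mul, map_pow, map_inv₀]
  have e : ∀ A C : K, (A⁻¹ ^ 3 * C ^ 6) ^ 3 = A⁻¹ ^ 9 * (C ^ 3) ^ 6 := by
    intro A C
    ring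
  rw [e, hf3]

theorem c2_eq (hf3 : ∀ x, f (f x) ^ 3 = x) (s : Kˣ) :
    (s : K) ^ 3 * (f (s : K))⁻¹ ^ 3 = ((c1 f s : Kˣ) : K) * tau f ((c1 f s : Kˣ) : K) := by
  rw [tau_c1 hf3, c1_val]
  have h1 : (s : K) ≠ 0 := s.ne_zero
  have h2 : f (s : K) ≠ 0 := (map_ne_zero f).mpr h1
  field_simp

theorem c3_eq (hf3 : ∀ x, f (f x) ^ 3 = x) (s : Kˣ) :
    f (s : K) ^ 3 = ((c1 f s : Kˣ) : K) ^ 2 * tau f ((c1 f s : Kˣ) : K) := by
  rw [tau_c1 hf3, c1_val]
  have h1 : (s : K) ≠ 0 := s.ne_zero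
  have h2 : f (s : K) ≠ 0 := (map_ne_zero f).mpr h1
  field_simp

theorem two_ne : (2 : K) ≠ 0 := by
  intro h
  have h2 : (3 : K) = 0 := three_eq
  have h3 : (1 : K) = 0 := by linear_combination h2 - h
  exact one_ne_zero h3

theorem neg_one_ne_one : (-1 : K) ≠ 1 := by
  intro h
  exact two_ne (K := K) (by linear_combination -h)

theorem unit_neg_one_ne_one : (-1 : Kˣ) ≠ 1 := by
  intro h
  exact neg_one_ne_one (K := K) (by simpa using congrArg Units.val h)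

theorem c1_neg_one : ((c1 f (-1) : Kˣ) : K) = -1 := by
  rw [c1_val]
  simp
  norm_num

/-- The main character is injective. -/
theorem c1_inj (hf3 : ∀ x, f (f x) ^ 3 = x) : Function.Injective (c1 f) := by
  rw [injective_iff_map_eq_one]
  intro s hs
  by_contra hne
  have hs1 : ((c1 f s : Kˣ) : K) = 1 := by rw [hs]; rfl
  by_cases h : (s : K) ^ 2 = 1
  · have h1 : ((s : K) - 1) * ((s : K) + 1) = 0 := by linear_combination h
    rcases mul_eq_zero.mp h1 with h2 | h2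
    · exact hne (Units.ext (by simpa using sub_eq_zero.mp h2))
    · have e : s = -1 := Units.ext (by simpa using eq_neg_of_add_eq_zero_left h2)
      rw [e, c1_neg_one] at hs1
      exact neg_one_ne_one hs1
  · rw [c1_val] at hs1
    exact Cfsg.Agent.Lib.Chev.TwG2.chi1 f hf3 h hs1

theorem c1_surj [Finite K] (hf3 : ∀ x, f (f x) ^ 3 = x) : Function.Surjective (c1 f) :=
  Finite.surjective_of_injective (c1_inj hf3)

theorem tau_surj [Finite K] (hf3 : ∀ x, f (f x) ^ 3 = x) : Function.Surjective (tau f) := by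
  apply Finite.surjective_of_injective
  intro a b h
  have h1 : tau f a - tau f b = 0 := sub_eq_zero.mpr h
  have h2 : tau f (a - b) = 0 := by
    rw [sub_eq_add_neg, tau_add, tau_neg, ← sub_eq_add_neg]
    exact h1
  by_contra hne
  exact tau_ne_zero f (sub_ne_zero.mpr hne) h2

end tau

variable {K : Type*} [Field K] [CharP K 3] {f : K ≃+* K} {G : Type*} [Group G] (R : RD K f G)

/-- The action of the torus in terms of the main character. -/
theorem h_t' (s : Kˣ) (a b c : K) : R.h s * R.t a b c * (R.h s)⁻¹ =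
    R.t (((c1 f s : Kˣ) : K) * a) (((c1 f s : Kˣ) : K) * tau f ((c1 f s : Kˣ) : K) * b)
      (((c1 f s : Kˣ) : K) ^ 2 * tau f ((c1 f s : Kˣ) : K) * c) := by
  rw [R.h_t, ← c2_eq R.hf3, ← c3_eq R.hf3, c1_val]

theorem h_mul_t' (s : Kˣ) (a b c : K) : R.h s * R.t a b c =
    R.t (((c1 f s : Kˣ) : K) * a) (((c1 f s : Kˣ) : K) * tau f ((c1 f s : Kˣ) : K) * b)
      (((c1 f s : Kˣ) : K) ^ 2 * tau f ((c1 f s : Kˣ) : K) * c) * R.h s := by
  rw [← R.h_t']
  group

/-- Elements of `H` in `U` are trivial. -/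
theorem h_in_U {s : Kˣ} (h : R.h s ∈ R.U) : s = 1 := by
  have h1 : IsPGroup 3 ↥R.U := R.isP_U
  obtain ⟨k, hk⟩ := h1 ⟨R.h s, h⟩
  have h2 : R.h (s ^ 3 ^ k) = 1 := by
    rw [map_pow]
    exact congrArg Subtype.val hk
  have h3 : s ^ 3 ^ k = 1 := R.h_inj (by rw [h2, map_one])
  have h4 : (s : K) ^ 3 ^ k = 1 := by
    have := congrArg Units.val h3
    simpa using this
  have h5 : ((s : K) - 1) ^ 3 ^ k = 0 := by
    rw [sub_pow_char_pow, h4]
    simp
  have h6 : (s : K) - 1 = 0 := pow_eq_zero_iff (by positivity) |>.mp h5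
  exact Units.ext (by simpa using sub_eq_zero.mp h6)

/-- Uniqueness of the factorisation in `B`. -/
theorem tB_inj {a b c a' b' c' : K} {s s' : Kˣ} (h : R.t a b c * R.h s = R.t a' b' c' * R.h s') :
    (a = a' ∧ b = b' ∧ c = c') ∧ s = s' := by
  have h1 : R.h (s' * s⁻¹) ∈ R.U := by
    have e : R.h (s' * s⁻¹) = (R.t a' b' c')⁻¹ * R.t a b c := by
      rw [map_mul, map_inv]
      have : R.t a b c = R.t a' b' c' * R.h s' * (R.h s)⁻¹ := by
        rw [← h]
        group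
      rw [this]
      group
    rw [e]
    exact Subgroup.mul_mem _ (Subgroup.inv_mem _ (R.t_mem _ _ _)) (R.t_mem _ _ _)
  have h2 := R.h_in_U h1
  have h3 : s' = s := by
    have := mul_inv_eq_one.mp h2
    exact this
  subst h3
  exact ⟨R.t_inj (mul_right_cancel h), rfl⟩

/-- An element of `U` commuting with a regular element of `H` is trivial. -/
theorem t_fix {r : Kˣ} (hr : (r : K) ^ 2 ≠ 1) {a b c : K} (h : R.h r * R.t a b c = R.t a b c * R.h r) :
    a = 0 ∧ b = 0 ∧ c = 0 := by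
  by_contra hne
  rw [R.h_mul_t] at h
  obtain ⟨e1, e2, e3⟩ := R.t_inj (mul_right_cancel h)
  exact hr (R.sq_eq_of_fix hne e1 e2 e3)

/-- Conjugates of `H` by `B`. -/
theorem B_conj_h {g : G} (hg : g ∈ R.B) (r : Kˣ) : ∃ a b c, g * R.h r * g⁻¹ = R.t a b c * R.h r := by
  obtain ⟨a, b, c, s, rfl⟩ := hg
  have h1 : R.h s * R.h r * (R.h s)⁻¹ = R.h r := by
    rw [← map_inv, ← map_mul, ← map_mul]
    congr 1
    rw [mul_comm s, mul_assoc, mul_inv_cancel, mul_one]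
  have h2 : R.t a b c * R.h s * R.h r * (R.t a b c * R.h s)⁻¹ = R.t a b c * (R.h r * (R.t a b c)⁻¹ * (R.h r)⁻¹) * R.h r := by
    calc R.t a b c * R.h s * R.h r * (R.t a b c * R.h s)⁻¹
        = R.t a b c * (R.h s * R.h r * (R.h s)⁻¹) * (R.t a b c)⁻¹ := by group
      _ = _ := by rw [h1]; group
  have h3 : R.t a b c * (R.h r * (R.t a b c)⁻¹ * (R.h r)⁻¹) ∈ R.U :=
    Subgroup.mul_mem _ (R.t_mem _ _ _) (R.h_conj_U r (Subgroup.inv_mem _ (R.t_mem _ _ _)))
  obtain ⟨a', b', c', e⟩ := h3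
  exact ⟨a', b', c', by rw [h2, e]⟩

theorem sq_of_eq_inv {r : Kˣ} (h : r = r⁻¹) : (r : K) ^ 2 = 1 := by
  have h1 : r * r = 1 := by
    nth_rewrite 2 [h]
    exact mul_inv_cancel r
  have := congrArg Units.val h1
  rw [pow_two]
  simpa using this

/-- The centraliser of a regular element of `H` is `H`. -/
theorem cent_h {r : Kˣ} (hr : (r : K) ^ 2 ≠ 1) {g : G} (hg : g * R.h r = R.h r * g) : ∃ s, g = R.h s := by
  rcases R.bruhat g with ⟨a, b, c, s, rfl⟩ | ⟨a, b, c, a', b', c', s, rfl⟩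
  · refine ⟨s, ?_⟩
    have h1 : R.h r * R.t a b c = R.t a b c * R.h r := by
      have e : R.t a b c * R.h s * R.h r = R.t a b c * R.h r * R.h s := by
        rw [mul_assoc, ← map_mul, mul_comm, map_mul, mul_assoc]
      rw [e] at hg
      have e2 : R.h r * (R.t a b c * R.h s) = (R.h r * R.t a b c) * R.h s := by group
      rw [e2] at hg
      exact (mul_right_cancel hg).symm
    obtain ⟨rfl, rfl, rfl⟩ := R.t_fix hr h1
    rw [R.t_zero, one_mul]
  · exfalso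
    set t₁ := R.t a b c with ht₁
    set b₂ := R.t a' b' c' * R.h s with hb₂
    have hb₂B : b₂ ∈ R.B := ⟨_, _, _, _, rfl⟩
    -- n b n⁻¹ = t₁⁻¹ h t₁
    have h1 : ((t₁)⁻¹ * R.h r * t₁) * R.n = R.n * (b₂ * R.h r * b₂⁻¹) := by
      have e : t₁ * R.n * b₂ * R.h r = R.h r * (t₁ * R.n * b₂) := hg
      calc ((t₁)⁻¹ * R.h r * t₁) * R.n = t₁⁻¹ * (R.h r * (t₁ * R.n * b₂)) * b₂⁻¹ := by group
        _ = t₁⁻¹ * (t₁ * R.n * b₂ * R.h r) * b₂⁻¹ := by rw [← e]
        _ = _ := by group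
    have hB1 : (t₁)⁻¹ * R.h r * t₁ ∈ R.B :=
      Subgroup.mul_mem _ (Subgroup.mul_mem _ (Subgroup.inv_mem _ (R.t_mem_B _ _ _)) (R.h_mem_B _)) (R.t_mem_B _ _ _)
    have hB2 : b₂ * R.h r * b₂⁻¹ ∈ R.B :=
      Subgroup.mul_mem _ (Subgroup.mul_mem _ hb₂B (R.h_mem_B _)) (Subgroup.inv_mem _ hb₂B)
    obtain ⟨s₁, hs₁⟩ := R.B_n_B hB1 hB2 h1
    -- t₁ is fixed
    have h2 : R.t 0 0 0 * R.h s₁ = (t₁)⁻¹ * R.h r * t₁ := by
      rw [R.t_zero, one_mul, hs₁]
    have h3 : R.h r * t₁ = t₁ * R.h s₁ := by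
      rw [R.t_zero, one_mul] at h2
      rw [h2]
      group
    rw [ht₁, R.h_mul_t] at h3
    obtain ⟨⟨e1, e2, e3⟩, e4⟩ := R.tB_inj h3
    subst e4
    have h4 : R.h r * t₁ = t₁ * R.h r := by
      rw [ht₁, R.h_mul_t, e1, e2, e3]
    obtain ⟨e5, e6, e7⟩ := R.t_fix hr h4
    rw [e5, e6, e7] at ht₁
    have ht1 : t₁ = 1 := by rw [ht₁, R.t_zero]
    -- now b₂ h b₂⁻¹ = n⁻¹ h n = h⁻¹, congruent to h modulo U
    have h5 : R.n * (b₂ * R.h r * b₂⁻¹) = R.h r * R.n := by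
      rw [← h1, ht1]
      group
    have h6 : b₂ * R.h r * b₂⁻¹ = R.h r⁻¹ := by
      have e8 := R.h_mul_n r
      rw [e8] at h5
      exact mul_left_cancel h5
    obtain ⟨a₁, b₁, c₁, e⟩ := R.B_conj_h hb₂B r
    rw [e] at h6
    have h7 : R.t a₁ b₁ c₁ * R.h r = R.t 0 0 0 * R.h r⁻¹ := by
      rw [h6, R.t_zero, one_mul]
    exact hr (sq_of_eq_inv (R.tB_inj h7).2)

end RD

end Cfsg.Agent.Lib.Ree
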