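import Cfsg.Agent.Lib.Ree.SLi

/-! Splitting commutative groups of order `4 w`. -/

set_option autoImplicit false
set_option linter.unusedSimpArgs false
set_option linter.unusedVariables false
set_option linter.unusedSectionVars false

namespace Cfsg.Agent.Lib.Ree

section Tors

variable {G : Type*} [Group G]

/-- Torsion of a commutative subgroup. -/
def tors (A : Subgroup G) (hA : ∀ u ∈ A, ∀ v ∈ A, u * v = v * u) (m : ℕ) : Subgroup G where
  carrier := {z | z ∈ A ∧ z ^ m = 1}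
  mul_mem' := by
    rintro a b ⟨ha, ha'⟩ ⟨hb, hb'⟩
    refine ⟨mul_mem ha hb, ?_⟩
    rw [(show Commute a b from hA a ha b hb).mul_pow, ha', hb', one_mul]
  one_mem' := ⟨one_mem _, one_pow _⟩
  inv_mem' := by
    rintro a ⟨ha, ha'⟩
    exact ⟨inv_mem ha, by rw [inv_pow, ha', inv_one]⟩

theorem mem_tors {A : Subgroup G} {hA : ∀ u ∈ A, ∀ v ∈ A, u * v = v * u} {m : ℕ} {z : G} :
    z ∈ tors A hA m ↔ z ∈ A ∧ z ^ m = 1 := Iff.rfl

theorem tors_inter {x : G} {w : ℕ} (hw : Odd w) (h1 : x ^ w = 1) (h2 : x ^ 2 = 1) : x = 1 := by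
  have h4 := pow_gcd_eq_one.mpr ⟨h1, h2⟩
  have h5 : Nat.gcd w 2 = 1 := hw.coprime_two_right
  rwa [h5, pow_one] at h4

variable [Finite G] (A : Subgroup G) (hA : ∀ u ∈ A, ∀ v ∈ A, u * v = v * u)

theorem tors_split {w : ℕ} (hw : Odd w) (hc : Nat.card A = 4 * w) (h2 : ∀ z ∈ A, z ^ 4 = 1 → z ^ 2 = 1) {z : G} (hz : z ∈ A) :
    ∃ u ∈ tors A hA w, ∃ v ∈ tors A hA 2, z = u * v := by
  obtain ⟨k, hk⟩ := hw
  have h4 : (z ^ w) ^ 4 = 1 := by
    have h5 : (⟨z, hz⟩ : A) ^ (4 * w) = 1 := by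
      rw [← hc]
      exact pow_card_eq_one'
    have h6 : z ^ (4 * w) = 1 := by simpa using congrArg Subtype.val h5
    rw [← pow_mul, mul_comm]
    exact h6
  have h5 : (z ^ w) ^ 2 = 1 := h2 _ (pow_mem hz _) h4
  refine ⟨(z ^ (2 * k))⁻¹, ⟨inv_mem (pow_mem hz _), ?_⟩, z ^ w, ⟨pow_mem hz _, h5⟩, ?_⟩
  · have e : z ^ (w * (2 * k)) = ((z ^ w) ^ 2) ^ k := by rw [← pow_mul, ← pow_mul]
    rw [inv_pow, ← pow_mul, mul_comm, e, h5, one_pow, inv_one]
  · rw [hk, pow_succ]
    group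

theorem tors_card {w : ℕ} (hw : Odd w) (hc : Nat.card A = 4 * w) (h2 : ∀ z ∈ A, z ^ 4 = 1 → z ^ 2 = 1) :
    Nat.card (tors A hA w) = w ∧ Nat.card (tors A hA 2) = 4 := by
  classical
  let F : (tors A hA w) × (tors A hA 2) → A := fun p => ⟨p.1.1 * p.2.1, mul_mem p.1.2.1 p.2.2.1⟩
  have hF : Function.Bijective F := by
    constructor
    · rintro ⟨u, v⟩ ⟨u', v'⟩ h
      have h1 : u.1 * v.1 = u'.1 * v'.1 := congrArg Subtype.val h
      have h3 : u'.1⁻¹ * u.1 = v'.1 * v.1⁻¹ := by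
        have e : u'.1⁻¹ * u.1 = u'.1⁻¹ * (u.1 * v.1) * v.1⁻¹ := by group
        rw [e, h1]
        group
      have h4 : u'.1⁻¹ * u.1 ∈ tors A hA w := mul_mem (inv_mem u'.2) u.2
      have h5 : v'.1 * v.1⁻¹ ∈ tors A hA 2 := mul_mem v'.2 (inv_mem v.2)
      rw [← h3] at h5
      have h6 := tors_inter hw h4.2 h5.2
      have h7 : u.1 = u'.1 := by
        have := inv_mul_eq_one.mp h6
        exact this.symm
      have h8 : v.1 = v'.1 := by
        rw [h7] at h1
        exact mul_left_cancel h1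
      exact Prod.ext (Subtype.ext h7) (Subtype.ext h8)
    · rintro ⟨z, hz⟩
      obtain ⟨u, hu, v, hv, e⟩ := tors_split A hA hw hc h2 hz
      exact ⟨(⟨u, hu⟩, ⟨v, hv⟩), Subtype.ext e.symm⟩
  have h1 := Nat.card_congr (Equiv.ofBijective F hF)
  rw [Nat.card_prod, hc] at h1
  haveI : Fact (Nat.Prime 2) := ⟨Nat.prime_two⟩
  have hP : IsPGroup 2 (tors A hA 2) := by
    rintro ⟨z, hz⟩
    exact ⟨1, Subtype.ext (by simpa using hz.2)⟩
  obtain ⟨j, hj⟩ := IsPGroup.iff_card.mp hP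
  have hodd : ¬ 2 ∣ Nat.card (tors A hA w) := by
    intro h
    obtain ⟨z, hz⟩ := exists_prime_orderOf_dvd_card' (G := tors A hA w) 2 h
    have h3 : z.1 ^ 2 = 1 := by
      have : z ^ 2 = 1 := by rw [← hz]; exact pow_orderOf_eq_one z
      simpa using congrArg Subtype.val this
    have h4 := tors_inter hw z.2.2 h3
    have h5 : z = 1 := Subtype.ext h4
    rw [h5, orderOf_one] at hz
    omega
  rw [hj] at h1
  obtain ⟨k, hk⟩ := hw
  set o := Nat.card (tors A hA w) with ho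
  have hj2 : j = 2 := by
    rcases lt_trichotomy j 2 with h | h | h
    · exfalso
      have : j = 0 ∨ j = 1 := by omega
      rcases this with rfl | rfl
      · apply hodd
        simp at h1
        omega
      · apply hodd
        simp at h1
        omega
    · exact h
    · exfalso
      obtain ⟨i, rfl⟩ : ∃ i, j = 3 + i := ⟨j - 3, by omega⟩
      rw [pow_add] at h1
      have h8 : 2 ∣ 2 * k + 1 := by
        have h9 : 8 ∣ 4 * w := ⟨o * 2 ^ i, by rw [← h1]; ring⟩
        rw [hk] at h9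
        omega
      omega
  subst hj2
  constructor
  · simp at h1
    omega
  · rw [hj]
    norm_num

variable {A} {hA}

theorem ord_mul_tors {w : ℕ} (hw : Odd w) {u v : G} (hu : u ∈ tors A hA w) (hv : v ∈ tors A hA 2) :
    orderOf (u * v) = orderOf u * orderOf v := by
  apply Commute.orderOf_mul_eq_mul_orderOf_of_coprime (hA u hu.1 v hv.1)
  have h1 := orderOf_dvd_of_pow_eq_one hu.2
  have h2 := orderOf_dvd_of_pow_eq_one hv.2
  exact Nat.Coprime.coprime_dvd_left h1 (Nat.Coprime.coprime_dvd_right h2 hw.coprime_two_right)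

variable (hA)

/-- The elements of order `2 i`. -/
theorem ncard_even_set {w : ℕ} (hw : Odd w) (hc : Nat.card A = 4 * w) (h2 : ∀ z ∈ A, z ^ 4 = 1 → z ^ 2 = 1)
    (D : Set ℕ) (hD : ∀ i ∈ D, i ∣ w) :
    {x | x ∈ A ∧ ∃ i ∈ D, orderOf x = 2 * i}.ncard = 3 * {x | x ∈ tors A hA w ∧ orderOf x ∈ D}.ncard := by
  classical
  set T : Set G := {v | v ∈ tors A hA 2 ∧ v ≠ 1} with hT
  have hTc : T.ncard = 3 := by
    have h3 : T = (tors A hA 2 : Set G) \ {1} := by
      ext v
      simp [hT]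
    have h4 := (tors_card A hA hw hc h2).2
    rw [h3, Set.ncard_sdiff_singleton_of_mem (one_mem (tors A hA 2)), ← Nat.card_coe_set_eq]
    simp only [SetLike.coe_sort_coe]
    omega
  have hord2 : ∀ v ∈ T, orderOf v = 2 := by
    rintro v ⟨hv, hv1⟩
    exact orderOf_eq_prime hv.2 hv1
  have hodd : ∀ u ∈ tors A hA w, Odd (orderOf u) := by
    intro u hu
    exact Odd.of_dvd_nat hw (orderOf_dvd_of_pow_eq_one hu.2)
  have e : {x | x ∈ A ∧ ∃ i ∈ D, orderOf x = 2 * i} =
      (fun p : G × G => p.1 * p.2) '' ({x | x ∈ tors A hA w ∧ orderOf x ∈ D} ×ˢ T) := by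
    ext x
    constructor
    · rintro ⟨hx, i, hi, hoi⟩
      obtain ⟨u, hu, v, hv, rfl⟩ := tors_split A hA hw hc h2 hx
      have h3 := ord_mul_tors hw hu hv
      rw [h3] at hoi
      have h4 : orderOf v ∣ 2 := orderOf_dvd_of_pow_eq_one hv.2
      have h5 : orderOf v ≤ 2 := Nat.le_of_dvd (by norm_num) h4
      have hou := hodd u hu
      have h6 : orderOf v = 2 := by
        by_contra h7
        have h8 : orderOf v = 1 := by
          have := orderOf_pos v
          omega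
        rw [h8, mul_one] at hoi
        obtain ⟨k, hk⟩ := hou
        omega
      refine ⟨(u, v), ⟨⟨hu, ?_⟩, ⟨hv, ?_⟩⟩, rfl⟩
      · rw [h6, mul_comm] at hoi
        have : orderOf u = i := Nat.eq_of_mul_eq_mul_left (by norm_num) hoi
        rw [this]
        exact hi
      · rintro rfl
        rw [orderOf_one] at h6
        omega
    · rintro ⟨⟨u, v⟩, ⟨⟨hu, hi⟩, hv⟩, rfl⟩
      refine ⟨mul_mem hu.1 hv.1.1, orderOf u, hi, ?_⟩
      simp only
      rw [ord_mul_tors hw hu hv.1, hord2 v hv, mul_comm]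
  rw [e, Set.ncard_image_of_injOn, Set.ncard_prod, hTc, mul_comm]
  rintro ⟨u, v⟩ ⟨⟨hu, -⟩, hv⟩ ⟨u', v'⟩ ⟨⟨hu', -⟩, hv'⟩ h
  have h1 : u * v = u' * v' := h
  have h3 : u'⁻¹ * u = v' * v⁻¹ := by
    have e : u'⁻¹ * u = u'⁻¹ * (u * v) * v⁻¹ := by group
    rw [e, h1]
    group
  have h4 : u'⁻¹ * u ∈ tors A hA w := mul_mem (inv_mem hu') hu
  have h5 : v' * v⁻¹ ∈ tors A hA 2 := mul_mem hv'.1 (inv_mem hv.1)
  rw [← h3] at h5
  have h6 := tors_inter hw h4.2 h5.2
  have h7 : u = u' := (inv_mul_eq_one.mp h6).symm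
  have h8 : v = v' := by
    rw [h7] at h1
    exact mul_left_cancel h1
  rw [h7, h8]

/-- Existence of an element of order `2 i`. -/
theorem exists_two_mul {w : ℕ} (hw : Odd w) (hc : Nat.card A = 4 * w) (h2 : ∀ z ∈ A, z ^ 4 = 1 → z ^ 2 = 1)
    {u : G} (hu : u ∈ tors A hA w) : ∃ x ∈ A, orderOf x = 2 * orderOf u := by
  have h4 := (tors_card A hA hw hc h2).2
  have h5 : 1 < Nat.card (tors A hA 2) := by omega
  haveI : Nontrivial (tors A hA 2) := Finite.one_lt_card_iff_nontrivial.mp h5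
  obtain ⟨v, hv⟩ := exists_ne (1 : tors A hA 2)
  have hv1 : v.1 ≠ 1 := fun h => hv (Subtype.ext h)
  refine ⟨u * v.1, mul_mem hu.1 v.2.1, ?_⟩
  rw [ord_mul_tors hw hu v.2, orderOf_eq_prime v.2.2 hv1, mul_comm]

end Tors

/-- A commutative group with cyclic Sylow subgroups is cyclic. -/
theorem cyc_of_abelian {A : Type*} [Group A] [Finite A] (hcomm : ∀ u v : A, u * v = v * u)
    (hS : ∀ p : ℕ, p.Prime → ∀ P : Subgroup A, IsPGroup p P → IsCyclic P) : IsCyclic A := by
  letI : CommGroup A := { (inferInstance : Group A) with mul_comm := hcomm }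
  haveI : IsZGroup A := ⟨fun p hp P => hS p hp P.toSubgroup P.isPGroup'⟩
  haveI : Group.IsNilpotent A := CommGroup.isNilpotent
  infer_instance

/-- A commutative subgroup of order prime to six is cyclic when the Sylow subgroups for big primes are. -/
theorem cyc_sub {G : Type*} [Group G] [Finite G]
    (hcyc : ∀ r : ℕ, r.Prime → 3 < r → ∀ P : Subgroup G, IsPGroup r P → IsCyclic P)
    (H : Subgroup G) (hH : ∀ u ∈ H, ∀ v ∈ H, u * v = v * u) (h2 : ¬ 2 ∣ Nat.card H) (h3 : ¬ 3 ∣ Nat.card H) : IsCyclic H := by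
  apply cyc_of_abelian (fun u v => Subtype.ext (hH u.1 u.2 v.1 v.2))
  intro p hp P hP
  by_cases hp3 : 3 < p
  · have h1 := hcyc p hp hp3 (P.map H.subtype) (hP.map _)
    exact (MulEquiv.isCyclic (Subgroup.equivMapOfInjective P _ H.subtype_injective)).mpr h1
  · haveI : Fact p.Prime := ⟨hp⟩
    obtain ⟨n, hn⟩ := IsPGroup.iff_card.mp hP
    have hd : Nat.card P ∣ Nat.card H := Subgroup.card_subgroup_dvd_card P
    have hn0 : n = 0 := by
      by_contra h0
      have hpd : p ∣ Nat.card H := by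
        rw [hn] at hd
        exact (dvd_pow_self p h0).trans hd
      have : p = 2 ∨ p = 3 := by
        have := hp.two_le
        interval_cases p <;> omega
      rcases this with rfl | rfl
      · exact h2 hpd
      · exact h3 hpd
    rw [hn0, pow_zero] at hn
    haveI : Subsingleton P := (Nat.card_eq_one_iff_unique.mp hn).1
    infer_instance

/-- Conjugacy of elements of the same prime order in a subgroup. -/
theorem conj_in_sub {G : Type*} [Group G] [Finite G]
    (hcyc : ∀ r : ℕ, r.Prime → 3 < r → ∀ P : Subgroup G, IsPGroup r P → IsCyclic P)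
    (J : Subgroup G) {u v : G} (hu : u ∈ J) (hv : v ∈ J) {p : ℕ} (hp : p.Prime) (hp3 : 3 < p)
    (hou : orderOf u = p) (hov : orderOf v = p)
    (hC : ∀ y : G, orderOf y = p → ∀ a ∈ Subgroup.centralizer {y}, ∀ b ∈ Subgroup.centralizer {y}, a * b = b * a) :
    ∃ e ∈ J, e * u * e⁻¹ ∈ Subgroup.zpowers v := by
  have hcyc' : ∀ r : ℕ, r.Prime → 3 < r → ∀ P : Subgroup J, IsPGroup r P → IsCyclic P := by
    intro r hr hr3 P hP
    have h1 := hcyc r hr hr3 (P.map J.subtype) (hP.map _)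
    exact (MulEquiv.isCyclic (Subgroup.equivMapOfInjective P _ J.subtype_injective)).mpr h1
  have hd3 : ∀ r : ℕ, r.Prime → r ∣ p → 3 < r := by
    intro r hr hd
    rw [(Nat.prime_dvd_prime_iff_eq hr hp).mp hd]
    exact hp3
  have hC' : ∀ y : J, (orderOf y).Prime → orderOf y ∣ p → ∀ a ∈ Subgroup.centralizer {y}, ∀ b ∈ Subgroup.centralizer {y}, a * b = b * a := by
    intro y hy hd a ha b hb
    have hoy : orderOf y.1 = p := by
      rw [Subgroup.orderOf_coe]
      exact (Nat.prime_dvd_prime_iff_eq hy hp).mp hd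
    apply Subtype.ext
    apply hC y.1 hoy
    · exact Subgroup.mem_centralizer_singleton_iff.mpr (congrArg Subtype.val (Subgroup.mem_centralizer_singleton_iff.mp ha))
    · exact Subgroup.mem_centralizer_singleton_iff.mpr (congrArg Subtype.val (Subgroup.mem_centralizer_singleton_iff.mp hb))
  obtain ⟨g, hg⟩ := conj_of_comm (G := J) hcyc' hd3 hC' (Subgroup.zpowers (⟨u, hu⟩ : J)) (Subgroup.zpowers (⟨v, hv⟩ : J))
    inferInstance inferInstance (by rw [Nat.card_zpowers, Subgroup.orderOf_mk, hou]) (by rw [Nat.card_zpowers, Subgroup.orderOf_mk, hov])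
  have h1 : (MulAut.conj g).toMonoidHom (⟨u, hu⟩ : J) ∈ Subgroup.zpowers (⟨v, hv⟩ : J) := by
    rw [hg]
    exact Subgroup.mem_map_of_mem _ (Subgroup.mem_zpowers _)
  obtain ⟨k, hk⟩ := Subgroup.mem_zpowers_iff.mp h1
  refine ⟨g.1, g.2, Subgroup.mem_zpowers_iff.mpr ⟨k, ?_⟩⟩
  have h2 := congrArg Subtype.val hk
  simpa using h2

end Cfsg.Agent.Lib.Ree
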