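import Cfsg.Agent.Lib.Ree.OpId
import Cfsg.Agent.Lib.Ree.RLI

/-! The seven-dimensional submodule of the adjoint module of `G₂` in characteristic three. -/

set_option autoImplicit false
set_option linter.unusedSimpArgs false
set_option linter.unusedVariables false
set_option linter.unusedSectionVars false

namespace Cfsg.Agent.Lib.Ree

open Cfsg Cfsg.Lie Matrix

/-- The coordinates of the submodule. -/
def isS : chevG2.Idx → Bool
  | Sum.inl i => decide (i.val = 0)
  | Sum.inr r => decide (r.val = 2 ∨ r.val = 3 ∨ r.val = 4 ∨ r.val = 7 ∨ r.val = 8 ∨ r.val = 9)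

theorem tab_cartan : ∀ r : Fin chevG2.nroots, isS (Sum.inr r) = false →
    (3 : ℤ) ∣ (chevG2.cartanSR.getD 0 #[]).getD r.val 0 := by decide +kernel

theorem tab_coroot : ∀ r : Fin chevG2.nroots, isS (Sum.inr r) = true →
    (3 : ℤ) ∣ (chevG2.coroot.getD r.val #[]).getD 1 0 := by decide +kernel

theorem tab_neg : ∀ r s : Fin chevG2.nroots, s.val = chevG2.negIdx.getD r.val 0 → isS (Sum.inr s) = true → isS (Sum.inr r) = true := by
  decide +kernel

theorem tab_chain : ∀ r s u : Fin chevG2.nroots, isS (Sum.inr s) = true → isS (Sum.inr u) = false →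
    ∀ km ∈ chevG2.chainCoeff r.val s.val u.val, (3 : ℤ) ∣ km.2 := by decide +kernel

section

variable {K : Type*} [Field K] [CharP K 3]

theorem cast_three_dvd {z : ℤ} (h : (3 : ℤ) ∣ z) : (z : K) = 0 := by
  obtain ⟨w, rfl⟩ := h
  rw [Int.cast_mul]
  have : ((3 : ℤ) : K) = 0 := by
    rw [Int.cast_ofNat]
    exact_mod_cast CharP.cast_eq_zero K 3
  rw [this, zero_mul]

/-- The entries that must vanish. -/
theorem xMat_inv (r : Fin chevG2.nroots) (t : K) (i j : chevG2.Idx) (hi : isS i = false) (hj : isS j = true) :
    chevG2.xMat K r t i j = 0 := by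
  unfold ChevalleyDatum.xMat
  rw [Matrix.of_apply]
  rcases j with j | s
  · -- column `h₁`
    rcases i with i' | u
    · have hj0 : j.val = 0 := by simpa [isS] using hj
      have hi0 : i'.val ≠ 0 := by simpa [isS] using hi
      simp only
      rw [if_neg]
      intro h
      rw [h] at hi0
      exact hi0 hj0
    · have hj0 : j.val = 0 := by simpa [isS] using hj
      simp only
      split_ifs with h
      · subst h
        have := tab_cartan u hi
        rw [hj0, cast_three_dvd this]
        simp
      · rfl
  · -- column `e_s`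
    simp only
    split_ifs with h1 h2
    · rcases i with i' | u
      · rfl
      · simp only
        rw [if_neg]
        intro h
        subst h
        subst h1
        rw [hi] at hj
        exact absurd hj (by decide)
    · rcases i with i' | u
      · simp only
        have hr := tab_neg r s h2 hj
        have hi0 : i'.val ≠ 0 := by simpa [isS] using hi
        have hi1 : i'.val = 1 := by
          have := i'.2
          change i'.val < 2 at this
          omega
        rw [hi1, cast_three_dvd (tab_coroot r hr), zero_mul]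
      · simp only
        have hr := tab_neg r s h2 hj
        rw [if_neg, if_neg]
        · intro h
          rw [← h, hi] at hr
          exact absurd hr (by decide)
        · intro h
          rw [← h, hi] at hj
          exact absurd hj (by decide)
    · rcases i with i' | u
      · rfl
      · simp only
        rw [if_neg, zero_add]
        · apply List.sum_eq_zero
          intro x hx
          obtain ⟨km, hkm, rfl⟩ := List.mem_map.mp hx
          rw [cast_three_dvd (tab_chain r s u hj hi km hkm), zero_mul]
        · intro h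
          subst h
          rw [hi] at hj
          exact absurd hj (by decide)

/-- The property that the submodule is invariant. -/
def inv7 (M : Matrix chevG2.Idx chevG2.Idx K) : Prop := ∀ i j, isS i = false → isS j = true → M i j = 0

theorem inv7_one : inv7 (1 : Matrix chevG2.Idx chevG2.Idx K) := by
  intro i j hi hj
  rw [Matrix.one_apply_ne]
  rintro rfl
  rw [hi] at hj
  exact absurd hj (by decide)

theorem inv7_mul {M N : Matrix chevG2.Idx chevG2.Idx K} (hM : inv7 M) (hN : inv7 N) : inv7 (M * N) := by
  intro i j hi hj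
  rw [Matrix.mul_apply]
  apply Finset.sum_eq_zero
  intro k _
  cases hk : isS k
  · rw [hN k j hk hj, mul_zero]
  · rw [hM i k hi hk, zero_mul]

theorem inv7_x (r : ℕ) (t : K) : inv7 (chevG2.x K r t) := by
  unfold ChevalleyDatum.x
  split_ifs with h
  · exact fun i j hi hj => xMat_inv ⟨r, h⟩ t i j hi hj
  · exact inv7_one

theorem inv7_word (w : List (ℕ × K)) : inv7 (chevG2.wordMat K w) := by
  unfold ChevalleyDatum.wordMat
  induction w with
  | nil => simpa using inv7_one
  | cons a l ih =>
    simp only [List.map_cons, List.prod_cons]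
    exact inv7_mul (inv7_x _ _) ih

theorem inv7_inv [Finite K] (g : GL chevG2.Idx K) (h : inv7 (g : Matrix chevG2.Idx chevG2.Idx K)) :
    inv7 ((g⁻¹ : GL chevG2.Idx K) : Matrix chevG2.Idx chevG2.Idx K) := by
  have hpow : ∀ n : ℕ, inv7 ((g ^ n : GL chevG2.Idx K) : Matrix chevG2.Idx chevG2.Idx K) := by
    intro n
    induction n with
    | zero => simpa using inv7_one
    | succ n ih =>
      rw [pow_succ, Units.val_mul]
      exact inv7_mul ih h
  have h1 : g⁻¹ = g ^ (orderOf g - 1) := by
    apply inv_eq_of_mul_eq_one_right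
    rw [← pow_succ', Nat.sub_add_cancel (orderOf_pos g), pow_orderOf_eq_one]
  rw [h1]
  exact hpow _

theorem inv7_gen [Finite K] (S : Set (List (ℕ × K))) {g : GL chevG2.Idx K} (hg : g ∈ chevG2.genSubgroup K S) :
    inv7 (g : Matrix chevG2.Idx chevG2.Idx K) := by
  unfold ChevalleyDatum.genSubgroup at hg
  induction hg using Subgroup.closure_induction with
  | mem x hx =>
    obtain ⟨w, -, hw⟩ := hx
    rw [hw]
    exact inv7_word w
  | one => simpa using inv7_one
  | mul x y _ _ hx hy =>
    rw [Units.val_mul]
    exact inv7_mul hx hy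
  | inv x _ hx => exact inv7_inv x hx

/-- The index set of the submodule. -/
abbrev S7 : Type := {i : chevG2.Idx // isS i = true}

theorem card_S7 : Fintype.card S7 = 7 := by decide +kernel

/-- Extension by zero. -/
def ext7 (v : S7 → K) : chevG2.Idx → K := fun i => if h : isS i = true then v ⟨i, h⟩ else 0

/-- The restriction of a matrix. -/
def rho0 (M : Matrix chevG2.Idx chevG2.Idx K) : Module.End K (S7 → K) where
  toFun v i := (M *ᵥ ext7 v) i.1
  map_add' v w := by
    have : ext7 (v + w) = ext7 v + ext7 w := by
      ext i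
      by_cases h : isS i = true <;> simp [ext7, h]
    ext i
    rw [this, Matrix.mulVec_add]
    rfl
  map_smul' c v := by
    have : ext7 (c • v) = c • ext7 v := by
      ext i
      by_cases h : isS i = true <;> simp [ext7, h]
    ext i
    rw [this, Matrix.mulVec_smul]
    rfl

theorem rho0_apply (M : Matrix chevG2.Idx chevG2.Idx K) (v : S7 → K) (i : S7) : rho0 M v i = (M *ᵥ ext7 v) i.1 := rfl

theorem ext7_rho {M : Matrix chevG2.Idx chevG2.Idx K} (hM : inv7 M) (v : S7 → K) : ext7 (rho0 M v) = M *ᵥ ext7 v := by
  ext i
  unfold ext7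
  split_ifs with h
  · rfl
  · have hi : isS i = false := by simpa using h
    symm
    simp only [Matrix.mulVec, dotProduct]
    apply Finset.sum_eq_zero
    intro j _
    by_cases hj : isS j = true
    · rw [hM i j hi hj, zero_mul]
    · rw [dif_neg hj, mul_zero]

theorem rho0_mul {M N : Matrix chevG2.Idx chevG2.Idx K} (hN : inv7 N) : rho0 (M * N) = rho0 M * rho0 N := by
  ext v i
  show rho0 (M * N) _ _ = rho0 M (rho0 N _) _
  rw [rho0_apply, rho0_apply, ext7_rho hN, Matrix.mulVec_mulVec]

theorem rho0_one : rho0 (1 : Matrix chevG2.Idx chevG2.Idx K) = 1 := by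
  ext v i
  show ((1 : Matrix chevG2.Idx chevG2.Idx K) *ᵥ ext7 _) i.1 = _
  rw [Matrix.one_mulVec]
  unfold ext7
  rw [dif_pos i.2]
  rfl

/-- The representation on the seven-dimensional module. -/
noncomputable def rhoG [Finite K] (Γ : Subgroup (GL chevG2.Idx K)) (hΓ : ∀ g ∈ Γ, inv7 ((g : GL chevG2.Idx K) : Matrix chevG2.Idx chevG2.Idx K)) :
    Γ →* Module.End K (S7 → K) where
  toFun g := rho0 ((g : GL chevG2.Idx K) : Matrix chevG2.Idx chevG2.Idx K)
  map_one' := rho0_one
  map_mul' x y := rho0_mul (hΓ y.1 y.2)

end

end Cfsg.Agent.Lib.Ree
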